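/-
Kernel-checkable local conditions for the Curtis-Tits theorem.
-/
import Cfsg.Agent.Lib.Chev.CommEngine

set_option autoImplicit false

namespace Cfsg.Agent.Chev.CT

open Cfsg.Agent.Chev

/-- A monomial letter: root, coefficient, exponent of the parameter. -/
abbrev Mon := ℕ × ℤ × ℕ

variable (P : Pk)

/-- The pair lies in a rank-two subsystem spanned by two fundamental roots. -/
def ok2 (r s : ℕ) : Bool :=
  Nat.blt r P.nroots && Nat.blt s P.nroots &&
    Nat.ble ((List.range P.rank).filter fun k => !(P.co r k == 0 && P.co s k == 0)).length 2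

/-- All pairs of roots. -/
def okAll (r s : ℕ) : Bool := Nat.blt r P.nroots && Nat.blt s P.nroots

/-- A pair for which the commutator relation is available. -/
def cOk (ok : ℕ → ℕ → Bool) (r s : ℕ) : Bool := ok r s && !(Nat.beq s r) && !(Nat.beq s (P.ng r))

/-- The word of the commutator formula at `t = ct * v ^ at`, `u = cu * v ^ au`. -/
def cW (r s : ℕ) (ct : ℤ) (eT : ℕ) (cu : ℤ) (eU : ℕ) : List Mon :=
  (P.cterms r s).map fun c =>
    (c.1, c.2.1 * (-ct) ^ c.2.2.1 * cu ^ c.2.2.2, eT * c.2.2.1 + eU * c.2.2.2)

/-- Conjugate a word by `x_p(d)`. -/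
def cj (ok : ℕ → ℕ → Bool) (p : ℕ) (d : ℤ) : List Mon → Option (List Mon)
  | [] => some []
  | u :: l => bif cOk P ok p u.1 then
      (cj ok p d l).map (fun l' => u :: cW P p u.1 (-d) 0 u.2.1 u.2.2 ++ l') else none

/-- One normalisation step. -/
def nstep (ok : ℕ → ℕ → Bool) : List Mon → List Mon
  | [] => []
  | [x] => bif x.2.1 == 0 && ok x.1 x.1 then [] else [x]
  | x :: y :: l =>
    bif x.2.1 == 0 && ok x.1 x.1 then y :: l else
    bif Nat.beq x.1 y.1 && Nat.beq x.2.2 y.2.2 && ok x.1 x.1 then (x.1, x.2.1 + y.2.1, x.2.2) :: l else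
    bif Nat.blt y.1 x.1 && cOk P ok y.1 x.1 then
      y :: x :: cW P y.1 x.1 y.2.1 y.2.2 x.2.1 x.2.2 ++ l
    else x :: nstep ok (y :: l)

/-- Iterated normalisation. -/
def nfn (ok : ℕ → ℕ → Bool) : ℕ → List Mon → List Mon
  | 0, l => l
  | n + 1, l =>
    match l with
    | [] => []
    | [x] => nstep P ok [x]
    | _ :: _ :: _ => nfn ok n (nstep P ok l)

/-- `n_p` conjugates `x_s` as expected, by the relations alone. -/
def base0 (ok : ℕ → ℕ → Bool) (i s : ℕ) : Bool :=
  ok (P.sim i) (P.sim i) && ok (P.ng (P.sim i)) (P.ng (P.sim i)) && Nat.blt s P.nroots &&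
  match (((cj P ok (P.sim i) 1 [(s, 1, 1)]).bind (cj P ok (P.ng (P.sim i)) (-1))).bind
      (cj P ok (P.sim i) 1)) with
  | none => false
  | some l => decide (nfn P ok 600 l = [(P.w i s, P.eta i s, 1)])

/-- `x_q` is a single commutator of root elements moved by `n_p` in a known way. -/
def base1 (ok : ℕ → ℕ → Bool) (i q : ℕ) : Bool :=
  ok q q && ok (P.w i q) (P.w i q) && Nat.blt q P.nroots &&
  P.allRoots.any fun a => (P.keys a).any fun b =>
    Nat.blt b P.nroots && cOk P ok a b && cOk P ok (P.w i a) (P.w i b) &&
    base0 P ok i a && base0 P ok i b &&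
    match P.cterms a b, P.cterms (P.w i a) (P.w i b) with
    | [(k, c, 1, 1)], [(k', c', 1, 1)] =>
        Nat.beq k q && Nat.beq k' (P.w i q) && decide (c * c = 1) &&
          decide (c' * P.eta i a * P.eta i b = c * P.eta i q)
    | _, _ => false

/-- The relations give the action of `n_p` on `x_s`. -/
def base (ok : ℕ → ℕ → Bool) (i s : ℕ) : Bool := base0 P ok i s || base1 P ok i s

/-- Fundamental root or negative of one. -/
def isSimp (r : ℕ) : Bool :=
  (List.range P.rank).any fun i => Nat.beq r (P.sim i) || Nat.beq r (P.ng (P.sim i))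

/-- Distance from the middle. -/
def mu (r : ℕ) : ℕ := bif P.isPos r then r else P.ng r

/-- The chosen descent. -/
def dn (r : ℕ) : ℕ :=
  ((List.range P.rank).find? fun i =>
    bif P.isPos r then Nat.blt (P.w i r) r && P.isPos (P.w i r)
    else Nat.blt r (P.w i r) && !(P.isPos (P.w i r))).getD 0

/-- The chosen descents descend. -/
def ckDn : Bool := P.allRoots.all fun r => isSimp P r ||
  (Nat.blt (dn P r) P.rank && Nat.blt (mu P (P.w (dn P r) r)) (mu P r) && Nat.blt (P.w (dn P r) r) P.nroots &&
    Nat.beq (P.w (dn P r) (P.w (dn P r) r)) r &&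
    decide (P.eta (dn P r) (P.w (dn P r) r) * P.eta (dn P r) (P.w (dn P r) r) = 1))

/-- Descents inside rank-two subsystems follow from the relations. -/
def ckBaseDef : Bool := P.allRoots.all fun r => isSimp P r || !(ok2 P r r) ||
  (ok2 P (P.w (dn P r) r) (P.w (dn P r) r) && base P (ok2 P) (dn P r) (P.w (dn P r) r))

/-- Descents follow from all Steinberg relations. -/
def ckBaseAll : Bool := P.allRoots.all fun r => isSimp P r ||
  base P (okAll P) (dn P r) (P.w (dn P r) r)

/-- Order of the product of two fundamental reflections. -/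
def mOrd (i j : ℕ) : ℕ :=
  match (P.A i (P.sim j) * P.A j (P.sim i)).toNat with
  | 0 => 2
  | 1 => 3
  | 2 => 4
  | _ => 6

/-- Alternating word of length `n` starting with `a`. -/
def altW : ℕ → ℕ → ℕ → List ℕ
  | _, _, 0 => []
  | a, b, n + 1 => a :: altW b a n

/-- Root reached after applying the word (first letter first). -/
def wRt : List ℕ → ℕ → ℕ
  | [], s => s
  | a :: l, s => wRt l (P.w a s)

/-- Sign picked up along a word. -/
def wSg : List ℕ → ℕ → ℤ
  | [], _ => 1
  | a :: l, s => P.eta a s * wSg l (P.w a s)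

/-- The step `a` at `s` is known. -/
def stepOK (r s a : ℕ) : Bool :=
  Nat.blt a P.rank && Nat.blt s P.nroots &&
  ((ok2 P s s && ok2 P (P.w a s) (P.w a s) && base P (ok2 P) a s) ||
    (Nat.blt (mu P s) (mu P r) && Nat.blt (mu P (P.w a s)) (mu P r)) ||
    (Nat.beq a (dn P r) && !(isSimp P r) && Nat.beq (P.w a s) r && Nat.beq s (P.w a r)))

/-- All steps along the word are known. -/
def pathOK (r : ℕ) : List ℕ → ℕ → Bool
  | [], _ => true
  | a :: l, s => stepOK P r s a && pathOK r l (P.w a s)

/-- Every step whose larger end is `r` follows by a braid move. -/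
def ckLocal : Bool := P.allRoots.all fun r => (List.range P.rank).all fun i =>
  let s := P.w i r
  Nat.blt (mu P r) (mu P s) || stepOK P r s i ||
  (ok2 P s s && ok2 P r r && base P (ok2 P) i s) ||
  (let j := dn P r
   let m := mOrd P i j
   let a := bif Nat.beq (m % 2) 0 then i else j
   let b := bif Nat.beq (m % 2) 0 then j else i
   let A := altW a b m
   let B := altW b a m
   -- `A` ends with `j`, `B` ends with `i`
   let r0 := wRt P A.reverse r
   Nat.blt r0 P.nroots && pathOK P r A r0 && pathOK P r B.dropLast r0 &&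
   Nat.beq (wRt P A r0) r && Nat.beq (wRt P B r0) r && Nat.beq (wRt P B.dropLast r0) s &&
   decide (wSg P A r0 = wSg P B r0) && decide (B.dropLast ++ [i] = B) && Nat.blt j P.rank)

/-- All steps along the word follow from the rank-two relations. -/
def baseAlong : List ℕ → ℕ → Bool
  | [], _ => true
  | a :: l, s => Nat.blt a P.rank && Nat.blt s P.nroots && ok2 P s s && ok2 P (P.w a s) (P.w a s) &&
      base P (ok2 P) a s && baseAlong l (P.w a s)

/-- Braid words move one fundamental root to another with sign `1`. -/
def ckBraid : Bool := (List.range P.rank).all fun a => (List.range P.rank).all fun b =>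
  Nat.beq a b ||
  (let m := mOrd P a b
   let A := altW b a (m - 1)
   let d := (altW b a m).getLastD 0
   decide (altW a b m = a :: A) && decide (A ++ [d] = altW b a m) && Nat.blt d P.rank &&
   baseAlong P A (P.sim a) && baseAlong P A (P.ng (P.sim a)) &&
   Nat.beq (wRt P A (P.sim a)) (P.sim d) && Nat.beq (wRt P A (P.ng (P.sim a))) (P.ng (P.sim d)) &&
   decide (wSg P A (P.sim a) = 1) && decide (wSg P A (P.ng (P.sim a)) = 1))

/-- The formula for the pair has a single term. -/
def short (r s : ℕ) : Bool := Nat.beq (P.len r s) 1 && Nat.beq (P.len s r) 1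

/-- The transformation of the commutator formula under one fundamental reflection. -/
def ckConjI (i : ℕ) : Bool := P.allRoots.all fun r => (P.keys r).all fun s =>
  bif short P r s && short P (P.w i r) (P.w i s) then
    Nat.beq (P.tgt (P.w i r) (P.w i s) 0) (P.w i (P.tgt r s 0)) &&
      (P.coef (P.w i r) (P.w i s) 0 == P.coef r s 0 * P.eta i r * P.eta i s * P.eta i (P.tgt r s 0))
  else decide (P.cterms (P.w i r) (P.w i s) = (P.cterms r s).map fun c =>
    (P.w i c.1, c.2.1 * P.eta i r ^ c.2.2.1 * P.eta i s ^ c.2.2.2 * P.eta i c.1, c.2.2.1, c.2.2.2))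

/-- The transformation of the commutator formula under the fundamental reflections. -/
def ckConj : Bool := (List.range P.rank).all (ckConjI P)

/-- Moves fixing the first component of a pair among the fundamental roots. -/
def movesOf (j : ℕ) : List (List ℕ) :=
  (List.range P.rank).filterMap fun i =>
    bif Nat.beq i j then none else
    bif P.A i (P.sim j) == 0 then some [i] else
    bif Nat.beq (mOrd P i j) 3 then some [i, j] else
    bif Nat.beq (mOrd P i j) 4 then some [i, j, i] else none

/-- Every pair headed by a fundamental root moves to one in a rank-two subsystem. -/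
def ckPairs : Bool := (List.range P.rank).all fun j => P.allRoots.all fun s =>
  ok2 P (P.sim j) s || (movesOf P j).any fun l =>
    let r' := wRt P l (P.sim j)
    ((List.range P.rank).any fun k => Nat.beq r' (P.sim k)) &&
      Nat.blt (mu P (wRt P l s)) (mu P s) && l.all fun a => Nat.blt a P.rank

/-- The sign by which the square of `n_p` acts. -/
def sgm (i r : ℕ) : ℤ := P.eta i r * P.eta i (P.w i r)

/-- Squares of `n_p`. -/
def ckSq : Bool := (List.range P.rank).all fun i => P.allRoots.all fun s =>
  bif isSimp P s then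
    ok2 P s s && baseAlong P [i, i] s && Nat.beq (wRt P [i, i] s) s && decide (sgm P i (P.ng s) = sgm P i s)
  else
    decide (sgm P i s = sgm P i (P.w (dn P s) s) *
      bif sgm P i (P.sim (dn P s)) == 1 then 1 else sgm P (dn P s) (P.w (dn P s) s))

/-- The commutator formula stays in the support of the pair. -/
def ckSup : Bool := P.allRoots.all fun r => (P.keys r).all fun s => (P.cterms r s).all fun c =>
  (List.range P.rank).all fun k => (!(P.co r k == 0 && P.co s k == 0)) || P.co c.1 k == 0

/-- All the local conditions. -/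
def ckAll : Bool :=
  ckDn P && ckBaseDef P && ckBaseAll P && ckLocal P && ckBraid P && ckConj P && ckPairs P && ckSq P

end Cfsg.Agent.Chev.CT
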