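/-
Checks for the action of every `n_p` on every root element from all Steinberg relations.
-/
import Cfsg.Agent.Lib.CurtisTits.Check

set_option autoImplicit false

namespace Cfsg.Agent.Chev.CT

open Cfsg.Agent.Chev

variable (P : Pk)

/-- Invert a word. -/
def invW (l : List Mon) : List Mon := l.reverse.map fun m => (m.1, -m.2.1, m.2.2)

/-- `x_q` from one commutator of root elements, moved by `n_p`. -/
def base2At (i q a b n : ℕ) : Bool :=
  let T := P.cterms a b
  match T[n]? with
  | none => false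
  | some e =>
    let c := e.2.1
    Nat.beq e.1 q && decide (c * c = 1) && Nat.beq e.2.2.1 1 &&
    cOk P (okAll P) a b && cOk P (okAll P) (P.w i a) (P.w i b) &&
    base0 P (okAll P) i a && base0 P (okAll P) i b &&
    (T.all fun k => (List.range P.rank).all fun m =>
      decide (P.rv k.1 m = Int.ofNat k.2.2.1 * P.rv a m + Int.ofNat k.2.2.2 * P.rv b m)) &&
    ((T.take n ++ T.drop (n + 1)).all fun k =>
      !(Nat.beq k.1 q) && !(Nat.beq k.1 (P.ng q)) && base0 P (okAll P) i k.1 && okAll P (P.w i k.1) (P.w i k.1)) &&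
    (let img := fun k : ℕ × ℤ × ℕ × ℕ => ((P.w i k.1, P.eta i k.1 * (k.2.1 * c ^ k.2.2.1), k.2.2.1) : Mon)
     let W' := (P.cterms (P.w i a) (P.w i b)).map fun k : ℕ × ℤ × ℕ × ℕ =>
       ((k.1, k.2.1 * (c * P.eta i a) ^ k.2.2.1 * P.eta i b ^ k.2.2.2, k.2.2.1) : Mon)
     decide (nfn P (okAll P) 600 (invW ((T.take n).map img) ++ W' ++ invW ((T.drop (n + 1)).map img)) =
       [(P.w i q, P.eta i q, 1)]))

/-- Some commutator works. -/
def base2 (i q : ℕ) : Bool :=
  P.allRoots.any fun a => (P.keys a).any fun b => Nat.blt b P.nroots &&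
    !(Nat.beq a q) && !(Nat.beq a (P.ng q)) && !(Nat.beq b q) && !(Nat.beq b (P.ng q)) &&
    (List.range 4).any fun n => base2At P i q a b n

/-- Every `n_p` acts as expected on every root. -/
def ckUpI (i : ℕ) : Bool := P.allRoots.all fun s =>
  bif Nat.beq s (P.sim i) || Nat.beq s (P.ng (P.sim i)) then base2 P i s else base0 P (okAll P) i s

/-- All of them. -/
def ckUp2 : Bool := (List.range P.rank).all (ckUpI P)

end Cfsg.Agent.Chev.CT
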