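/- Kernel checks of the full action conditions for type D4. -/
import Cfsg.Agent.Lib.CurtisTits.Check2
import Cfsg.Agent.Lib.Chev.Data.D4

set_option autoImplicit false
set_option Elab.async false

namespace Cfsg.Agent.Chev.CT.UpD4

open Cfsg.Agent.Chev

theorem up0 : ckUpI Chev.D4.pk 0 = true := by decide +kernel

theorem up1 : ckUpI Chev.D4.pk 1 = true := by decide +kernel

theorem up2 : ckUpI Chev.D4.pk 2 = true := by decide +kernel

theorem up3 : ckUpI Chev.D4.pk 3 = true := by decide +kernel

theorem up_ok : ckUp2 Chev.D4.pk = true := by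
  rw [ckUp2, List.all_eq_true]
  intro i hi
  have hi : i < 4 := List.mem_range.1 hi
  match i, hi with
  | 0, _ => exact up0
  | 1, _ => exact up1
  | 2, _ => exact up2
  | 3, _ => exact up3
  | _ + 4, h => omega

theorem eta_sim : ∀ i < Chev.D4.pk.rank, Chev.D4.pk.eta i (Chev.D4.pk.sim i) = -1 := by
  decide +kernel

end Cfsg.Agent.Chev.CT.UpD4
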