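/-
Families of elements satisfying Steinberg's relations on a prescribed set of pairs of roots, and the
consequences extracted from the local checks.
-/
import Cfsg.Agent.Lib.CurtisTits.Check
import Cfsg.Agent.Lib.Chev.Comm

set_option autoImplicit false
set_option maxHeartbeats 1000000

namespace Cfsg.Agent.Chev.CT

open Cfsg.Agent.Chev

variable {P : Pk} {K : Type*} [Field K] {G : Type*} [Group G]

/-- Right-hand side of the commutator formula on given root elements. -/
def rhsW (P : Pk) (x : ℕ → K → G) (r s : ℕ) (t u : K) : G :=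
  ((P.cterms r s).map fun c => x c.1 ((c.2.1 : K) * (-t) ^ c.2.2.1 * u ^ c.2.2.2)).prod

/-- `n_r(t)`. -/
def nEl (P : Pk) (x : ℕ → K → G) (r : ℕ) (t : K) : G := x r t * x (P.ng r) (-t⁻¹) * x r t

/-- `h_r(t)`. -/
def hEl (P : Pk) (x : ℕ → K → G) (r : ℕ) (t : K) : G := nEl P x r t * nEl P x r (-1)

/-- Steinberg's relations (R1), (R2) on the pairs allowed by `ok`. -/
structure Rel (P : Pk) (ok : ℕ → ℕ → Bool) (x : ℕ → K → G) : Prop where
  add : ∀ r, ok r r = true → ∀ t u, x r t * x r u = x r (t + u)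
  comm : ∀ r s, cOk P ok r s = true → ∀ t u,
    (x s u)⁻¹ * (x r t)⁻¹ * x s u * x r t = rhsW P x r s t u

/-- Steinberg's relations on the pairs allowed by `ok`. -/
structure Rep (P : Pk) (ok : ℕ → ℕ → Bool) (x : ℕ → K → G) : Prop extends Rel P ok x where
  mul : ∀ r, ok r r = true → ∀ t u : K, t ≠ 0 → u ≠ 0 → hEl P x r t * hEl P x r u = hEl P x r (t * u)

/-- The element `n_p`. -/
def nS (P : Pk) (x : ℕ → K → G) (i : ℕ) : G := nEl P x (P.sim i) 1

/-- The product along a word, first letter acting first. -/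
def gW (P : Pk) (x : ℕ → K → G) : List ℕ → G
  | [] => 1
  | a :: l => gW P x l * nS P x a

theorem gW_append (x : ℕ → K → G) (l : List ℕ) (a : ℕ) :
    gW P x (l ++ [a]) = nS P x a * gW P x l := by
  induction l with
  | nil => simp [gW]
  | cons b l ih => simp [gW, ih, mul_assoc]

theorem wRt_append (l : List ℕ) (a s : ℕ) : wRt P (l ++ [a]) s = P.w a (wRt P l s) := by
  induction l generalizing s with
  | nil => rfl
  | cons b l ih => simp [wRt, ih]

theorem wSg_append (l : List ℕ) (a s : ℕ) :
    wSg P (l ++ [a]) s = wSg P l s * P.eta a (wRt P l s) := by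
  induction l generalizing s with
  | nil => simp [wSg, wRt]
  | cons b l ih => simp [wSg, wRt, ih, mul_assoc]

/-- Conjugation by `n_p` moves one root element as expected. -/
def Up (P : Pk) (x y : ℕ → K → G) (i s : ℕ) : Prop :=
  ∀ t : K, nS P x i * y s t * (nS P x i)⁻¹ = y (P.w i s) ((P.eta i s : K) * t)

/-- The relevant steps along a word. -/
def UpAlong (P : Pk) (x y : ℕ → K → G) : List ℕ → ℕ → Prop
  | [], _ => True
  | a :: l, s => Up P x y a s ∧ UpAlong P x y l (P.w a s)

theorem gW_conj {x y : ℕ → K → G} (l : List ℕ) : ∀ (s : ℕ), UpAlong P x y l s → ∀ t : K,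
    gW P x l * y s t * (gW P x l)⁻¹ = y (wRt P l s) ((wSg P l s : K) * t) := by
  induction l with
  | nil => intro s _ t; simp [gW, wRt, wSg]
  | cons a l ih =>
    intro s hs t
    have e : gW P x (a :: l) * y s t * (gW P x (a :: l))⁻¹ =
        gW P x l * (nS P x a * y s t * (nS P x a)⁻¹) * (gW P x l)⁻¹ := by simp [gW, mul_assoc]
    rw [e, hs.1, ih _ hs.2]
    simp [wRt, wSg, mul_comm, mul_left_comm, mul_assoc]

theorem eta_sq (i s : ℕ) : P.eta i s * P.eta i s = 1 := by
  unfold Pk.eta; cases Nat.beq ((P.signs i >>> s) &&& 1) 1 <;> rfl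

theorem wSg_sq (l : List ℕ) : ∀ s, wSg P l s * wSg P l s = 1 := by
  induction l with
  | nil => simp [wSg]
  | cons a l ih => intro s; rw [wSg, mul_mul_mul_comm, eta_sq, ih, one_mul]

theorem cast_sq {c : ℤ} (h : c * c = 1) : (c : K) * (c : K) = 1 := by
  rw [← Int.cast_mul, h, Int.cast_one]

theorem cancel_sq {c : ℤ} (h : c * c = 1) (t : K) : (c : K) * ((c : K) * t) = t := by
  rw [← mul_assoc, cast_sq h, one_mul]

theorem cast_sign {c : ℤ} (h : c * c = 1) : (c : K) = 1 ∨ (c : K) = -1 := by
  rcases Int.eq_one_or_neg_one_of_mul_eq_one h with rfl | rfl <;> simp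

theorem sign_ne_zero {c : ℤ} (h : c * c = 1) : (c : K) ≠ 0 := by
  intro e; have := cast_sq (K := K) h; rw [e] at this; simp at this

theorem sign_inv {c : ℤ} (h : c * c = 1) : ((c : K))⁻¹ = (c : K) :=
  inv_eq_of_mul_eq_one_right (cast_sq h)

/-! ### The engine -/

/-- Evaluation of a word at `v`. -/
def ev (x : ℕ → K → G) (v : K) (l : List Mon) : G :=
  (l.map fun m => x m.1 ((m.2.1 : K) * v ^ m.2.2)).prod

theorem cOk_iff {ok : ℕ → ℕ → Bool} {r s : ℕ} :
    cOk P ok r s = true ↔ ok r s = true ∧ s ≠ r ∧ s ≠ P.ng r := by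
  simp [cOk, nbeq, and_assoc]

section Rep

variable {ok : ℕ → ℕ → Bool} {x : ℕ → K → G} (R : Rel P ok x)
include R

theorem x_zero {r : ℕ} (h : ok r r = true) : x r (0 : K) = 1 := by
  have := R.add r h 0 0
  rw [add_zero] at this
  exact mul_eq_left.1 this

theorem x_inv {r : ℕ} (h : ok r r = true) (t : K) : (x r t)⁻¹ = x r (-t) := by
  refine inv_eq_of_mul_eq_one_right ?_
  rw [R.add r h, add_neg_cancel, x_zero R h]

theorem ev_cW (r s : ℕ) (v : K) (ct : ℤ) (eT : ℕ) (cu : ℤ) (eU : ℕ) :
    ev x v (cW P r s ct eT cu eU) = rhsW P x r s ((ct : K) * v ^ eT) ((cu : K) * v ^ eU) := by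
  unfold ev cW rhsW
  rw [List.map_map]
  congr 1
  refine List.map_congr_left fun c _ => ?_
  simp only [Function.comp_apply]
  congr 1
  push_cast
  rw [pow_add, pow_mul, pow_mul, mul_pow, neg_mul_eq_neg_mul, mul_pow]
  ring

theorem swap_eq {r s : ℕ} (h : cOk P ok r s = true) (t u : K) :
    x s u * x r t = x r t * x s u * rhsW P x r s t u := by
  rw [← R.comm r s h t u]; group

theorem cj_sound {p : ℕ} (hp : ok p p = true) (d : ℤ) (v : K) :
    ∀ l l' : List Mon, cj P ok p d l = some l' → x p (d : K) * ev x v l * (x p (d : K))⁻¹ = ev x v l' := by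
  intro l
  induction l with
  | nil =>
    intro l' e
    simp only [cj, Option.some.injEq] at e
    subst e; simp [ev]
  | cons u l ih =>
    intro l' e
    by_cases hc : cOk P ok p u.1 = true
    · simp only [cj, hc, cond_true, Option.map_eq_some_iff] at e
      obtain ⟨l₀, h0, rfl⟩ := e
      have h1 : x p (d : K) * x u.1 ((u.2.1 : K) * v ^ u.2.2) * (x p (d : K))⁻¹ =
          x u.1 ((u.2.1 : K) * v ^ u.2.2) * ev x v (cW P p u.1 (-d) 0 u.2.1 u.2.2) := by
        rw [ev_cW R, mul_assoc, x_inv R hp, swap_eq R hc, ← mul_assoc, ← mul_assoc]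
        simp [R.add p hp, x_zero R hp]
      have h2 := ih l₀ h0
      simp only [ev, List.map_cons, List.prod_cons, List.map_append, List.prod_append] at h1 h2 ⊢
      rw [← h1, ← h2]
      group
    · simp [cj, hc] at e

theorem nstep_sound (v : K) : ∀ l : List Mon, ev x v (nstep P ok l) = ev x v l := by
  intro l
  induction l with
  | nil => rfl
  | cons a l ih =>
    cases l with
    | nil =>
      simp only [nstep]
      by_cases h : (a.2.1 == 0 && ok a.1 a.1) = true
      · simp only [h, cond_true]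
        simp only [Bool.and_eq_true, beq_iff_eq] at h
        simp [ev, h.1, x_zero R h.2]
      · simp [h]
    | cons y l =>
      simp only [nstep]
      by_cases h : (a.2.1 == 0 && ok a.1 a.1) = true
      · simp only [h, cond_true]
        simp only [Bool.and_eq_true, beq_iff_eq] at h
        simp [ev, h.1, x_zero R h.2]
      simp only [h, cond_false]
      by_cases h2 : (Nat.beq a.1 y.1 && Nat.beq a.2.2 y.2.2 && ok a.1 a.1) = true
      · simp only [h2, cond_true]
        simp only [Bool.and_eq_true, nbeq, decide_eq_true_eq] at h2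
        obtain ⟨⟨e1, e2⟩, e3⟩ := h2
        simp only [ev, List.map_cons, List.prod_cons, Int.cast_add, add_mul]
        rw [← mul_assoc, ← R.add a.1 e3, ← e1, ← e2]
      simp only [h2, cond_false]
      by_cases h3 : (Nat.blt y.1 a.1 && cOk P ok y.1 a.1) = true
      · simp only [h3, cond_true]
        simp only [Bool.and_eq_true] at h3
        have e := swap_eq R h3.2 ((y.2.1 : K) * v ^ y.2.2) ((a.2.1 : K) * v ^ a.2.2)
        have e' := ev_cW R y.1 a.1 v y.2.1 y.2.2 a.2.1 a.2.2
        simp only [ev, List.map_cons, List.prod_cons, List.cons_append, List.map_append,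
          List.prod_append] at e' ⊢
        rw [e', ← mul_assoc, ← mul_assoc, ← e]
        group
      simp only [h3, cond_false]
      simp only [ev, List.map_cons, List.prod_cons] at ih ⊢
      rw [ih]

theorem nfn_sound (v : K) : ∀ (n : ℕ) (l : List Mon), ev x v (nfn P ok n l) = ev x v l := by
  intro n
  induction n with
  | zero => intro l; rfl
  | succ n ih =>
    intro l
    unfold nfn
    split
    · rfl
    · rw [nstep_sound R]
    · rw [ih, nstep_sound R]

theorem base0_sound {i s : ℕ} (h : base0 P ok i s = true) : Up P x x i s := by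
  intro t
  simp only [base0, Bool.and_eq_true] at h
  obtain ⟨⟨⟨hp, hq⟩, -⟩, h⟩ := h
  split at h
  · simp at h
  next l hl =>
    simp only [Option.bind_eq_some_iff] at hl
    obtain ⟨l₂, ⟨l₁, h1, h2⟩, h3⟩ := hl
    have a1 := cj_sound R hp 1 t _ _ h1
    have a2 := cj_sound R hq (-1) t _ _ h2
    have a3 := cj_sound R hp 1 t _ _ h3
    have h' : nfn P ok 600 l = [(P.w i s, P.eta i s, 1)] := by simpa using h
    rw [← nfn_sound R t 600 l, h', ← a2, ← a1] at a3
    simp only [ev, List.map_cons, List.map_nil, List.prod_cons, List.prod_nil, mul_one, Int.cast_one,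
      Int.cast_neg, pow_one, one_mul] at a3
    rw [← a3, nS, nEl, inv_one]
    group

theorem base1_sound {i q : ℕ} (h : base1 P ok i q = true) : Up P x x i q := by
  intro t
  simp only [base1, Bool.and_eq_true, List.any_eq_true] at h
  obtain ⟨-, a, -, b, -, ⟨⟨⟨⟨-, hab⟩, hab'⟩, ha⟩, hb⟩, hm⟩ := h
  split at hm
  next k c k' c' e e' =>
    simp only [Bool.and_eq_true, nbeq, decide_eq_true_eq] at hm
    obtain ⟨⟨⟨rfl, rfl⟩, hc⟩, hcc⟩ := hm
    have h1 := R.comm a b hab (-((c : K) * t)) 1
    have h2 := R.comm (P.w i a) (P.w i b) hab' ((P.eta i a : K) * -((c : K) * t)) ((P.eta i b : K) * 1)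
    simp only [rhsW, e, List.map_cons, List.map_nil, List.prod_cons, List.prod_nil, mul_one] at h1
    simp only [rhsW, e', List.map_cons, List.map_nil, List.prod_cons, List.prod_nil, mul_one] at h2
    rw [show (c : K) * (-(-((c : K) * t))) ^ 1 * (1 : K) ^ 1 = t by simp [cancel_sq hc]] at h1
    rw [← h1]
    have key : (c' : K) * (-((P.eta i a : K) * -((c : K) * t))) ^ 1 * ((P.eta i b : K)) ^ 1 =
        (P.eta i k : K) * t := by
      have := congrArg (fun z : ℤ => (z : K)) hcc
      push_cast at this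
      rw [pow_one, pow_one]
      calc _ = ((c' : K) * (P.eta i a : K) * (P.eta i b : K)) * ((c : K) * t) := by ring
        _ = _ := by rw [this]; rw [mul_assoc, mul_left_comm, cancel_sq hc]
    rw [key] at h2
    rw [← h2, ← base0_sound R ha, ← mul_one ((P.eta i b : K)), ← base0_sound R hb]
    group
  next => simp at hm

theorem base_sound {i s : ℕ} (h : base P ok i s = true) : Up P x x i s := by
  simp only [base, Bool.or_eq_true] at h
  exact h.elim (base0_sound R) (base1_sound R)

theorem nEl_neg {r : ℕ} (h : ok r r = true) (h' : ok (P.ng r) (P.ng r) = true) (a : K) :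
    nEl P x r (-a) = (nEl P x r a)⁻¹ := by
  simp only [nEl, mul_inv_rev, x_inv R h, x_inv R h', inv_neg, neg_neg, mul_assoc]

end Rep

theorem nEl_conj {x y : ℕ → K → G} {g : G} {r r' : ℕ} {c : ℤ} (hc : c * c = 1)
    (h1 : ∀ t, g * x r t * g⁻¹ = y r' ((c : K) * t))
    (h2 : ∀ t, g * x (P.ng r) t * g⁻¹ = y (P.ng r') ((c : K) * t)) (t : K) :
    g * nEl P x r t * g⁻¹ = nEl P y r' ((c : K) * t) := by
  have : -((c : K) * t)⁻¹ = (c : K) * -t⁻¹ := by rw [mul_inv, sign_inv hc, mul_neg]
  rw [nEl, nEl, this, ← h1, ← h2]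
  group

end Cfsg.Agent.Chev.CT
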