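/-
Groups generated by root elements subject to Steinberg's relations (R1), (R2): the map onto the
Chevalley group has central kernel inside the torus.
-/
import Cfsg.Agent.Lib.CurtisTits.Rep
import Cfsg.Agent.Lib.CurtisTits.Check2
import Cfsg.Agent.Lib.Chev.Bruhat

set_option autoImplicit false
set_option linter.unusedSectionVars false
set_option maxHeartbeats 1000000

namespace Cfsg.Agent.Chev.CT

open Cfsg.Agent.Chev Cfsg.Lie

variable {D : ChevalleyDatum} {P : Pk} {K : Type*} [Field K] {C : Type*} [Group C]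

theorem prod_conj {G : Type*} [Group G] (g : G) {ι : Type*} (L : List ι) (f : ι → G) :
    g * (L.map f).prod * g⁻¹ = (L.map fun k => g * f k * g⁻¹).prod := by
  rw [← MulAut.conj_apply, map_list_prod, List.map_map]
  rfl

theorem conj_comm4 {G : Type*} [Group G] (g a b : G) :
    g * (a⁻¹ * b⁻¹ * a * b) * g⁻¹ = (g * a * g⁻¹)⁻¹ * (g * b * g⁻¹)⁻¹ * (g * a * g⁻¹) * (g * b * g⁻¹) := by
  group

/-- The data: a group with root elements satisfying (R1), (R2), generated by them, over the Chevalley group. -/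
structure Cov (D : ChevalleyDatum) (P : Pk) (x : ℕ → K → C) (θ : C →* GL D.Idx K) : Prop where
  okD : Ok D P
  cC : P.ckComm = true
  up : ckUp2 P = true
  rel : Rel P (okAll P) x
  gen : ∀ S : Subgroup C, (∀ r < P.nroots, ∀ t, x r t ∈ S) → S = ⊤
  img : ∀ r < P.nroots, ∀ t, θ (x r t) = okD.xG r t

/-- Subgroup generated by root elements. -/
def genC (x : ℕ → K → C) (S : ℕ → Prop) : Subgroup C :=
  Subgroup.closure {g | ∃ (r : ℕ) (t : K), S r ∧ g = x r t}

theorem x_mem_genC (x : ℕ → K → C) {S : ℕ → Prop} {r : ℕ} (hr : S r) (t : K) : x r t ∈ genC x S :=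
  Subgroup.subset_closure ⟨r, t, hr, rfl⟩

theorem genC_le (x : ℕ → K → C) {S : ℕ → Prop} {T : Subgroup C} (e : ∀ r, S r → ∀ t, x r t ∈ T) :
    genC x S ≤ T := by
  refine (Subgroup.closure_le _).2 ?_
  rintro g ⟨r, t, hr, rfl⟩
  exact e r hr t

/-- Roots with a coordinate of a given sign away from `i`. -/
def OutS (P : Pk) (σ : ℤ) (i a : ℕ) : Prop := a < P.nroots ∧ ∃ m < P.rank, m ≠ i ∧ 0 < σ * P.rv a m

section Cov

variable {x : ℕ → K → C} {θ : C →* GL D.Idx K} (H : Cov D P x θ)
include H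

theorem x_addC {r : ℕ} (hr : r < P.nroots) (t u : K) : x r t * x r u = x r (t + u) :=
  H.rel.add r (by simp [okAll, hr]) t u

theorem x_zeroC {r : ℕ} (hr : r < P.nroots) : x r (0 : K) = 1 :=
  x_zero H.rel (by simp [okAll, hr])

theorem x_invC {r : ℕ} (hr : r < P.nroots) (t : K) : (x r t)⁻¹ = x r (-t) :=
  x_inv H.rel (by simp [okAll, hr]) t

theorem commC {r s : ℕ} (hr : r < P.nroots) (hs : s < P.nroots) (hsr : s ≠ r) (hsn : s ≠ P.ng r) (t u : K) :
    (x s u)⁻¹ * (x r t)⁻¹ * x s u * x r t = rhsW P x r s t u :=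
  H.rel.comm r s (cOk_iff.2 ⟨by simp [okAll, hr, hs], hsr, hsn⟩) t u

theorem ev_append (v : K) (l m : List Mon) : ev x v (l ++ m) = ev x v l * ev x v m := by
  simp [ev]

theorem ev_invW (v : K) : ∀ l : List Mon, (∀ m ∈ l, m.1 < P.nroots) → ev x v (invW l) = (ev x v l)⁻¹ := by
  intro l
  induction l with
  | nil => intro _; simp [ev, invW]
  | cons a l ih =>
    intro hl
    have e : invW (a :: l) = invW l ++ [(a.1, -a.2.1, a.2.2)] := by simp [invW]
    rw [e, ev_append H, ih fun m hm => hl m (List.mem_cons_of_mem _ hm)]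
    simp [ev, x_invC H (hl a List.mem_cons_self)]

/-- A single commutator expresses `x_q`. -/
theorem decomp {q a b n : ℕ} {e : ℕ × ℤ × ℕ × ℕ} (ha : a < P.nroots) (hb : b < P.nroots)
    (hba : b ≠ a) (hbn : b ≠ P.ng a) (he : (P.cterms a b)[n]? = some e) (hq : e.1 = q)
    (hc : e.2.1 * e.2.1 = 1) (hi : e.2.2.1 = 1) (v : K) :
    let f : ℕ × ℤ × ℕ × ℕ → C := fun k =>
      x k.1 ((k.2.1 : K) * (-(-((e.2.1 : K) * v))) ^ k.2.2.1 * (1 : K) ^ k.2.2.2)
    (((P.cterms a b).take n).map f).prod * x q v * (((P.cterms a b).drop (n + 1)).map f).prod =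
      (x b 1)⁻¹ * (x a (-((e.2.1 : K) * v)))⁻¹ * x b 1 * x a (-((e.2.1 : K) * v)) := by
  intro f
  rw [commC H ha hb hba hbn]
  obtain ⟨hn, rfl⟩ := List.getElem?_eq_some_iff.1 he
  have hsplit : P.cterms a b = (P.cterms a b).take n ++ (P.cterms a b)[n] :: (P.cterms a b).drop (n + 1) := by
    rw [← List.drop_eq_getElem_cons hn, List.take_append_drop]
  set G : ℕ × ℤ × ℕ × ℕ → C := fun k =>
    x k.1 ((k.2.1 : K) * (-(-(((P.cterms a b)[n].2.1 : K) * v))) ^ k.2.2.1 * (1 : K) ^ k.2.2.2) with hG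
  have hGe : G (P.cterms a b)[n] = x q v := by simp [hG, hq, hi, cancel_sq hc]
  show ((List.take n (P.cterms a b)).map G).prod * x q v * ((List.drop (n + 1) (P.cterms a b)).map G).prod =
    ((P.cterms a b).map G).prod
  have e := congrArg (fun L => (List.map G L).prod) hsplit
  simp only [List.map_append, List.prod_append, List.map_cons, List.prod_cons] at e
  rw [e, hGe, mul_assoc]

theorem ck_base2 {i q : ℕ} (hi : i < P.rank) (hq : q = P.sim i ∨ q = P.ng (P.sim i)) :
    ∃ a b n, a < P.nroots ∧ b < P.nroots ∧ a ≠ q ∧ a ≠ P.ng q ∧ b ≠ q ∧ b ≠ P.ng q ∧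
      base2At P i q a b n = true := by
  have := H.up
  simp only [ckUp2, ckUpI, List.all_eq_true, List.mem_range, Pk.mem_allRoots] at this
  have hqn : q < P.nroots := by
    rcases hq with rfl | rfl
    · exact H.okD.sim_lt hi
    · exact Ok.ng_lt (H.okD.sim_lt hi)
  have h1 := this i hi q hqn
  have hc : (Nat.beq q (P.sim i) || Nat.beq q (P.ng (P.sim i))) = true := by
    simpa [nbeq] using hq
  rw [hc, cond_true] at h1
  simp only [base2, List.any_eq_true, Bool.and_eq_true, Pk.mem_allRoots, Bool.not_eq_true', nbeq,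
    decide_eq_false_iff_not, Nat.blt_eq] at h1
  obtain ⟨a, ha, b, -, ⟨⟨⟨⟨hb, h2⟩, h3⟩, h4⟩, h5⟩, n, -, hn⟩ := h1
  exact ⟨a, b, n, ha, hb, h2, h3, h4, h5, hn⟩

/-- Every `n_p` moves every root element as expected. -/
theorem up_all {i s : ℕ} (hi : i < P.rank) (hs : s < P.nroots) : Up P x x i s := by
  by_cases hp : s = P.sim i ∨ s = P.ng (P.sim i)
  · intro v
    obtain ⟨a, b, n, ha, hb, -, -, -, -, hn⟩ := ck_base2 H hi hp
    unfold base2At at hn
    simp only at hn
    split at hn
    · simp at hn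
    next e he =>
      simp only [Bool.and_eq_true, nbeq, decide_eq_true_eq, List.all_eq_true] at hn
      obtain ⟨⟨⟨⟨⟨⟨⟨⟨⟨hq, hc⟩, h1⟩, hab⟩, hab'⟩, h0a⟩, h0b⟩, -⟩, hrest⟩, hfin⟩ := hn
      obtain ⟨-, hba, hbn⟩ := cOk_iff.1 hab
      have hd := decomp H ha hb hba hbn he hq hc h1 v
      simp only at hd
      set t : K := -((e.2.1 : K) * v)
      set f : ℕ × ℤ × ℕ × ℕ → C := fun k => x k.1 ((k.2.1 : K) * (-t) ^ k.2.2.1 * (1 : K) ^ k.2.2.2)
      set T := P.cterms a b
      set img : ℕ × ℤ × ℕ × ℕ → Mon := fun k => (P.w i k.1, P.eta i k.1 * (k.2.1 * e.2.1 ^ k.2.2.1), k.2.2.1)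
      have hmem : ∀ L : List (ℕ × ℤ × ℕ × ℕ), (∀ k ∈ L, k ∈ T.take n ++ T.drop (n + 1)) →
          nS P x i * (L.map f).prod * (nS P x i)⁻¹ = ev x v (L.map img) ∧ ∀ m ∈ L.map img, m.1 < P.nroots := by
        intro L hL
        refine ⟨?_, fun m hm => ?_⟩
        · rw [prod_conj, ev, List.map_map]
          refine congrArg List.prod (List.map_congr_left fun k hk => ?_)
          simp only [f, Function.comp_apply]
          rw [base0_sound H.rel (hrest k (hL k hk)).1.2]
          congr 1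
          simp only [img, t, neg_neg, one_pow, mul_one]
          push_cast
          rw [mul_pow]; ring
        · obtain ⟨k, hk, rfl⟩ := List.mem_map.1 hm
          have := (hrest k (hL k hk)).2
          simp only [okAll, Bool.and_eq_true, Nat.blt_eq] at this
          exact this.1
      obtain ⟨epre, hpre⟩ := hmem (T.take n) fun k hk => List.mem_append_left _ hk
      obtain ⟨esuf, hsuf⟩ := hmem (T.drop (n + 1)) fun k hk => List.mem_append_right _ hk
      have ecomm : nS P x i * ((x b 1)⁻¹ * (x a t)⁻¹ * x b 1 * x a t) * (nS P x i)⁻¹ =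
          ev x v ((P.cterms (P.w i a) (P.w i b)).map fun k : ℕ × ℤ × ℕ × ℕ =>
            ((k.1, k.2.1 * (e.2.1 * P.eta i a) ^ k.2.2.1 * P.eta i b ^ k.2.2.2, k.2.2.1) : Mon)) := by
        rw [conj_comm4, base0_sound H.rel h0a, base0_sound H.rel h0b, H.rel.comm _ _ hab', rhsW, ev,
          List.map_map]
        refine congrArg List.prod (List.map_congr_left fun k _ => ?_)
        simp only [Function.comp_apply, t]
        congr 1
        push_cast
        rw [mul_one, mul_neg, neg_neg, mul_pow, mul_pow, mul_pow]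
        ring
      have key : nS P x i * x s v * (nS P x i)⁻¹ =
          (nS P x i * ((T.take n).map f).prod * (nS P x i)⁻¹)⁻¹ *
            (nS P x i * ((x b 1)⁻¹ * (x a t)⁻¹ * x b 1 * x a t) * (nS P x i)⁻¹) *
            (nS P x i * ((T.drop (n + 1)).map f).prod * (nS P x i)⁻¹)⁻¹ := by
        rw [← hd]; group
      rw [key, epre, esuf, ecomm, ← ev_invW H v _ hpre, ← ev_invW H v _ hsuf, ← ev_append H, ← ev_append H,
        ← nfn_sound H.rel v 600, hfin]
      simp [ev]
  · have := H.up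
    simp only [ckUp2, ckUpI, List.all_eq_true, List.mem_range, Pk.mem_allRoots] at this
    have h1 := this i hi s hs
    have hc : (Nat.beq s (P.sim i) || Nat.beq s (P.ng (P.sim i))) = false := by
      simpa [nbeq] using hp
    rw [hc, cond_false] at h1
    exact base0_sound H.rel h1

theorem upAlongC : ∀ (l : List ℕ) (s : ℕ), WordOk P l → s < P.nroots → UpAlong P x x l s := by
  intro l
  induction l with
  | nil => intro s _ _; trivial
  | cons a l ih =>
    intro s hl hs
    exact ⟨up_all H hl.head hs, ih _ hl.tail (H.okD.w_lt hl.head hs)⟩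

omit H in
/-- Product of the `n_p` along a word, last letter first. -/
def nWC (P : Pk) (x : ℕ → K → C) (l : List ℕ) : C := (l.map (nS P x)).prod

theorem nWC_conj : ∀ l, WordOk P l → ∀ r < P.nroots, ∃ c : ℤ, c * c = 1 ∧
    (∀ t, nWC P x l * x r t * (nWC P x l)⁻¹ = x (wl P l r) ((c : K) * t)) ∧
    (∀ t, nWC P x l * x (P.ng r) t * (nWC P x l)⁻¹ = x (P.ng (wl P l r)) ((c : K) * t)) := by
  intro l
  induction l with
  | nil => intro _ r _; exact ⟨1, one_mul 1, fun t => by simp [nWC, wl], fun t => by simp [nWC, wl]⟩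
  | cons i l ih =>
    intro hl r hr
    obtain ⟨c, hc, h1, h2⟩ := ih hl.tail r hr
    have hw := H.okD.wl_lt l hl.tail r hr
    have hg : ∀ g : C, nWC P x (i :: l) * g * (nWC P x (i :: l))⁻¹ =
        nS P x i * (nWC P x l * g * (nWC P x l)⁻¹) * (nS P x i)⁻¹ := by
      intro g; simp [nWC, mul_assoc]
    refine ⟨P.eta i (wl P l r) * c, by rw [mul_mul_mul_comm, eta_sq, hc, one_mul], fun t => ?_, fun t => ?_⟩
    · rw [hg, h1, up_all H hl.head hw]
      simp [wl, mul_assoc]
    · rw [hg, h2, up_all H hl.head (Ok.ng_lt hw), H.okD.w_ng hl.head hw, H.okD.eta_ng hl.head hw]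
      simp [wl, mul_assoc]

theorem img_nEl {r : ℕ} (hr : r < P.nroots) (t : K) : θ (nEl P x r t) = H.okD.nt r t := by
  simp [nEl, Ok.nt, map_mul, H.img _ hr, H.img _ (Ok.ng_lt hr)]

theorem img_hEl {r : ℕ} (hr : r < P.nroots) (t : K) : θ (hEl P x r t) = H.okD.ht r t := by
  simp [hEl, Ok.ht, map_mul, img_nEl H hr]

theorem img_nWC : ∀ l, WordOk P l → θ (nWC P x l) = H.okD.nW l := by
  intro l
  induction l with
  | nil => intro _; simp [nWC, Ok.nW]
  | cons i l ih =>
    intro hl
    have := ih hl.tail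
    simp only [nWC] at this
    simp [nWC, map_mul, this, Ok.nW_cons, nS, img_nEl H (H.okD.sim_lt hl.head), Ok.nG]

theorem img_genC {S : ℕ → Prop} (hS : ∀ r, S r → r < P.nroots) {g : C} (hg : g ∈ genC x S) :
    θ g ∈ H.okD.genR (F := K) S := by
  have : genC x S ≤ (H.okD.genR (F := K) S).comap θ := genC_le x fun r hr t => by
    rw [Subgroup.mem_comap, H.img r (hS r hr)]
    exact H.okD.xG_mem_genR hr t
  exact this hg

/-- Root elements whose commutators stay in the set normalise the generated subgroup. -/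
theorem genC_normalizer {S : ℕ → Prop} (hSlt : ∀ s, S s → s < P.nroots) {r : ℕ} (hr : r < P.nroots)
    (hS : ∀ s, S s → s = r ∨ (s ≠ P.ng r ∧ ∀ c ∈ P.cterms r s, S c.1)) (t : K) :
    x r t ∈ Subgroup.normalizer (genC x S : Set C) := by
  have key : ∀ t : K, ∀ g ∈ genC x S, x r t * g * (x r t)⁻¹ ∈ genC x S := by
    intro t
    have : genC x S ≤ (genC x S).comap (MulAut.conj (x r t)).toMonoidHom := genC_le x fun s hs u => by
      rw [Subgroup.mem_comap, MulEquiv.coe_toMonoidHom, MulAut.conj_apply]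
      by_cases hsr : s = r
      · subst hsr
        rw [x_addC H hr, x_invC H hr, x_addC H hr]
        exact x_mem_genC x hs _
      obtain ⟨hsn, hc⟩ := (hS s hs).resolve_left hsr
      have e : x r t * x s u * (x r t)⁻¹ = x s u * rhsW P x r s (-t) u := by
        rw [← commC H hr (hSlt s hs) hsr hsn, x_invC H hr, x_invC H hr, neg_neg]
        group
      rw [e]
      refine mul_mem (x_mem_genC x hs _) (list_prod_mem ?_)
      intro y hy
      obtain ⟨c, hc', rfl⟩ := List.mem_map.1 hy
      exact x_mem_genC x (hc c hc') _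
    exact fun g hg => this hg
  refine Subgroup.mem_normalizer_iff.2 fun g => ⟨key t g, fun hg => ?_⟩
  have := key (-t) _ hg
  rw [← x_invC H hr] at this
  simpa [mul_assoc] using this

/-- Elements generated by a closed set of positive roots are ordered products. -/
theorem exists_prodC : ∀ L : List ℕ, L.Pairwise (· < ·) →
    (∀ r ∈ L, P.isPos r = true) → ClosedL P L → ∀ g ∈ genC x (· ∈ L),
    ∃ t : ℕ → K, g = (L.map fun r => x r (t r)).prod
  | [], _, _, _, g, hg => by
    have : genC x (· ∈ ([] : List ℕ)) ≤ ⊥ := genC_le x fun r hr => absurd hr List.not_mem_nil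
    exact ⟨0, by simpa using this hg⟩
  | a :: L, hsort, hpos, hcl, g, hg => by
    have hlt : ∀ r ∈ a :: L, r < P.nroots := fun r hr => (P.isPos_iff.1 (hpos r hr)).2
    have hgt := (List.pairwise_cons.1 hsort).1
    have ha := hlt a List.mem_cons_self
    have hnorm : genC x (· = a) ≤ Subgroup.normalizer (genC x (· ∈ L) : Set C) := by
      refine genC_le x fun a' ha' t => ?_
      subst ha'
      refine genC_normalizer H (fun s hs => hlt s (List.mem_cons_of_mem _ hs)) ha (fun s hs => Or.inr ⟨?_, ?_⟩) t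
      · intro e
        have := hpos s (List.mem_cons_of_mem _ hs)
        rw [e, H.okD.ng_pos_iff ha, hpos a' List.mem_cons_self] at this
        exact absurd this (by simp)
      · intro c hc
        have key : ∀ u ∈ a' :: L, ∀ y ∈ a' :: L, ∀ k < P.len u y, P.tgt u y k ∈ L := by
          intro u hu y hy k hk
          refine (List.mem_cons.1 (hcl u hu y hy k hk)).resolve_left fun e => ?_
          obtain ⟨-, h1, -⟩ := H.okD.pos_tgt (hpos u hu) (hpos y hy) hk
          rcases List.mem_cons.1 hu with rfl | hu'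
          · omega
          · have := hgt u hu'; omega
        exact H.okD.cterms_ind (T := fun c => c ∈ L) ha (hlt s (List.mem_cons_of_mem _ hs))
          (key a' List.mem_cons_self s (List.mem_cons_of_mem _ hs))
          (key s (List.mem_cons_of_mem _ hs) a' List.mem_cons_self)
          (fun b _ hb => key b (List.mem_cons_of_mem _ hb) s (List.mem_cons_of_mem _ hs))
          (fun b _ hb => key b (List.mem_cons_of_mem _ hb) a' List.mem_cons_self) c hc
    have hg' : g ∈ genC x (· = a) ⊔ genC x (· ∈ L) := by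
      refine genC_le x (fun r hr t => ?_) hg
      rcases List.mem_cons.1 hr with e | hr
      · exact Subgroup.mem_sup_left (x_mem_genC x (S := (· = a)) e t)
      · exact Subgroup.mem_sup_right (x_mem_genC x hr t)
    rw [← SetLike.mem_coe, Subgroup.coe_mul_of_left_le_normalizer_right _ _ hnorm] at hg'
    obtain ⟨u, hu, y, hy, rfl⟩ := hg'
    have hu' : ∃ t, u = x a t := by
      refine Subgroup.closure_induction (p := fun z _ => ∃ t, z = x a t) ?_ ⟨0, (x_zeroC H ha).symm⟩ ?_ ?_ hu
      · rintro z ⟨r, t, rfl, rfl⟩; exact ⟨t, rfl⟩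
      · rintro z z' - - ⟨t, rfl⟩ ⟨t', rfl⟩; exact ⟨t + t', x_addC H ha t t'⟩
      · rintro z - ⟨t, rfl⟩; exact ⟨-t, x_invC H ha t⟩
    obtain ⟨t, rfl⟩ := hu'
    obtain ⟨f, hf⟩ := exists_prodC L (List.pairwise_cons.1 hsort).2
      (fun r hr => hpos r (List.mem_cons_of_mem _ hr)) (H.okD.closedL_tail hsort hpos hcl) y hy
    refine ⟨Function.update f a t, ?_⟩
    simp only [List.map_cons, List.prod_cons, Function.update_self]
    rw [hf]
    congr 2
    refine List.map_congr_left fun r hr => ?_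
    rw [Function.update_of_ne (Nat.ne_of_gt (hgt r hr))]

/-- `θ` is injective on the positive unipotent subgroup. -/
theorem pos_inj {g : C} (hg : g ∈ genC x fun r => P.isPos r = true) (h1 : θ g = 1) : g = 1 := by
  have hg' : g ∈ genC x (· ∈ posL P) := genC_le x (fun r hr t => x_mem_genC x (mem_posL.2 hr) t) hg
  obtain ⟨t, ht⟩ := exists_prodC H (posL P) posL_sorted (fun r => mem_posL.1) H.okD.posL_closed g hg'
  have hlt : ∀ r ∈ posL P, r < P.nroots := fun r hr => (P.isPos_iff.1 (mem_posL.1 hr)).2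
  have e : ((posL P).map fun r => H.okD.xG r (t r)).prod = ((posL P).map fun r => H.okD.xG r (0 : K)).prod := by
    rw [List.prod_eq_one (l := List.map (fun r => H.okD.xG r (0 : K)) _), ← h1, ht, map_list_prod, List.map_map]
    · exact congrArg List.prod (List.map_congr_left fun r hr => (H.img r (hlt r hr) _).symm)
    · intro y hy
      obtain ⟨r, -, rfl⟩ := List.mem_map.1 hy
      exact H.okD.xG_zero r
  rw [ht]
  refine List.prod_eq_one fun y hy => ?_
  obtain ⟨r, hr, rfl⟩ := List.mem_map.1 hy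
  rw [H.okD.prod_unique (posL P) posL_sorted (fun r => mem_posL.1) t 0 e r hr]
  exact x_zeroC H (hlt r hr)

/-- The negative unipotent subgroup is conjugate to the positive one. -/
theorem neg_inj {g : C} (hg : g ∈ genC x fun r => r < P.nroots ∧ P.isPos r = false) (h1 : θ g = 1) :
    g = 1 := by
  obtain ⟨l, hl, hneg⟩ := H.okD.exists_longest
  set w := nWC P x l
  have : genC x (fun r => r < P.nroots ∧ P.isPos r = false) ≤
      (genC x fun r => P.isPos r = true).comap (MulAut.conj w).toMonoidHom := genC_le x fun r hr t => by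
    obtain ⟨c, -, h1, -⟩ := nWC_conj H l hl r hr.1
    rw [Subgroup.mem_comap, MulEquiv.coe_toMonoidHom, MulAut.conj_apply, h1]
    refine x_mem_genC x ?_ _
    have := hneg (P.ng r) ((H.okD.ng_pos_iff hr.1).2 hr.2)
    rw [H.okD.wl_ng l hl r hr.1] at this
    by_contra hcon
    simp only [Bool.not_eq_true] at hcon
    rw [← Bool.not_eq_true, H.okD.ng_pos_iff (H.okD.wl_lt l hl r hr.1)] at this
    exact this hcon
  have h2 : θ (w * g * w⁻¹) = 1 := by simp [map_mul, h1]
  have h3 : w * g * w⁻¹ = 1 := pos_inj H (this hg) h2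
  calc g = w⁻¹ * (w * g * w⁻¹) * w := by group
    _ = 1 := by rw [h3]; group

theorem outS_cterms {σ : ℤ} {i r s : ℕ} (hr : r < P.nroots) (hrm : ∀ m < P.rank, m ≠ i → P.rv r m = 0)
    (hs : OutS P σ i s) : ∀ c ∈ P.cterms r s, OutS P σ i c.1 := by
  obtain ⟨hsn, m, hm, hmi, hpos⟩ := hs
  have hz := hrm m hm hmi
  intro c hc
  suffices hh : c.1 < P.nroots ∧ 0 < σ * P.rv c.1 m from ⟨hh.1, m, hm, hmi, hh.2⟩
  refine H.okD.cterms_ind (T := fun c => c < P.nroots ∧ 0 < σ * P.rv c m) hr hsn ?_ ?_ ?_ ?_ c hc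
  · intro k hk
    refine ⟨H.okD.tgt_lt hr hsn hk, ?_⟩
    rw [H.okD.rv_additive hr hsn hk hm, hz]; simpa using hpos
  · intro k hk
    refine ⟨H.okD.tgt_lt hsn hr hk, ?_⟩
    rw [H.okD.rv_additive hsn hr hk hm, hz, add_zero, mul_left_comm]
    exact mul_pos (by positivity) hpos
  · intro a ha hT k hk
    refine ⟨H.okD.tgt_lt ha hsn hk, ?_⟩
    rw [H.okD.rv_additive ha hsn hk hm, mul_add, mul_left_comm]
    have : (0 : ℤ) < ((k : ℤ) + 1) * (σ * P.rv a m) := mul_pos (by positivity) hT.2
    omega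
  · intro a ha hT k hk
    refine ⟨H.okD.tgt_lt ha hr hk, ?_⟩
    rw [H.okD.rv_additive ha hr hk hm, hz, add_zero, mul_left_comm]
    exact mul_pos (by positivity) hT.2

theorem outS_normalizer (σ : ℤ) {i : ℕ} (hi : i < P.rank) (t : K) :
    x (P.sim i) t ∈ Subgroup.normalizer (genC x (OutS P σ i) : Set C) ∧
      x (P.ng (P.sim i)) t ∈ Subgroup.normalizer (genC x (OutS P σ i) : Set C) := by
  have hp := H.okD.sim_lt hi
  have main : ∀ r < P.nroots, (∀ m < P.rank, m ≠ i → P.rv r m = 0) →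
      x r t ∈ Subgroup.normalizer (genC x (OutS P σ i) : Set C) := by
    intro r hr hrm
    refine genC_normalizer H (fun s hs => hs.1) hr (fun s hs => Or.inr ⟨?_, outS_cterms H hr hrm hs⟩) t
    intro e
    obtain ⟨-, m, hm, hmi, hpos⟩ := hs
    rw [e, H.okD.rv_ng hr hm, hrm m hm hmi] at hpos
    simp at hpos
  refine ⟨main _ hp fun m hm hmi => ?_, main _ (Ok.ng_lt hp) fun m hm hmi => ?_⟩
  · rw [H.okD.rv_sim hi hm, if_neg (Ne.symm hmi)]
  · rw [H.okD.rv_ng hp hm, H.okD.rv_sim hi hm, if_neg (Ne.symm hmi), neg_zero]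

theorem outS_inj {σ : ℤ} (hσ : σ = 1 ∨ σ = -1) {i : ℕ} {g : C} (hg : g ∈ genC x (OutS P σ i))
    (h1 : θ g = 1) : g = 1 := by
  rcases hσ with rfl | rfl
  · refine pos_inj H (genC_le x (fun r hr t => ?_) hg) h1
    obtain ⟨hrn, m, hm, -, hpos⟩ := hr
    exact x_mem_genC x (H.okD.pos_of_rv hrn hm (by simpa using hpos)) t
  · refine neg_inj H (genC_le x (fun r hr t => ?_) hg) h1
    obtain ⟨hrn, m, hm, -, hpos⟩ := hr
    refine x_mem_genC x ⟨hrn, ?_⟩ t
    by_contra hc
    simp only [Bool.not_eq_false] at hc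
    have := (H.okD.rv_sign hrn hm).1 hc
    omega

/-- The torus elements act by characters. -/
theorem h_conj {i : ℕ} (hi : i < P.rank) {t : K} (ht : t ≠ 0) {r : ℕ} (hr : r < P.nroots) (u : K) :
    hEl P x (P.sim i) t * x r u * (hEl P x (P.sim i) t)⁻¹ = x r (t ^ P.A i r * u) := by
  have hp := H.okD.sim_lt hi
  set g := hEl P x (P.sim i) t
  have main : ∀ r < P.nroots, r ≠ P.sim i → r ≠ P.ng (P.sim i) → ∀ u,
      g * x r u * g⁻¹ = x r (t ^ P.A i r * u) := by
    intro r hr hne1 hne2 u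
    obtain ⟨σ, hσ, hout⟩ : ∃ σ : ℤ, (σ = 1 ∨ σ = -1) ∧ OutS P σ i r := by
      by_cases hp' : P.isPos r = true
      · obtain ⟨hh, m, hm, hmi, hpos⟩ := (H.okD.out_sim hi).2 ⟨hp', hne1⟩
        exact ⟨1, Or.inl rfl, hh, m, hm, hmi, by simpa using hpos⟩
      · simp only [Bool.not_eq_true] at hp'
        have hne : P.ng r ≠ P.sim i := fun e => hne2 (by rw [← e, Ok.ng_ng hr])
        obtain ⟨-, m, hm, hmi, hpos⟩ := (H.okD.out_sim hi).2 ⟨(H.okD.ng_pos_iff hr).2 hp', hne⟩
        rw [H.okD.rv_ng hr hm] at hpos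
        exact ⟨-1, Or.inr rfl, hr, m, hm, hmi, by simpa using hpos⟩
    have hn : ∀ s : K, nEl P x (P.sim i) s ∈ Subgroup.normalizer (genC x (OutS P σ i) : Set C) := fun s =>
      mul_mem (mul_mem (outS_normalizer H σ hi s).1 (outS_normalizer H σ hi (-s⁻¹)).2)
        (outS_normalizer H σ hi s).1
    have h1 : g * x r u * g⁻¹ * (x r (t ^ P.A i r * u))⁻¹ ∈ genC x (OutS P σ i) :=
      mul_mem ((Subgroup.mem_normalizer_iff.1 (mul_mem (hn t) (hn (-1))) _).1 (x_mem_genC x hout u))
        (inv_mem (x_mem_genC x hout _))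
    refine mul_inv_eq_one.1 (outS_inj H hσ h1 ?_)
    rw [map_mul, map_mul, map_mul, map_inv, map_inv, img_hEl H hp, H.img r hr, H.img r hr,
      H.okD.ht_eq hp ht, H.okD.dG_xG _ hr, H.okD.pair_sim hi, mul_inv_cancel]
  by_cases hq : r = P.sim i ∨ r = P.ng (P.sim i)
  · obtain ⟨a, b, n, ha, hb, ha1, ha2, hb1, hb2, hn⟩ := ck_base2 H hi hq
    unfold base2At at hn
    simp only at hn
    split at hn
    · simp at hn
    next e he =>
      simp only [Bool.and_eq_true, nbeq, decide_eq_true_eq, List.all_eq_true, List.mem_range,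
        Bool.not_eq_true', decide_eq_false_iff_not] at hn
      obtain ⟨⟨⟨⟨⟨⟨⟨⟨⟨hq', hc⟩, h1⟩, hab⟩, -⟩, -⟩, -⟩, hrv⟩, hrest⟩, -⟩ := hn
      obtain ⟨-, hba, hbn⟩ := cOk_iff.1 hab
      have hne : ∀ k : ℕ, k ≠ r → k ≠ P.ng r → k ≠ P.sim i ∧ k ≠ P.ng (P.sim i) := by
        intro k h1 h2
        rcases hq with rfl | rfl
        · exact ⟨h1, h2⟩
        · exact ⟨by rwa [Ok.ng_ng hp] at h2, h1⟩
      -- the character is multiplicative on the terms
      have hχ : ∀ k ∈ P.cterms a b, t ^ P.A i k.1 = (t ^ P.A i a) ^ k.2.2.1 * (t ^ P.A i b) ^ k.2.2.2 := by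
        intro k hk
        have hk' := H.okD.cterms_lt ha hb k hk
        have : P.A i k.1 = (k.2.2.1 : ℤ) * P.A i a + (k.2.2.2 : ℤ) * P.A i b := by
          rw [H.okD.A_eq_sum hk' hi, H.okD.A_eq_sum ha hi, H.okD.A_eq_sum hb hi, Finset.mul_sum,
            Finset.mul_sum, ← Finset.sum_add_distrib]
          refine Finset.sum_congr rfl fun m hm => ?_
          rw [hrv k hk m (Finset.mem_range.1 hm)]
          simp only [Int.ofNat_eq_natCast]
          ring
        rw [this, zpow_add₀ ht, mul_comm (k.2.2.1 : ℤ), mul_comm (k.2.2.2 : ℤ), zpow_mul, zpow_mul,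
          zpow_natCast, zpow_natCast]
      have hd := decomp H ha hb hba hbn he hq' hc h1
      simp only at hd
      set χa := t ^ P.A i a
      set χb := t ^ P.A i b
      set T := P.cterms a b
      set f : K → K → ℕ × ℤ × ℕ × ℕ → C :=
        fun τ w k => x k.1 ((k.2.1 : K) * (-τ) ^ k.2.2.1 * w ^ k.2.2.2)
      have hconj : ∀ (τ w : K) (L : List (ℕ × ℤ × ℕ × ℕ)), (∀ k ∈ L, k ∈ T.take n ++ T.drop (n + 1)) →
          g * (L.map (f τ w)).prod * g⁻¹ = (L.map (f (χa * τ) (χb * w))).prod := by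
        intro τ w L hL
        rw [prod_conj]
        refine congrArg List.prod (List.map_congr_left fun k hk => ?_)
        have hkT : k ∈ T := by
          rcases List.mem_append.1 (hL k hk) with h' | h'
          · exact List.mem_of_mem_take h'
          · exact List.mem_of_mem_drop h'
        obtain ⟨h1', h2'⟩ := hne k.1 (hrest k (hL k hk)).1.1.1 (hrest k (hL k hk)).1.1.2
        simp only [f]
        rw [main k.1 (H.okD.cterms_lt ha hb k hkT) h1' h2', hχ k hkT]
        congr 1
        rw [neg_mul_eq_mul_neg, mul_pow, mul_pow]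
        ring
      have hk := hd u
      set τ : K := -((e.2.1 : K) * u)
      obtain ⟨ha1', ha2'⟩ := hne a ha1 ha2
      obtain ⟨hb1', hb2'⟩ := hne b hb1 hb2
      have hcomm : g * ((x b 1)⁻¹ * (x a τ)⁻¹ * x b 1 * x a τ) * g⁻¹ =
          rhsW P x a b (χa * τ) (χb * 1) := by
        rw [conj_comm4, main a ha ha1' ha2', main b hb hb1' hb2', commC H ha hb hba hbn]
      obtain ⟨hn', hge⟩ := List.getElem?_eq_some_iff.1 he
      have hsplit : T = T.take n ++ e :: T.drop (n + 1) := by
        rw [← hge, ← List.drop_eq_getElem_cons hn', List.take_append_drop]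
      have hrhs : rhsW P x a b (χa * τ) (χb * 1) = ((T.take n).map (f (χa * τ) (χb * 1))).prod *
          x r (t ^ P.A i r * u) * ((T.drop (n + 1)).map (f (χa * τ) (χb * 1))).prod := by
        have he' : x r (t ^ P.A i r * u) = f (χa * τ) (χb * 1) e := by
          simp only [f, hq', h1, τ]
          congr 1
          have := hχ e (List.mem_of_getElem? he)
          rw [hq', h1, pow_one] at this
          rw [this, pow_one, mul_one]
          have := cancel_sq (K := K) hc u
          calc χa * χb ^ e.2.2.2 * u = χa * χb ^ e.2.2.2 * ((e.2.1 : K) * ((e.2.1 : K) * u)) := by rw [this]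
            _ = _ := by ring
        rw [he', rhsW]
        conv_lhs => rw [show P.cterms a b = T.take n ++ e :: T.drop (n + 1) from hsplit]
        rw [List.map_append, List.prod_append, List.map_cons, List.prod_cons]
        simp only [f, mul_assoc]
      have e1 := hconj τ 1 (T.take n) fun k hk => List.mem_append_left _ hk
      have e2 := hconj τ 1 (T.drop (n + 1)) fun k hk => List.mem_append_right _ hk
      calc g * x r u * g⁻¹ = (g * ((T.take n).map (f τ 1)).prod * g⁻¹)⁻¹ *
            (g * ((x b 1)⁻¹ * (x a τ)⁻¹ * x b 1 * x a τ) * g⁻¹) *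
            (g * ((T.drop (n + 1)).map (f τ 1)).prod * g⁻¹)⁻¹ := by
              rw [← hk]; simp only [f]; group
        _ = _ := by rw [e1, e2, hcomm, hrhs]; group
  · push_neg at hq
    exact main r hr hq.1 hq.2 u

end Cov

end Cfsg.Agent.Chev.CT
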