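/-
The kernel of the map onto the Chevalley group lies in the torus and is central.
-/
import Cfsg.Agent.Lib.CurtisTits.Cover
import Cfsg.Agent.Lib.Chev.Simple

set_option autoImplicit false
set_option linter.unusedSectionVars false
set_option maxHeartbeats 1000000

namespace Cfsg.Agent.Chev.CT

open Cfsg.Agent.Chev Cfsg.Lie

variable {D : ChevalleyDatum} {P : Pk} {K : Type*} [Field K] {C : Type*} [Group C]

/-- The torus. -/
def torC (P : Pk) (x : ℕ → K → C) : Subgroup C :=
  Subgroup.closure {g | ∃ (i : ℕ) (t : K), i < P.rank ∧ t ≠ 0 ∧ g = hEl P x (P.sim i) t}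

theorem hEl_mem_torC {x : ℕ → K → C} {i : ℕ} (hi : i < P.rank) {t : K} (ht : t ≠ 0) :
    hEl P x (P.sim i) t ∈ torC P x :=
  Subgroup.subset_closure ⟨i, t, hi, ht, rfl⟩

section Cov

variable {x : ℕ → K → C} {θ : C →* GL D.Idx K} (H : Cov D P x θ)
include H

theorem Ucl_mem {r : ℕ} (hr : P.isPos r = true) (t : K) : x r t ∈ genC x fun r => P.isPos r = true :=
  x_mem_genC x hr t

theorem nEl_neg' {r : ℕ} (hr : r < P.nroots) (a : K) : nEl P x r (-a) = (nEl P x r a)⁻¹ :=
  nEl_neg H.rel (by simp [okAll, hr]) (by simp [okAll, Ok.ng_lt hr]) a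

/-- Torus elements act by scalars. -/
theorem tor_scalar {g : C} (hg : g ∈ torC P x) : ∀ r < P.nroots, ∃ c : K, c ≠ 0 ∧
    (∀ u, g * x r u * g⁻¹ = x r (c * u)) ∧ ∀ u, g * x (P.ng r) u * g⁻¹ = x (P.ng r) (c⁻¹ * u) := by
  refine Subgroup.closure_induction (p := fun g _ => ∀ r < P.nroots, ∃ c : K, c ≠ 0 ∧
    (∀ u, g * x r u * g⁻¹ = x r (c * u)) ∧ ∀ u, g * x (P.ng r) u * g⁻¹ = x (P.ng r) (c⁻¹ * u)) ?_ ?_ ?_ ?_ hg
  · rintro g ⟨i, t, hi, ht, rfl⟩ r hr
    refine ⟨t ^ P.A i r, zpow_ne_zero _ ht, h_conj H hi ht hr, fun u => ?_⟩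
    rw [h_conj H hi ht (Ok.ng_lt hr), H.okD.A_ng hr hi, zpow_neg]
  · intro r _; exact ⟨1, one_ne_zero, fun u => by simp, fun u => by simp⟩
  · intro g g' _ _ h1 h2 r hr
    obtain ⟨c, hc, a1, a2⟩ := h1 r hr
    obtain ⟨c', hc', b1, b2⟩ := h2 r hr
    refine ⟨c * c', mul_ne_zero hc hc', fun u => ?_, fun u => ?_⟩
    · rw [show g * g' * x r u * (g * g')⁻¹ = g * (g' * x r u * g'⁻¹) * g⁻¹ by group, b1, a1, mul_assoc]
    · rw [show g * g' * x (P.ng r) u * (g * g')⁻¹ = g * (g' * x (P.ng r) u * g'⁻¹) * g⁻¹ by group, b2, a2,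
        mul_inv, mul_assoc]
  · intro g _ h1 r hr
    obtain ⟨c, hc, a1, a2⟩ := h1 r hr
    refine ⟨c⁻¹, inv_ne_zero hc, fun u => ?_, fun u => ?_⟩
    · have := a1 (c⁻¹ * u); rw [mul_inv_cancel_left₀ hc] at this; rw [← this]; group
    · have := a2 (c * u); rw [inv_mul_cancel_left₀ hc] at this; rw [inv_inv, ← this]; group

theorem nS_sq_mem {i : ℕ} (hi : i < P.rank) : nS P x i * nS P x i ∈ torC P x := by
  have := inv_mem (hEl_mem_torC (x := x) hi (neg_ne_zero.2 (one_ne_zero (α := K))))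
  rw [hEl, nEl_neg' H (H.okD.sim_lt hi)] at this
  simpa [nS] using this

theorem nEl_eq {i : ℕ} (hi : i < P.rank) (c : K) :
    nEl P x (P.sim i) c = hEl P x (P.sim i) c * nS P x i := by
  rw [hEl, nEl_neg' H (H.okD.sim_lt hi), nS]; group

theorem tor_conj_nS {g : C} (hg : g ∈ torC P x) {i : ℕ} (hi : i < P.rank) :
    ∃ c : K, c ≠ 0 ∧ g * nS P x i * g⁻¹ = hEl P x (P.sim i) c * nS P x i := by
  obtain ⟨c, hc, a1, a2⟩ := tor_scalar H hg _ (H.okD.sim_lt hi)
  refine ⟨c, hc, ?_⟩
  rw [← nEl_eq H hi, nS, nEl, nEl]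
  rw [show g * (x (P.sim i) 1 * x (P.ng (P.sim i)) (-1⁻¹) * x (P.sim i) 1) * g⁻¹ =
    g * x (P.sim i) 1 * g⁻¹ * (g * x (P.ng (P.sim i)) (-1⁻¹) * g⁻¹) * (g * x (P.sim i) 1 * g⁻¹) by group,
    a1, a2, mul_one, inv_one, mul_neg_one]

theorem tor_normal {g : C} (hg : g ∈ torC P x) {i : ℕ} (hi : i < P.rank) :
    nS P x i * g * (nS P x i)⁻¹ ∈ torC P x ∧ (nS P x i)⁻¹ * g * nS P x i ∈ torC P x := by
  have key : ∀ g ∈ torC P x, nS P x i * g * (nS P x i)⁻¹ ∈ torC P x := by
    intro g hg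
    obtain ⟨c, hc, e⟩ := tor_conj_nS H (inv_mem hg) hi
    have : nS P x i * g * (nS P x i)⁻¹ = g * hEl P x (P.sim i) c := by
      rw [show hEl P x (P.sim i) c = g⁻¹ * nS P x i * g * (nS P x i)⁻¹ by
        rw [inv_inv] at e; rw [e, mul_inv_cancel_right]]
      group
    rw [this]; exact mul_mem hg (hEl_mem_torC hi hc)
  refine ⟨key g hg, ?_⟩
  have hs := nS_sq_mem H hi
  have h2 := key _ (mul_mem (mul_mem (inv_mem hs) hg) hs)
  rwa [show nS P x i * ((nS P x i * nS P x i)⁻¹ * g * (nS P x i * nS P x i)) * (nS P x i)⁻¹ =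
    (nS P x i)⁻¹ * g * nS P x i by group] at h2

theorem nWC_mem_normalizer : ∀ l, WordOk P l → ∀ g ∈ torC P x,
    nWC P x l * g * (nWC P x l)⁻¹ ∈ torC P x ∧ (nWC P x l)⁻¹ * g * nWC P x l ∈ torC P x := by
  intro l
  induction l with
  | nil => intro _ g hg; simpa [nWC] using hg
  | cons i l ih =>
    intro hl g hg
    have e : nWC P x (i :: l) = nS P x i * nWC P x l := by simp [nWC]
    refine ⟨?_, ?_⟩
    · rw [e, show nS P x i * nWC P x l * g * (nS P x i * nWC P x l)⁻¹ =
        nS P x i * (nWC P x l * g * (nWC P x l)⁻¹) * (nS P x i)⁻¹ by group]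
      exact (tor_normal H (ih hl.tail g hg).1 hl.head).1
    · rw [e, show (nS P x i * nWC P x l)⁻¹ * g * (nS P x i * nWC P x l) =
        (nWC P x l)⁻¹ * ((nS P x i)⁻¹ * g * nS P x i) * nWC P x l by group]
      exact (ih hl.tail _ (tor_normal H hg hl.head).2).2

/-- A word preserving positivity gives an element of the torus. -/
theorem nWC_reduce {l : List ℕ} (hl : WordOk P l)
    (hpos : ∀ r, P.isPos r = true → P.isPos (wl P l r) = true) :
    nWC P x l ∈ torC P x ∧ ∀ r < P.nroots, wl P l r = r := by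
  induction hn : l.length using Nat.strong_induction_on generalizing l with
  | _ n ih =>
    rcases List.eq_nil_or_concat l with rfl | ⟨l', i, rfl⟩
    · exact ⟨by simpa [nWC] using one_mem _, fun r _ => rfl⟩
    rw [List.concat_eq_append] at hl hpos hn ⊢
    have hi : i < P.rank := hl i (by simp)
    have hl' : WordOk P l' := fun y hy => hl y (by simp [hy])
    have hp := H.okD.sim_lt hi
    have hneg : P.isPos (wl P l' (P.sim i)) = false := by
      have h1 := hpos (P.sim i) (H.okD.sim_pos hi)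
      rw [wl_append] at h1
      simp only [wl] at h1
      rw [H.okD.w_sim hi, H.okD.wl_ng l' hl' _ hp] at h1
      rwa [H.okD.ng_pos_iff (H.okD.wl_lt l' hl' _ hp)] at h1
    obtain ⟨a, j, b, rfl, hb⟩ := H.okD.sign_change l' hl' _ (H.okD.sim_pos hi) hneg
    have hb' : WordOk P b := fun y hy => hl' y (by simp [hy])
    have hj : j < P.rank := hl' j (by simp)
    have hab : WordOk P (a ++ b) := fun y hy => hl' y (by
      simp only [List.mem_append, List.mem_cons] at hy ⊢; tauto)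
    obtain ⟨c, hc, h1, h2⟩ := nWC_conj H b hb' (P.sim i) hp
    rw [hb] at h1 h2
    have hg : nWC P x b * nS P x i * (nWC P x b)⁻¹ = hEl P x (P.sim j) (c : K) * nS P x j := by
      rw [← nEl_eq H hj]
      have := nEl_conj (x := x) (y := x) hc h1 h2 1
      rwa [mul_one] at this
    have ew : ∀ r < P.nroots, wl P ((a ++ j :: b) ++ [i]) r = wl P (a ++ b) r := by
      intro r hr
      simp only [wl_append, wl]
      rw [H.okD.wl_w hb' hi hj hb hr, H.okD.w_w hj (H.okD.wl_lt b hb' r hr)]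
    obtain ⟨hmem, htriv⟩ := ih (a ++ b).length (by simp at hn ⊢; omega) hab
      (fun r hr => by rw [← ew r (P.isPos_iff.1 hr).2]; exact hpos r hr) rfl
    refine ⟨?_, fun r hr => by rw [ew r hr]; exact htriv r hr⟩
    have hT : nS P x j * hEl P x (P.sim j) (c : K) * nS P x j ∈ torC P x := by
      have h3 := (tor_normal H (hEl_mem_torC (x := x) hj (sign_ne_zero (K := K) hc)) hj).1
      have := mul_mem h3 (nS_sq_mem H hj)
      rwa [show nS P x j * hEl P x (P.sim j) (c : K) * (nS P x j)⁻¹ * (nS P x j * nS P x j) =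
        nS P x j * hEl P x (P.sim j) (c : K) * nS P x j by group] at this
    have e : nWC P x ((a ++ j :: b) ++ [i]) = nWC P x (a ++ b) *
        ((nWC P x b)⁻¹ * (nS P x j * hEl P x (P.sim j) (c : K) * nS P x j) * nWC P x b) := by
      have e1 : nWC P x b * nS P x i = hEl P x (P.sim j) (c : K) * nS P x j * nWC P x b := by
        rw [← hg]; group
      have e2 : nWC P x ((a ++ j :: b) ++ [i]) = nWC P x a * nS P x j * (nWC P x b * nS P x i) := by
        simp [nWC, mul_assoc]
      rw [e2, e1, show nWC P x (a ++ b) = nWC P x a * nWC P x b by simp [nWC]]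
      group
    rw [e]
    exact mul_mem hmem (nWC_mem_normalizer H b hb' _ hT).2

theorem tor_normalizes_U {g : C} (hg : g ∈ torC P x) {u : C}
    (hu : u ∈ genC x fun r => P.isPos r = true) : g * u * g⁻¹ ∈ genC x fun r => P.isPos r = true := by
  have : genC x (fun r => P.isPos r = true) ≤
      (genC x fun r => P.isPos r = true).comap (MulAut.conj g).toMonoidHom := genC_le x fun r hr t => by
    obtain ⟨c, -, h1, -⟩ := tor_scalar H hg r (P.isPos_iff.1 hr).2
    rw [Subgroup.mem_comap, MulEquiv.coe_toMonoidHom, MulAut.conj_apply, h1]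
    exact x_mem_genC x hr _
  exact this hu

theorem splitU {i : ℕ} (hi : i < P.rank) {u : C} (hu : u ∈ genC x fun r => P.isPos r = true) :
    ∃ u0 ∈ genC x (OutS P 1 i), ∃ s : K, u = u0 * x (P.sim i) s := by
  have hp := H.okD.sim_lt hi
  have hle : genC x (fun r => P.isPos r = true) ≤ genC x (OutS P 1 i) ⊔ genC x (· = P.sim i) :=
    genC_le x fun r hr t => by
      by_cases e : r = P.sim i
      · exact Subgroup.mem_sup_right (x_mem_genC x (S := (· = P.sim i)) e t)
      · obtain ⟨hh, m, hm, hmi, hpos⟩ := (H.okD.out_sim hi).2 ⟨hr, e⟩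
        exact Subgroup.mem_sup_left (x_mem_genC x ⟨hh, m, hm, hmi, by simpa using hpos⟩ t)
  have hn : genC x (· = P.sim i) ≤ Subgroup.normalizer (genC x (OutS P 1 i) : Set C) :=
    genC_le x fun r hr t => by subst hr; exact (outS_normalizer H 1 hi t).1
  have := hle hu
  rw [← SetLike.mem_coe, Subgroup.coe_mul_of_right_le_normalizer_left _ _ hn] at this
  obtain ⟨u0, h0, y, hy, rfl⟩ := this
  have : ∃ s, y = x (P.sim i) s := by
    refine Subgroup.closure_induction (p := fun z _ => ∃ t, z = x (P.sim i) t) ?_ ⟨0, (x_zeroC H hp).symm⟩ ?_ ?_ hy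
    · rintro z ⟨r, t, rfl, rfl⟩; exact ⟨t, rfl⟩
    · rintro z z' - - ⟨t, rfl⟩ ⟨t', rfl⟩; exact ⟨t + t', x_addC H hp t t'⟩
    · rintro z - ⟨t, rfl⟩; exact ⟨-t, x_invC H hp t⟩
  obtain ⟨s, rfl⟩ := this
  exact ⟨u0, h0, s, rfl⟩

omit H in
/-- The set `U N U`. -/
def InUNU (P : Pk) (x : ℕ → K → C) (g : C) : Prop :=
  ∃ u ∈ genC x (fun r => P.isPos r = true), ∃ l, WordOk P l ∧ ∃ d ∈ torC P x,
    ∃ u' ∈ genC x (fun r => P.isPos r = true), g = u * (nWC P x l * d) * u'

/-- A root element moved to the right of a monomial element. -/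
theorem moveR {l : List ℕ} (hl : WordOk P l) {d : C} (hd : d ∈ torC P x) {p : ℕ} (hp : p < P.nroots) (s : K) :
    ∃ s' : K, x p s * (nWC P x l * d) = nWC P x l * d * x (wl P l.reverse p) s' := by
  have hlr : WordOk P l.reverse := fun y hy => hl y (List.mem_reverse.1 hy)
  set q := wl P l.reverse p
  have hq : q < P.nroots := H.okD.wl_lt _ hlr p hp
  have hqp : wl P l q = p := by
    have := H.okD.wl_reverse l.reverse hlr p hp
    rwa [List.reverse_reverse] at this
  obtain ⟨c, hc, h1, -⟩ := nWC_conj H l hl q hq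
  obtain ⟨e, he, h2, -⟩ := tor_scalar H hd q hq
  refine ⟨e⁻¹ * ((c : K) * s), ?_⟩
  have : nWC P x l * d * x q (e⁻¹ * ((c : K) * s)) * (nWC P x l * d)⁻¹ = x p s := by
    rw [show nWC P x l * d * x q (e⁻¹ * ((c : K) * s)) * (nWC P x l * d)⁻¹ =
      nWC P x l * (d * x q (e⁻¹ * ((c : K) * s)) * d⁻¹) * (nWC P x l)⁻¹ by group, h2,
      mul_inv_cancel_left₀ he, h1, cancel_sq hc, hqp]
  rw [← this]; group

theorem tor_mul_UNU {d : C} (hd : d ∈ torC P x) {g : C} (hg : InUNU P x g) : InUNU P x (d * g) := by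
  obtain ⟨u, hu, l, hl, e, he, u', hu', rfl⟩ := hg
  refine ⟨d * u * d⁻¹, tor_normalizes_U H hd hu, l, hl, (nWC P x l)⁻¹ * d * nWC P x l * e,
    mul_mem (nWC_mem_normalizer H l hl d hd).2 he, u', hu', ?_⟩
  group

theorem nS_mul_UNU {i : ℕ} (hi : i < P.rank) {g : C} (hg : InUNU P x g) : InUNU P x (nS P x i * g) := by
  obtain ⟨u, hu, l, hl, d, hd, u', hu', rfl⟩ := hg
  set U := genC x fun r => P.isPos r = true with hU
  have hp := H.okD.sim_lt hi
  obtain ⟨u0, h0, s, rfl⟩ := splitU H hi hu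
  have hN : nS P x i ∈ Subgroup.normalizer (genC x (OutS P 1 i) : Set C) :=
    mul_mem (mul_mem (outS_normalizer H 1 hi _).1 (outS_normalizer H 1 hi _).2) (outS_normalizer H 1 hi _).1
  have hout : genC x (OutS P 1 i) ≤ U := genC_le x fun r hr t => by
    obtain ⟨hrn, m, hm, -, hpos⟩ := hr
    exact x_mem_genC x (H.okD.pos_of_rv hrn hm (by simpa using hpos)) t
  set b0 := nS P x i * u0 * (nS P x i)⁻¹
  have hb0 : b0 ∈ U := hout ((Subgroup.mem_normalizer_iff.1 hN u0).1 h0)
  have hl2 : WordOk P (i :: l) := List.forall_mem_cons.2 ⟨hi, hl⟩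
  have hlr : WordOk P l.reverse := fun y hy => hl y (List.mem_reverse.1 hy)
  have main : nS P x i * (u0 * x (P.sim i) s * (nWC P x l * d) * u') =
      b0 * (nS P x i * (x (P.sim i) s * (nWC P x l * d))) * u' := by simp only [b0]; group
  cases hsgn : P.isPos (wl P l.reverse (P.sim i))
  · by_cases hs : s = 0
    · refine ⟨b0, hb0, i :: l, hl2, d, hd, u', hu', ?_⟩
      rw [main, hs, x_zeroC H hp, one_mul]; simp [nWC, mul_assoc]
    · set σ := (P.eta i (P.sim i) : K) * s
      have hσ : σ ≠ 0 := mul_ne_zero (sign_ne_zero (eta_sq _ _)) hs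
      obtain ⟨t', ht'⟩ := moveR H hl2 hd hp σ⁻¹
      have hpos : P.isPos (wl P (i :: l).reverse (P.sim i)) = true := by
        rw [List.reverse_cons, wl_append]
        simp only [wl]
        rw [H.okD.w_sim hi, H.okD.wl_ng _ hlr _ hp]
        exact (H.okD.ng_pos_iff (H.okD.wl_lt _ hlr _ hp)).2 hsgn
      have e0 : nS P x i * x (P.sim i) s = x (P.ng (P.sim i)) σ * nS P x i := by
        have := up_all H hi hp s
        rw [H.okD.w_sim hi] at this
        rw [← this]; group
      have e1 : x (P.ng (P.sim i)) σ = x (P.sim i) σ⁻¹ * nEl P x (P.sim i) (-σ⁻¹) * x (P.sim i) σ⁻¹ := by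
        rw [nEl, inv_neg, inv_inv, neg_neg, ← x_invC H hp]; group
      have e2 : nS P x i * (x (P.sim i) s * (nWC P x l * d)) = x (P.sim i) σ⁻¹ *
          (hEl P x (P.sim i) (-σ⁻¹) * (nS P x i * nS P x i)) * (nWC P x l * d) *
            x (wl P (i :: l).reverse (P.sim i)) t' := by
        have e3 : nWC P x (i :: l) = nS P x i * nWC P x l := by simp [nWC]
        rw [e3] at ht'
        calc nS P x i * (x (P.sim i) s * (nWC P x l * d)) = nS P x i * x (P.sim i) s * (nWC P x l * d) := by group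
          _ = x (P.sim i) σ⁻¹ * nEl P x (P.sim i) (-σ⁻¹) *
              (x (P.sim i) σ⁻¹ * (nS P x i * nWC P x l * d)) := by rw [e0, e1]; group
          _ = _ := by rw [ht', nEl_eq H hi]; group
      have hT : hEl P x (P.sim i) (-σ⁻¹) * (nS P x i * nS P x i) ∈ torC P x :=
        mul_mem (hEl_mem_torC hi (neg_ne_zero.2 (inv_ne_zero hσ))) (nS_sq_mem H hi)
      set T0 := hEl P x (P.sim i) (-σ⁻¹) * (nS P x i * nS P x i)
      refine ⟨b0 * x (P.sim i) σ⁻¹, mul_mem hb0 (x_mem_genC x (H.okD.sim_pos hi) _), l, hl,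
        (nWC P x l)⁻¹ * T0 * nWC P x l * d, mul_mem (nWC_mem_normalizer H l hl _ hT).2 hd,
        x (wl P (i :: l).reverse (P.sim i)) t' * u', mul_mem (x_mem_genC x hpos _) hu', ?_⟩
      rw [main, e2]; group
  · obtain ⟨t', ht'⟩ := moveR H hl hd hp s
    refine ⟨b0, hb0, i :: l, hl2, d, hd, x (wl P l.reverse (P.sim i)) t' * u',
      mul_mem (x_mem_genC x hsgn _) hu', ?_⟩
    rw [main, ht']; simp [nWC, mul_assoc]

theorem inUNU (g : C) : InUNU P x g := by
  set S : Set C := {g | ∃ r t, P.isPos r = true ∧ g = x r t} ∪ {g | ∃ i < P.rank, g = nS P x i}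
  have htop : Subgroup.closure S = ⊤ := by
    refine H.gen _ fun r hr t => ?_
    have hU : ∀ r, P.isPos r = true → ∀ t, x r t ∈ Subgroup.closure S :=
      fun r hr t => Subgroup.subset_closure (Or.inl ⟨r, t, hr, rfl⟩)
    have hW : ∀ l, WordOk P l → nWC P x l ∈ Subgroup.closure S := by
      intro l hl
      refine list_prod_mem fun y hy => ?_
      obtain ⟨i, hi, rfl⟩ := List.mem_map.1 hy
      exact Subgroup.subset_closure (Or.inr ⟨i, hl i hi, rfl⟩)
    cases hrp : P.isPos r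
    · obtain ⟨l, hl, hneg⟩ := H.okD.exists_longest
      obtain ⟨c, hc, h1, -⟩ := nWC_conj H l hl r hr
      have hpos : P.isPos (wl P l r) = true := by
        have := hneg (P.ng r) ((H.okD.ng_pos_iff hr).2 hrp)
        rw [H.okD.wl_ng l hl r hr] at this
        by_contra hcon
        simp only [Bool.not_eq_true] at hcon
        rw [← Bool.not_eq_true, H.okD.ng_pos_iff (H.okD.wl_lt l hl r hr)] at this
        exact this hcon
      rw [show x r t = (nWC P x l)⁻¹ * x (wl P l r) ((c : K) * t) * nWC P x l by rw [← h1]; group]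
      exact mul_mem (mul_mem (inv_mem (hW l hl)) (hU _ hpos _)) (hW l hl)
    · exact hU r hrp t
  have h1 : InUNU P x 1 :=
    ⟨1, one_mem _, [], (fun y hy => by simp at hy), 1, one_mem _, 1, one_mem _, by simp [nWC]⟩
  have hg : g ∈ Subgroup.closure S := htop ▸ Subgroup.mem_top g
  refine Subgroup.closure_induction_left (p := fun g _ => InUNU P x g) h1 ?_ ?_ hg
  · rintro y (⟨r, t, hr, rfl⟩ | ⟨i, hi, rfl⟩) z - hz
    · obtain ⟨u, hu, l, hl, d, hd, u', hu', rfl⟩ := hz
      exact ⟨x r t * u, mul_mem (x_mem_genC x hr t) hu, l, hl, d, hd, u', hu', by group⟩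
    · exact nS_mul_UNU H hi hz
  · rintro y (⟨r, t, hr, rfl⟩ | ⟨i, hi, rfl⟩) z - hz
    · obtain ⟨u, hu, l, hl, d, hd, u', hu', rfl⟩ := hz
      exact ⟨(x r t)⁻¹ * u, mul_mem (inv_mem (x_mem_genC x hr t)) hu, l, hl, d, hd, u', hu', by group⟩
    · rw [show (nS P x i)⁻¹ * z = (nS P x i * nS P x i)⁻¹ * (nS P x i * z) by group]
      exact tor_mul_UNU H (inv_mem (nS_sq_mem H hi)) (nS_mul_UNU H hi hz)

theorem img_U {u : C} (hu : u ∈ genC x fun r => P.isPos r = true) : θ u ∈ D.posUnipotent K := by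
  rw [H.okD.posUnipotent_eq]
  exact img_genC H (fun r hr => (P.isPos_iff.1 hr).2) hu

theorem img_tor {d : C} (hd : d ∈ torC P x) : θ d ∈ D.diagonalSubgroup K := by
  have : torC P x ≤ (D.diagonalSubgroup K).comap θ := by
    refine (Subgroup.closure_le _).2 ?_
    rintro g ⟨i, t, hi, ht, rfl⟩
    rw [SetLike.mem_coe, Subgroup.mem_comap, img_hEl H (H.okD.sim_lt hi)]
    exact H.okD.ht_mem (H.okD.sim_lt hi) ht
  exact this hd

/-- A torus element in the kernel is central. -/
theorem tor_ker_central {g : C} (hg : g ∈ torC P x) (h1 : θ g = 1) : g ∈ Subgroup.center C := by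
  refine Subgroup.mem_center_iff.2 fun y => ?_
  have htop := H.gen (Subgroup.centralizer {g}) fun r hr t => by
    rw [Subgroup.mem_centralizer_singleton_iff]
    obtain ⟨c, hc, a1, -⟩ := tor_scalar H hg r hr
    have := congrArg θ (a1 1)
    rw [map_mul, map_mul, map_inv, h1, H.img r hr, H.img r hr, one_mul, inv_one, mul_one, mul_one] at this
    have hc1 := H.okD.xG_inj_param hr this
    have e := a1 t
    rw [← hc1, one_mul] at e
    calc x r t * g = g * x r t * g⁻¹ * g := by rw [e]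
      _ = _ := by group
  have := htop ▸ Subgroup.mem_top y
  rwa [Subgroup.mem_centralizer_singleton_iff] at this

/-- The kernel lies in the torus and is central. -/
theorem ker_spec {g : C} (h1 : θ g = 1) : g ∈ torC P x ∧ g ∈ Subgroup.center C := by
  obtain ⟨u, hu, l, hl, d, hd, u', hu', rfl⟩ := inUNU H g
  set n := nWC P x l * d
  have hn : θ n ∈ D.monomialSubgroup K := by
    rw [map_mul, img_nWC H l hl]
    exact mul_mem (H.okD.nW_mem l hl) (Subgroup.mem_sup_left (img_tor H hd))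
  have e : θ n = (θ u)⁻¹ * (θ u')⁻¹ := by
    rw [map_mul, map_mul] at h1
    calc θ n = (θ u)⁻¹ * (θ u * θ n * θ u') * (θ u')⁻¹ := by group
      _ = _ := by rw [h1, mul_one]
  have hU : θ n ∈ D.posUnipotent K := e ▸ mul_mem (inv_mem (img_U H hu)) (inv_mem (img_U H hu'))
  have hn1 : θ n = 1 := by
    have := Subgroup.mem_inf.2 ⟨hU, hn⟩
    rwa [H.okD.pos_inf_monomial, Subgroup.mem_bot] at this
  have huu : u * u' = 1 := pos_inj H (mul_mem hu hu') (by
    rw [map_mul, map_mul, hn1, mul_one] at h1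
    rw [map_mul, h1])
  have hfix : ∀ r < P.nroots, wl P l r = r := by
    intro r hr
    obtain ⟨c, hc, a1, -⟩ := nWC_conj H l hl r hr
    obtain ⟨e, he, b1, -⟩ := tor_scalar H hd r hr
    have := congrArg θ (show n * x r 1 * n⁻¹ = x (wl P l r) ((c : K) * (e * 1)) by
      rw [← a1, ← b1]; simp only [n]; group)
    rw [map_mul, map_mul, map_inv, hn1, one_mul, inv_one, mul_one, H.img r hr,
      H.img _ (H.okD.wl_lt l hl r hr)] at this
    exact (H.okD.xG_index_inj hr (H.okD.wl_lt l hl r hr) one_ne_zero this).symm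
  have hnT : n ∈ torC P x :=
    mul_mem (nWC_reduce H hl fun r hr => by rw [hfix r (P.isPos_iff.1 hr).2]; exact hr).1 hd
  have hnc := tor_ker_central H hnT hn1
  have : u * n * u' = n := by
    rw [(Subgroup.mem_center_iff.1 hnc u), mul_assoc, huu, mul_one]
  rw [this]
  exact ⟨hnT, hnc⟩

/-- The centre maps to the centre, which is trivial. -/
theorem center_le_ker {z : C} (hz : z ∈ Subgroup.center C) : θ z = 1 := by
  obtain ⟨u, hu, l, hl, d, hd, u', hu', e⟩ := inUNU H z
  set n := nWC P x l * d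
  set w := u⁻¹ * u'⁻¹ with hw
  have hn : n = z * w := by
    have hzu := Subgroup.mem_center_iff.1 hz u⁻¹
    calc n = u⁻¹ * (u * n * u') * u'⁻¹ := by group
      _ = u⁻¹ * z * u'⁻¹ := by rw [← e]
      _ = _ := by rw [hzu, hw]; group
  have hpos : ∀ r, P.isPos r = true → P.isPos (wl P l r) = true := by
    intro r hr
    have hrn := (P.isPos_iff.1 hr).2
    obtain ⟨c, hc, a1, -⟩ := nWC_conj H l hl r hrn
    obtain ⟨e', he, b1, -⟩ := tor_scalar H hd r hrn
    set q := wl P l r
    have hq := H.okD.wl_lt l hl r hrn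
    have h2 : n * x r 1 * n⁻¹ ∈ genC x fun r => P.isPos r = true := by
      have e2 : n * x r 1 * n⁻¹ = w * x r 1 * w⁻¹ := by
        rw [hn]
        have hc1 := Subgroup.mem_center_iff.1 hz (w * x r 1 * w⁻¹)
        calc z * w * x r 1 * (z * w)⁻¹ = z * (w * x r 1 * w⁻¹) * z⁻¹ := by group
          _ = _ := by rw [← hc1]; group
      rw [e2]
      have hwm : w ∈ genC x fun r => P.isPos r = true := mul_mem (inv_mem hu) (inv_mem hu')
      exact mul_mem (mul_mem hwm (x_mem_genC x hr 1)) (inv_mem hwm)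
    rw [show n * x r 1 * n⁻¹ = x q ((c : K) * (e' * 1)) by rw [← a1, ← b1]; simp only [n]; group] at h2
    by_contra hcon
    simp only [Bool.not_eq_true] at hcon
    have h3 := img_U H h2
    rw [H.img q hq] at h3
    have h4 : H.okD.xG q ((c : K) * (e' * 1)) ∈ D.borelSubgroup K ⊓ D.negUnipotent K :=
      Subgroup.mem_inf.2 ⟨Subgroup.mem_sup_left h3, H.okD.xG_mem_neg hq hcon _⟩
    rw [H.okD.borel_inf_neg, Subgroup.mem_bot] at h4
    have h5 := H.okD.xG_inj_param hq (h4.trans (H.okD.xG_zero (F := K) q).symm)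
    rcases mul_eq_zero.1 h5 with h6 | h6
    · exact sign_ne_zero hc h6
    · rw [mul_one] at h6; exact he h6
  have hnT : n ∈ torC P x := mul_mem (nWC_reduce H hl hpos).1 hd
  have hB : θ z ∈ D.borelSubgroup K := by
    rw [e, map_mul, map_mul]
    exact mul_mem (mul_mem (Subgroup.mem_sup_left (img_U H hu)) (Subgroup.mem_sup_right (img_tor H hnT)))
      (Subgroup.mem_sup_left (img_U H hu'))
  have hrange : ∀ g : GL D.Idx K, g ∈ D.group K → g * θ z = θ z * g := by
    intro g hg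
    have : D.group K ≤ Subgroup.centralizer {θ z} := H.okD.group_le fun r hr t => by
      rw [Subgroup.mem_centralizer_singleton_iff, ← H.img r hr, ← map_mul, ← map_mul,
        Subgroup.mem_center_iff.1 hz]
    exact Subgroup.mem_centralizer_singleton_iff.1 (this hg)
  have hzG : θ z ∈ D.group K := H.okD.borel_le_group hB
  have h7 := H.okD.core_bot (F := K)
  have h8 : (⟨θ z, hzG⟩ : D.group K) ∈ ((D.borelSubgroup K).subgroupOf (D.group K)).normalCore := by
    intro g
    rw [Subgroup.mem_subgroupOf]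
    rw [show ((g * ⟨θ z, hzG⟩ * g⁻¹ : D.group K) : GL D.Idx K) = θ z by
      simp [hrange _ g.2]]
    exact hB
  rw [h7, Subgroup.mem_bot] at h8
  simpa using congrArg Subtype.val h8

end Cov

end Cfsg.Agent.Chev.CT
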