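/-
Over a finite field the torus relation (R3) follows from (R1) and (R2).
-/
import Cfsg.Agent.Lib.CurtisTits.Torus

set_option autoImplicit false
set_option linter.unusedSectionVars false
set_option maxHeartbeats 1000000

namespace Cfsg.Agent.Chev.CT

open Cfsg.Agent.Chev Cfsg.Lie

variable {D : ChevalleyDatum} {P : Pk} {K : Type*} [Field K] [Finite K] {C : Type*} [Group C]

/-- Some non-square is one more than a non-zero square. -/
theorem exists_nonsquare_succ (h2 : (2 : K) ≠ 0) :
    ∃ s : K, ¬ IsSquare s ∧ IsSquare (s - 1) ∧ s - 1 ≠ 0 := by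
  classical
  haveI := Fintype.ofFinite K
  obtain ⟨v, hv⟩ := FiniteField.exists_nonsquare (F := K) (by
    intro h
    haveI : CharP K 2 := ringChar.of_eq h
    exact h2 (by simpa using CharP.cast_eq_zero K 2))
  by_contra hne
  push_neg at hne
  -- adding one preserves squares
  have step : ∀ y : K, IsSquare y → IsSquare (y + 1) := by
    intro y hy
    by_cases h0 : y = 0
    · simp [h0]
    · by_contra hcon
      exact h0 (by simpa using hne (y + 1) hcon (by simpa using hy))
  -- so the squares are a union of cosets of the prime field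
  obtain ⟨p, hp⟩ := CharP.exists K
  haveI := hp
  haveI hpp : Fact p.Prime := ⟨CharP.char_is_prime K p⟩
  have stepn : ∀ (y : K) (n : ℕ), IsSquare y → IsSquare (y + n) := by
    intro y n hy
    induction n with
    | zero => simpa using hy
    | succ n ih => rw [Nat.cast_succ, ← add_assoc]; exact step _ ih
  set S := Finset.univ.filter fun y : K => IsSquare y
  have hS : ∀ y, y ∈ S ↔ IsSquare y := by simp [S]
  -- count the squares
  have hcount : 2 * S.card = Fintype.card K + 1 := by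
    have hv0 : v ≠ 0 := by rintro rfl; exact hv IsSquare.zero
    have h0 : Finset.univ.filter (fun y : K => ¬ IsSquare y) = ((S.erase 0).image (v * ·)) := by
      ext y
      simp only [Finset.mem_filter, Finset.mem_univ, true_and, Finset.mem_image, Finset.mem_erase, hS]
      constructor
      · intro hy
        have hy0 : y ≠ 0 := by rintro rfl; exact hy IsSquare.zero
        refine ⟨v⁻¹ * y, ⟨mul_ne_zero (inv_ne_zero hv0) hy0, ?_⟩, mul_inv_cancel_left₀ hv0 y⟩
        have e1 := (quadraticChar_neg_one_iff_not_isSquare (F := K)).2 hv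
        have e2 := (quadraticChar_neg_one_iff_not_isSquare (F := K)).2 hy
        refine (quadraticChar_one_iff_isSquare (mul_ne_zero (inv_ne_zero hv0) hy0)).1 ?_
        have e3 : quadraticChar K v * quadraticChar K (v⁻¹ * y) = quadraticChar K y := by
          rw [← map_mul, mul_inv_cancel_left₀ hv0]
        rw [e1, e2] at e3
        linarith
      · rintro ⟨z, ⟨hz0, hz⟩, rfl⟩
        intro hcon
        obtain ⟨w, rfl⟩ := hz
        obtain ⟨u, hu⟩ := hcon
        have hw : w ≠ 0 := by rintro rfl; simp at hz0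
        refine hv ⟨u / w, ?_⟩
        field_simp
        linear_combination hu
    have h1 := Finset.card_filter_add_card_filter_not (s := (Finset.univ : Finset K)) fun y => IsSquare y
    rw [h0, Finset.card_image_of_injective _ (mul_right_injective₀ hv0), Finset.card_erase_of_mem
      ((hS 0).2 IsSquare.zero), Finset.card_univ] at h1
    change S.card + (S.card - 1) = _ at h1
    have : 0 < S.card := Finset.card_pos.2 ⟨0, (hS 0).2 IsSquare.zero⟩
    omega
  have hdvd : p ∣ S.card := by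
    have e1 : S = S.image (fun y => y + 1) := by
      refine (Finset.eq_of_subset_of_card_le ?_ ?_).symm
      · intro y hy
        obtain ⟨z, hz, rfl⟩ := Finset.mem_image.1 hy
        exact (hS _).2 (step z ((hS z).1 hz))
      · rw [Finset.card_image_of_injective _ (add_left_injective 1)]
    have e2 : ∑ y ∈ S, y = ∑ y ∈ S, (y + 1) := by
      conv_lhs => rw [e1]
      exact Finset.sum_image fun a _ b _ h => add_right_cancel h
    rw [Finset.sum_add_distrib] at e2
    have : (S.card : K) = 0 := by simpa using e2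
    exact (CharP.cast_eq_zero_iff K p _).1 this
  obtain ⟨n, -, hn⟩ := FiniteField.card K p
  have hpq : p ∣ Fintype.card K := by rw [hn]; exact dvd_pow_self p n.pos.ne'
  have h1 : p ∣ 1 := by
    have h3 : p ∣ 2 * S.card := dvd_mul_of_dvd_right hdvd 2
    rw [hcount] at h3
    exact (Nat.dvd_add_right hpq).1 h3
  exact hpp.out.ne_one (Nat.dvd_one.1 h1)

variable {x : ℕ → K → C} {θ : C →* GL D.Idx K} (H : Cov D P x θ) {i : ℕ} (hi : i < P.rank)
include H hi

/-- `h_i` is multiplicative up to central elements. -/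
theorem hI_central {t u : K} (ht : t ≠ 0) (hu : u ≠ 0) :
    hEl P x (P.sim i) t * hEl P x (P.sim i) u * (hEl P x (P.sim i) (t * u))⁻¹ ∈ Subgroup.center C := by
  have hp := H.okD.sim_lt hi
  refine tor_ker_central H (mul_mem (mul_mem (hEl_mem_torC hi ht) (hEl_mem_torC hi hu))
    (inv_mem (hEl_mem_torC hi (mul_ne_zero ht hu)))) ?_
  rw [map_mul, map_mul, map_inv, img_hEl H hp, img_hEl H hp, img_hEl H hp, H.okD.ht_eq hp ht,
    H.okD.ht_eq hp hu, H.okD.ht_eq hp (mul_ne_zero ht hu), H.okD.dG_mul _ _ (H.okD.isChar_pair (mul_ne_zero ht hu) (r := P.sim i))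
      (fun s _ => by rw [mul_zpow]), mul_inv_cancel]

theorem hI_one : hEl P x (P.sim i) (1 : K) = 1 := by
  rw [hEl, nEl_neg' H (H.okD.sim_lt hi), mul_inv_cancel]

theorem hI_commute {t u : K} (ht : t ≠ 0) (hu : u ≠ 0) :
    Commute (hEl P x (P.sim i) t) (hEl P x (P.sim i) u) := by
  obtain ⟨v, hv⟩ := IsCyclic.exists_monoid_generator (α := Kˣ)
  have key : ∀ n : ℕ, ∃ z ∈ Subgroup.center C,
      hEl P x (P.sim i) ((v : K) ^ n) = z * hEl P x (P.sim i) (v : K) ^ n := by
    intro n
    induction n with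
    | zero => exact ⟨1, one_mem _, by simp [hI_one H hi]⟩
    | succ n ih =>
      obtain ⟨z, hz, e⟩ := ih
      have hc := hI_central H hi (pow_ne_zero n v.ne_zero) v.ne_zero
      set c := hEl P x (P.sim i) ((v : K) ^ n) * hEl P x (P.sim i) (v : K) *
        (hEl P x (P.sim i) ((v : K) ^ n * (v : K)))⁻¹ with hcdef
      refine ⟨c⁻¹ * z, mul_mem (inv_mem hc) hz, ?_⟩
      rw [pow_succ, pow_succ, show c⁻¹ * z * (hEl P x (P.sim i) (v : K) ^ n * hEl P x (P.sim i) (v : K)) =
        c⁻¹ * (z * hEl P x (P.sim i) (v : K) ^ n) * hEl P x (P.sim i) (v : K) by group, ← e, hcdef]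
      group
  obtain ⟨n, hn⟩ := (Submonoid.mem_powers_iff _ _).1 (hv (Units.mk0 t ht))
  obtain ⟨m, hm⟩ := (Submonoid.mem_powers_iff _ _).1 (hv (Units.mk0 u hu))
  have hn' : t = (v : K) ^ n := by
    have := congrArg Units.val hn
    simp at this
    exact this.symm
  have hm' : u = (v : K) ^ m := by
    have := congrArg Units.val hm
    simp at this
    exact this.symm
  obtain ⟨z, hz, ez⟩ := key n
  obtain ⟨z', hz', ez'⟩ := key m
  rw [hn', hm', ez, ez']
  have c1 : ∀ g, Commute z g := fun g => (Subgroup.mem_center_iff.1 hz g).symm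
  have c2 : ∀ g, Commute z' g := fun g => (Subgroup.mem_center_iff.1 hz' g).symm
  exact ((c1 _).mul_left ((c2 _).symm.mul_right (Commute.pow_pow (Commute.refl _) n m)))

theorem nI_conj {t : K} (ht : t ≠ 0) (s : K) :
    hEl P x (P.sim i) t * nEl P x (P.sim i) s * (hEl P x (P.sim i) t)⁻¹ =
      nEl P x (P.sim i) (t ^ 2 * s) := by
  have hp := H.okD.sim_lt hi
  have hA := H.okD.A_self hi
  have h1 := fun w => h_conj H hi ht hp w
  have h2 := fun w => h_conj H hi ht (Ok.ng_lt hp) w
  rw [hA] at h1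
  rw [H.okD.A_ng hp hi, hA] at h2
  rw [nEl, show ∀ g a b : C, g * (a * b * a) * g⁻¹ = g * a * g⁻¹ * (g * b * g⁻¹) * (g * a * g⁻¹) from
    fun g a b => by group, h1, h2, nEl, zpow_ofNat, zpow_neg, zpow_ofNat, mul_inv, mul_neg]

theorem hI_sq_mul {t u : K} (ht : t ≠ 0) (hu : u ≠ 0) :
    hEl P x (P.sim i) (t ^ 2 * u) = hEl P x (P.sim i) (t ^ 2) * hEl P x (P.sim i) u := by
  have hp := H.okD.sim_lt hi
  set N := fun s : K => nEl P x (P.sim i) s
  have e : hEl P x (P.sim i) t * hEl P x (P.sim i) u * (hEl P x (P.sim i) t)⁻¹ =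
      hEl P x (P.sim i) (t ^ 2 * u) * (hEl P x (P.sim i) (t ^ 2))⁻¹ := by
    rw [hEl, hEl, hEl, hEl]
    rw [show ∀ g a b : C, g * (a * b) * g⁻¹ = g * a * g⁻¹ * (g * b * g⁻¹) from fun g a b => by group]
    have h1 := nI_conj H hi ht u
    have h2 := nI_conj H hi ht (-1)
    rw [hEl] at h1 h2
    rw [h1, h2, mul_neg_one, nEl_neg' H hp, nEl_neg' H hp]
    group
  rw [show hEl P x (P.sim i) t * hEl P x (P.sim i) u * (hEl P x (P.sim i) t)⁻¹ = hEl P x (P.sim i) u by
    rw [(hI_commute H hi ht hu).eq, mul_inv_cancel_right]] at e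
  rw [(hI_commute H hi (pow_ne_zero 2 ht) hu).eq, e]
  group

/-- (R3) for a fundamental root. -/
theorem hI_mul (he : P.eta i (P.sim i) = -1) {t u : K} (ht : t ≠ 0) (hu : u ≠ 0) :
    hEl P x (P.sim i) t * hEl P x (P.sim i) u = hEl P x (P.sim i) (t * u) := by
  classical
  haveI := Fintype.ofFinite K
  set h := fun s : K => hEl P x (P.sim i) s with hh
  have sq : ∀ t u : K, t ≠ 0 → u ≠ 0 → IsSquare t → h t * h u = h (t * u) := by
    intro t u ht hu hsq
    obtain ⟨r, rfl⟩ := hsq
    have hr : r ≠ 0 := by rintro rfl; simp at ht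
    simp only [hh]
    rw [← pow_two, ← hI_sq_mul H hi hr hu]
  by_cases h2 : (2 : K) = 0
  · refine sq t u ht hu ?_
    exact FiniteField.isSquare_of_char_two (CharP.ringChar_of_prime_eq_zero Nat.prime_two h2) t
  obtain ⟨v, hv, hv1, hv0⟩ := exists_nonsquare_succ h2
  have hvne : v ≠ 0 := by rintro rfl; exact hv IsSquare.zero
  set E := h v * h v * (h (v * v))⁻¹ with hE
  have hEc : E ∈ Subgroup.center C := hI_central H hi hvne hvne
  have hcomm : ∀ a b : K, a ≠ 0 → b ≠ 0 → Commute (h a) (h b) := fun a b ha hb => hI_commute H hi ha hb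
  -- the defect only depends on square classes
  have form : ∀ t u : K, t ≠ 0 → u ≠ 0 → ¬ IsSquare t → ¬ IsSquare u → h t * h u = E * h (t * u) := by
    intro t u ht hu hnt hnu
    have hq : ∀ t : K, t ≠ 0 → ¬ IsSquare t → ∃ r, r ≠ 0 ∧ t = r ^ 2 * v := by
      intro t ht hnt
      have e1 := (quadraticChar_neg_one_iff_not_isSquare (F := K)).2 hv
      have e2 := (quadraticChar_neg_one_iff_not_isSquare (F := K)).2 hnt
      have e3 : quadraticChar K (t / v) * quadraticChar K v = quadraticChar K t := by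
        rw [← map_mul, div_mul_cancel₀ _ hvne]
      rw [e1, e2] at e3
      obtain ⟨r, hr⟩ := (quadraticChar_one_iff_isSquare (div_ne_zero ht hvne)).1 (by linarith)
      refine ⟨r, fun h0 => div_ne_zero ht hvne (by rw [hr, h0, mul_zero]), ?_⟩
      rw [pow_two, ← hr, div_mul_cancel₀ _ hvne]
    obtain ⟨r, hr, rfl⟩ := hq t ht hnt
    obtain ⟨s, hs, rfl⟩ := hq u hu hnu
    have a1 := sq (r ^ 2) v (pow_ne_zero 2 hr) hvne (IsSquare.sq r)
    have a2 := sq (s ^ 2) v (pow_ne_zero 2 hs) hvne (IsSquare.sq s)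
    have a3 := sq (r ^ 2) (s ^ 2) (pow_ne_zero 2 hr) (pow_ne_zero 2 hs) (IsSquare.sq r)
    have a4 := sq (r ^ 2 * s ^ 2) (v * v) (mul_ne_zero (pow_ne_zero 2 hr) (pow_ne_zero 2 hs))
      (mul_ne_zero hvne hvne) ((IsSquare.sq r).mul (IsSquare.sq s))
    rw [← a1, ← a2, show r ^ 2 * v * (s ^ 2 * v) = r ^ 2 * s ^ 2 * (v * v) by ring, ← a4, ← a3]
    have c1 := hcomm v (s ^ 2) hvne (pow_ne_zero 2 hs)
    calc h (r ^ 2) * h v * (h (s ^ 2) * h v) = h (r ^ 2) * (h v * h (s ^ 2)) * h v := by group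
      _ = h (r ^ 2) * h (s ^ 2) * (E * h (v * v)) := by rw [c1.eq, hE]; group
      _ = E * (h (r ^ 2) * h (s ^ 2) * h (v * v)) := by
        rw [← mul_assoc, Subgroup.mem_center_iff.1 hEc (h (r ^ 2) * h (s ^ 2))]; group
  -- Steinberg's relation kills the defect
  have hE1 : E = 1 := by
    have hp := H.okD.sim_lt hi
    have hq := Ok.ng_lt hp
    set s := v
    have h1s : (1 : K) - s ≠ 0 := fun e => hv0 (by linear_combination -e)
    set X := x (P.sim i)
    set N := nEl P x (P.sim i)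
    set Y := x (P.ng (P.sim i))
    have hy : ∀ σ : K, Y σ = X σ⁻¹ * N (-σ⁻¹) * X σ⁻¹ := by
      intro σ
      simp only [X, N, Y]
      rw [nEl, inv_neg, inv_inv, neg_neg, ← x_invC H hp]; group
    have hXadd : ∀ a b, X a * X b = X (a + b) := fun a b => x_addC H hp a b
    have hnx : ∀ c d : K, c ≠ 0 → N c * X d = Y (-(d / c ^ 2)) * N c := by
      intro c d hc
      have h1 := up_all H hi hp d
      rw [H.okD.w_sim hi, he] at h1
      have h2 := h_conj H hi hc hq ((-1 : ℤ) * d : K)
      rw [H.okD.A_ng hp hi, H.okD.A_self hi, ← h1, zpow_neg, zpow_ofNat] at h2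
      simp only [N, X, Y, nEl_eq H hi]
      rw [show -(d / c ^ 2) = (c ^ 2)⁻¹ * (((-1 : ℤ) : K) * d) by push_cast; ring, ← h2]
      group
    have hxn : ∀ c e d : K, c ≠ 0 → e ≠ 0 → X d * (N c * N e) = N c * N e * X ((e / c) ^ 2 * d) := by
      intro c e d hc he'
      have hne : N c * N e = hEl P x (P.sim i) c * (hEl P x (P.sim i) (-e))⁻¹ := by
        simp only [N, hEl]
        rw [nEl_neg' H hp, nEl_neg' H hp]; group
      rw [hne]
      have h1 := h_conj H hi hc hp ((e ^ 2)⁻¹ * ((e / c) ^ 2 * ((e ^ 2) / 1) * d) : K)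
      have h2 := h_conj H hi (neg_ne_zero.2 he') hp ((e ^ 2)⁻¹ * ((e / c) ^ 2 * d) : K)
      rw [H.okD.A_self hi, zpow_ofNat, neg_sq, mul_inv_cancel_left₀ (pow_ne_zero 2 he')] at h2
      have h3 := h_conj H hi hc hp ((e ^ 2)⁻¹ * ((e / c) ^ 2 * d) : K)
      rw [H.okD.A_self hi, zpow_ofNat, show c ^ 2 * ((e ^ 2)⁻¹ * ((e / c) ^ 2 * d)) = d by field_simp] at h3
      simp only [X]
      rw [← h3, ← h2]
      group
    have e1 : Y (1 - s) * Y s = Y 1 := by
      simp only [Y]; rw [x_addC H hq]; congr 1; ring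
    have e2 : N (s / (1 - s)) * N (-(1 - s)⁻¹) * N (-s⁻¹) = N (-1) := by
      set S := (1 - s)⁻¹ + s⁻¹ with hS
      have hmid : Y (1 - s) * Y s = X 1 * (N (s / (1 - s)) * N (-(1 - s)⁻¹) * N (-s⁻¹)) * X 1 := by
        rw [hy (1 - s), hy s]
        calc X (1 - s)⁻¹ * N (-(1 - s)⁻¹) * X (1 - s)⁻¹ * (X s⁻¹ * N (-s⁻¹) * X s⁻¹)
            = X (1 - s)⁻¹ * (N (-(1 - s)⁻¹) * (X (1 - s)⁻¹ * X s⁻¹)) * (N (-s⁻¹) * X s⁻¹) := by group
          _ = X (1 - s)⁻¹ * (Y (-(S / (-(1 - s)⁻¹) ^ 2)) * N (-(1 - s)⁻¹)) * (N (-s⁻¹) * X s⁻¹) := by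
            rw [hXadd, hnx _ _ (neg_ne_zero.2 (inv_ne_zero h1s))]
          _ = (X (1 - s)⁻¹ * X (-(s / (1 - s)))) * N (s / (1 - s)) *
              (X (-(s / (1 - s))) * (N (-(1 - s)⁻¹) * N (-s⁻¹))) * X s⁻¹ := by
            rw [hy, show (-(S / (-(1 - s)⁻¹) ^ 2))⁻¹ = -(s / (1 - s)) by rw [hS]; field_simp; ring, neg_neg]
            group
          _ = X 1 * (N (s / (1 - s)) * N (-(1 - s)⁻¹) * N (-s⁻¹)) *
              (X ((-s⁻¹ / -(1 - s)⁻¹) ^ 2 * -(s / (1 - s))) * X s⁻¹) := by
            rw [hXadd, hxn _ _ _ (neg_ne_zero.2 (inv_ne_zero h1s)) (neg_ne_zero.2 (inv_ne_zero hvne)),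
              show (1 - s)⁻¹ + -(s / (1 - s)) = 1 by field_simp; ring]
            group
          _ = _ := by
            rw [hXadd, show (-s⁻¹ / -(1 - s)⁻¹) ^ 2 * -(s / (1 - s)) + s⁻¹ = 1 by field_simp; ring]
      rw [e1, hy, inv_one] at hmid
      exact (mul_left_cancel (mul_right_cancel hmid)).symm
    -- in terms of `h`
    have e3 : h (s / (1 - s)) * (h (1 - s)⁻¹)⁻¹ * h (-s⁻¹) = h (-1) := by
      simp only [hh, hEl]
      rw [← show N (s / (1 - s)) * N (-(1 - s)⁻¹) * N (-s⁻¹) * nEl P x (P.sim i) (-1) =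
        N (s / (1 - s)) * nEl P x (P.sim i) (-1) * (nEl P x (P.sim i) (1 - s)⁻¹ * nEl P x (P.sim i) (-1))⁻¹ *
          (nEl P x (P.sim i) (-s⁻¹) * nEl P x (P.sim i) (-1)) by
        simp only [N]; rw [nEl_neg' H hp (1 - s)⁻¹]; group, e2]
    set a := s / (1 - s)
    set b := -s⁻¹
    set d := (1 - s)⁻¹
    have ha : a ≠ 0 := div_ne_zero hvne h1s
    have hb : b ≠ 0 := neg_ne_zero.2 (inv_ne_zero hvne)
    have hd : d ≠ 0 := inv_ne_zero h1s
    have hab : a * b = -1 * d := by simp only [a, b, d]; field_simp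
    have key : h a * h b = h (-1) * h d := by
      rw [← e3]
      have := (hcomm b d hb hd).eq
      calc h a * h b = h a * (h d)⁻¹ * (h d * h b) := by group
        _ = _ := by rw [← this]; group
    have m1 : (-1 : K) ≠ 0 := neg_ne_zero.2 one_ne_zero
    have hcases : ∀ p q : K, p ≠ 0 → q ≠ 0 →
        h p * h q = (if IsSquare p ∨ IsSquare q then 1 else E) * h (p * q) := by
      intro p q hp' hq'
      split_ifs with hc
      · rcases hc with hc | hc
        · rw [one_mul]; exact sq p q hp' hq' hc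
        · rw [one_mul, (hcomm p q hp' hq').eq, mul_comm p q]; exact sq q p hq' hp' hc
      · push_neg at hc
        exact form p q hp' hq' hc.1 hc.2
    rw [hcases a b ha hb, hcases (-1) d m1 hd, hab] at key
    have keyE := mul_right_cancel key
    -- square classes
    have hs' : quadraticChar K s = -1 := (quadraticChar_neg_one_iff_not_isSquare).2 hv
    have hd' : quadraticChar K d = quadraticChar K (-1) := by
      have e4 : quadraticChar K (1 - s) = quadraticChar K (-1) := by
        rw [show (1 : K) - s = -1 * (s - 1) by ring, map_mul,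
          (quadraticChar_one_iff_isSquare hv0).2 hv1, mul_one]
      have e5 : quadraticChar K d * quadraticChar K (1 - s) = 1 := by
        rw [← map_mul, inv_mul_cancel₀ h1s, map_one]
      rw [e4] at e5
      rcases quadraticChar_dichotomy m1 with e6 | e6 <;> rw [e6] at e5 ⊢ <;> linarith
    have hsd : quadraticChar K s⁻¹ = -1 := by
      have : quadraticChar K s⁻¹ * quadraticChar K s = 1 := by rw [← map_mul, inv_mul_cancel₀ hvne, map_one]
      rw [hs'] at this; linarith
    have hqa : quadraticChar K a = - quadraticChar K (-1) := by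
      simp only [a, div_eq_mul_inv, map_mul]
      rw [hs', show (1 - s)⁻¹ = d from rfl, hd']; ring
    have hqb : quadraticChar K b = - quadraticChar K (-1) := by
      simp only [b]
      rw [show -s⁻¹ = -1 * s⁻¹ by ring, map_mul, hsd]; ring
    have iff1 : ∀ y : K, y ≠ 0 → (IsSquare y ↔ quadraticChar K y = 1) :=
      fun y hy => (quadraticChar_one_iff_isSquare hy).symm
    simp only [iff1 a ha, iff1 b hb, iff1 (-1) m1, iff1 d hd, hqa, hqb, hd'] at keyE
    rcases quadraticChar_dichotomy m1 with e6 | e6 <;> rw [e6] at keyE <;> norm_num at keyE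
    · exact keyE
    · exact keyE.symm
  by_cases h1 : IsSquare t
  · exact sq t u ht hu h1
  by_cases h3 : IsSquare u
  · rw [(hI_commute H hi ht hu).eq, mul_comm t u]; exact sq u t hu ht h3
  · have := form t u ht hu h1 h3
    rwa [hE1, one_mul] at this

end Cfsg.Agent.Chev.CT
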