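/-
The Steinberg presentation and the presentation by (R1), (R2).
-/
import Cfsg.Agent.Lib.CurtisTits.Symbol
import Cfsg.Agent.Lib.Chev.AllC
import Cfsg.Agent.Lib.CurtisTits.Check2B2
import Cfsg.Agent.Lib.CurtisTits.Check2G2
import Cfsg.Agent.Lib.CurtisTits.Check2D4
import Cfsg.Agent.Lib.CurtisTits.Check2F4
import Cfsg.Agent.Lib.CurtisTits.Check2E6
import Cfsg.Agent.Lib.CurtisTits.Check2E7
import Cfsg.Agent.Lib.CurtisTits.Check2E8
import Cfsg.Prelude.Def_SteinbergCover

set_option autoImplicit false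
set_option linter.unusedSectionVars false
set_option maxHeartbeats 1000000

namespace Cfsg.Agent.Chev.CT

open Cfsg.Agent.Chev Cfsg.Lie

/-- The checks for the presentation theory. -/
structure Full (D : ChevalleyDatum) (P : Pk) : Prop where
  okD : Ok D P
  cC : P.ckComm = true
  up : ckUp2 P = true
  eta : ∀ i < P.rank, P.eta i (P.sim i) = -1

theorem exists_full {D : ChevalleyDatum}
    (hD : D ∈ [chevG2, chevB2, chevD4, chevF4, chevE6, chevE7, chevE8]) : ∃ P, Full D P := by
  simp only [List.mem_cons, List.not_mem_nil, or_false] at hD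
  rcases hD with rfl | rfl | rfl | rfl | rfl | rfl | rfl
  · exact ⟨_, Chev.G2.ok, ckComm_G2, UpG2.up_ok, UpG2.eta_sim⟩
  · exact ⟨_, Chev.B2.ok, ckComm_B2, UpB2.up_ok, UpB2.eta_sim⟩
  · exact ⟨_, Chev.D4.ok, ckComm_D4, UpD4.up_ok, UpD4.eta_sim⟩
  · exact ⟨_, Chev.F4.ok, ckComm_F4, UpF4.up_ok, UpF4.eta_sim⟩
  · exact ⟨_, Chev.E6.ok, ckComm_E6, UpE6.up_ok, UpE6.eta_sim⟩
  · exact ⟨_, Chev.E7.ok, ckComm_E7, UpE7.up_ok, UpE7.eta_sim⟩
  · exact ⟨_, Chev.E8.ok, ckComm_E8, UpE8.up_ok, UpE8.eta_sim⟩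

variable {D : ChevalleyDatum} {P : Pk} {K : Type*} [Field K] (h : Full D P)
include h

section Maps

variable {G : Type*} [Group G]

theorem map_stH (f : FreeGroup (Fin D.nroots × K) →* G) {r : ℕ} (hr : r < P.nroots) (t : K) :
    f (D.stH r t) = hEl P (fun a b => f (D.stX a b)) r t := by
  simp only [ChevalleyDatum.stH, ChevalleyDatum.stWord, ChevalleyDatum.hWord, ChevalleyDatum.nWord,
    h.okD.neg_eq hr, List.map_append, List.map_cons, List.map_nil, List.prod_append, List.prod_cons,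
    List.prod_nil, map_mul, map_one, mul_one, hEl, nEl, mul_assoc, List.cons_append, List.nil_append]

theorem map_commWord (f : FreeGroup (Fin D.nroots × K) →* G) {r s : ℕ} (hr : r < P.nroots)
    (hs : s < P.nroots) (t u : K) :
    f (D.stWord (D.commWord K r s t u)) = rhsW P (fun a b => f (D.stX a b)) r s t u := by
  rw [ChevalleyDatum.stWord, map_list_prod, List.map_map, ChevalleyDatum.commWord, List.map_map,
    h.okD.cterms_eq hr hs, rhsW]
  rfl

/-- (R1), (R2) hold in any group in which the relators die. -/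
theorem rel_of_hom (f : FreeGroup (Fin D.nroots × K) →* G) (x : ℕ → K → G)
    (hx : ∀ r t, f (D.stX r t) = x r t) (hf : ∀ g ∈ D.steinbergRelsAB K, f g = 1) :
    Rel P (okAll P) x := by
  have hlt : ∀ {r s}, okAll P r s = true → r < P.nroots ∧ s < P.nroots := by
    intro r s e; simpa [okAll] using e
  refine ⟨fun r hr t u => ?_, fun r s hc t u => ?_⟩
  · have := hf _ (Or.inl ⟨r, t, u, by rw [h.okD.nroots]; exact (hlt hr).1, rfl⟩)
    rwa [map_mul, map_mul, map_inv, mul_inv_eq_one, hx, hx, hx] at this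
  · obtain ⟨h2, hsr, hsn⟩ := cOk_iff.1 hc
    obtain ⟨hr, hs⟩ := hlt h2
    have := hf _ (Or.inr ⟨r, s, t, u, by rw [h.okD.nroots]; exact hr, by rw [h.okD.nroots]; exact hs, hsr,
      by rwa [h.okD.neg_eq hr], rfl⟩)
    rw [map_mul, map_inv, mul_inv_eq_one, map_commWord h _ hr hs, map_mul, map_mul, map_mul, map_inv,
      map_inv] at this
    simp only [hx] at this
    exact this

end Maps

theorem chev_comm {r s : ℕ} (hr : r < P.nroots) (hs : s < P.nroots) (hsr : s ≠ r) (hsn : s ≠ P.ng r)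
    (t u : K) : (h.okD.xG s u)⁻¹ * (h.okD.xG r t)⁻¹ * h.okD.xG s u * h.okD.xG r t =
      rhsW P h.okD.xG r s t u := by
  have e : h.okD.xG s u * h.okD.xG r t = h.okD.xG r t * h.okD.xG s u * rhsW P h.okD.xG r s t u := by
    apply Units.ext
    have hW : (rhsW P h.okD.xG r s t u : GL D.Idx K).val = D.wordMat K (D.commWord K r s t u) := by
      rw [rhsW, ChevalleyDatum.wordMat, ChevalleyDatum.commWord, h.okD.cterms_eq hr hs, List.map_map,
        ← Units.coeHom_apply, map_list_prod, List.map_map]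
      refine congrArg List.prod (List.map_congr_left fun c _ => ?_)
      simp [h.okD.coe_xG]
    simp only [Units.val_mul, h.okD.coe_xG, hW]
    exact h.okD.x_comm h.cC hr hs hsr hsn t u
  rw [show (h.okD.xG s u)⁻¹ * (h.okD.xG r t)⁻¹ * h.okD.xG s u * h.okD.xG r t =
    (h.okD.xG s u)⁻¹ * (h.okD.xG r t)⁻¹ * (h.okD.xG s u * h.okD.xG r t) by group, e]
  group

variable (K) in
/-- The generator map to the Chevalley group. -/
def genMap : Fin D.nroots × K → GL D.Idx K := fun p => h.okD.xG p.1 p.2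

theorem genMap_stX {r : ℕ} (hr : r < P.nroots) (t : K) :
    FreeGroup.lift (genMap K h) (D.stX r t) = h.okD.xG r t := by
  have hr : r < D.nroots := by rw [h.okD.nroots]; exact hr
  simp [ChevalleyDatum.stX, hr, genMap]

theorem genMap_rels : ∀ g ∈ D.steinbergRels K, FreeGroup.lift (genMap K h) g = 1 := by
  intro g hg
  rcases hg with (⟨r, t₁, t₂, hr, rfl⟩ | ⟨r, s, t, u, hr, hs, hsr, hsn, rfl⟩) | ⟨r, t₁, t₂, hr, h1, h2, rfl⟩
  all_goals rw [h.okD.nroots] at hr
  · rw [map_mul, map_mul, map_inv, mul_inv_eq_one, genMap_stX h hr, genMap_stX h hr, genMap_stX h hr]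
    exact h.okD.xG_add r _ _
  · rw [h.okD.nroots] at hs
    rw [map_mul, map_inv, mul_inv_eq_one, map_commWord h _ hr hs, map_mul, map_mul, map_mul, map_inv,
      map_inv, genMap_stX h hr, genMap_stX h hs, chev_comm h hr hs hsr (by rwa [← h.okD.neg_eq hr])]
    refine congrArg List.prod (List.map_congr_left fun c hc => ?_)
    simp only []
    rw [genMap_stX h (h.okD.cterms_lt hr hs c hc)]
  · have e : ∀ v, hEl P (fun a b => FreeGroup.lift (genMap K h) (D.stX a b)) r v = h.okD.ht r v := by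
      intro v; simp only [hEl, nEl, Ok.ht, Ok.nt, genMap_stX h hr, genMap_stX h (Ok.ng_lt hr)]
    rw [map_mul, map_mul, map_inv, mul_inv_eq_one, map_stH h _ hr, map_stH h _ hr, map_stH h _ hr, e, e, e,
      h.okD.ht_eq hr h1, h.okD.ht_eq hr h2, h.okD.ht_eq hr (mul_ne_zero h1 h2)]
    exact h.okD.dG_mul _ _ _ (fun s _ => by rw [mul_zpow])

theorem genMap_relsAB : ∀ g ∈ D.steinbergRelsAB K, FreeGroup.lift (genMap K h) g = 1 :=
  fun g hg => genMap_rels h g (Or.inl hg)

variable (K) in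
/-- The map from Steinberg's group to the matrix group. -/
def thSt : D.SteinbergGroup K →* GL D.Idx K := PresentedGroup.toGroup (genMap_rels h)

variable (K) in
/-- The map from the cover to the matrix group. -/
def thSc : D.SteinbergCover K →* GL D.Idx K := PresentedGroup.toGroup (genMap_relsAB h)

theorem thSt_gen {r : ℕ} (hr : r < P.nroots) (t : K) : thSt K h (D.stGen K r t) = h.okD.xG r t := by
  rw [← genMap_stX h hr t]; rfl

theorem thSc_gen {r : ℕ} (hr : r < P.nroots) (t : K) : thSc K h (D.scGen K r t) = h.okD.xG r t := by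
  rw [← genMap_stX h hr t]; rfl

theorem cov_St : Cov D P (D.stGen K) (thSt K h) := by
  refine ⟨h.okD, h.cC, h.up, rel_of_hom h _ _ (fun _ _ => rfl)
    (fun g hg => PresentedGroup.one_of_mem (Or.inl hg)), fun S hS => ?_, fun r hr t => thSt_gen h hr t⟩
  refine eq_top_iff.2 ?_
  rw [← PresentedGroup.closure_range_of (D.steinbergRels K), Subgroup.closure_le]
  rintro _ ⟨p, rfl⟩
  have := hS p.1.1 (h.okD.nroots ▸ p.1.2) p.2
  simpa [ChevalleyDatum.stGen, ChevalleyDatum.stX, p.1.2, PresentedGroup.of] using this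

theorem cov_Sc : Cov D P (D.scGen K) (thSc K h) := by
  refine ⟨h.okD, h.cC, h.up, rel_of_hom h _ _ (fun _ _ => rfl)
    (fun g hg => PresentedGroup.one_of_mem hg), fun S hS => ?_, fun r hr t => thSc_gen h hr t⟩
  refine eq_top_iff.2 ?_
  rw [← PresentedGroup.closure_range_of (D.steinbergRelsAB K), Subgroup.closure_le]
  rintro _ ⟨p, rfl⟩
  have := hS p.1.1 (h.okD.nroots ▸ p.1.2) p.2
  simpa [ChevalleyDatum.scGen, ChevalleyDatum.stX, p.1.2, PresentedGroup.of] using this

theorem stH_mk {r : ℕ} (hr : r < P.nroots) (t : K) :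
    PresentedGroup.mk (D.steinbergRels K) (D.stH r t) = hEl P (D.stGen K) r t :=
  map_stH h _ hr t

theorem torC_St : torC P (D.stGen K) = Subgroup.closure {g : D.SteinbergGroup K | ∃ (i : ℕ) (t : K),
    i < D.rank ∧ t ≠ 0 ∧ g = PresentedGroup.mk (D.steinbergRels K) (D.stH (D.simple i) t)} := by
  unfold torC
  congr 1
  ext g
  simp only [Set.mem_setOf_eq]
  constructor
  · rintro ⟨i, t, hi, ht, rfl⟩
    exact ⟨i, t, by rw [h.okD.rank]; exact hi, ht, by rw [h.okD.simple_eq hi, stH_mk h (h.okD.sim_lt hi)]⟩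
  · rintro ⟨i, t, hi, ht, rfl⟩
    rw [h.okD.rank] at hi
    exact ⟨i, t, hi, ht, by rw [h.okD.simple_eq hi, stH_mk h (h.okD.sim_lt hi)]⟩

/-- (R3) in the cover, for a finite field. -/
theorem sc_mul [Finite K] : ∀ r < P.nroots, ∀ t u : K, t ≠ 0 → u ≠ 0 →
    hEl P (D.scGen K) r t * hEl P (D.scGen K) r u = hEl P (D.scGen K) r (t * u) := by
  have H := cov_Sc (K := K) h
  intro r hr
  refine h.okD.root_induction (Q := fun r => ∀ t u : K, t ≠ 0 → u ≠ 0 →
    hEl P (D.scGen K) r t * hEl P (D.scGen K) r u = hEl P (D.scGen K) r (t * u))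
    (fun i hi t u ht hu => hI_mul H hi (h.eta i hi) ht hu) (fun i hi r hr IH => ?_) r hr
  set g := nS P (D.scGen K) i
  set c : K := (P.eta i r : K)
  have hc : c ≠ 0 := sign_ne_zero (eta_sq _ _)
  have hn : ∀ v : K, g * nEl P (D.scGen K) r v * g⁻¹ = nEl P (D.scGen K) (P.w i r) (c * v) :=
    nEl_conj (eta_sq _ _) (up_all H hi hr) fun v => by
      rw [up_all H hi (Ok.ng_lt hr) v, h.okD.w_ng hi hr, h.okD.eta_ng hi hr]
  have hh : ∀ v : K, v ≠ 0 → hEl P (D.scGen K) (P.w i r) v = g * hEl P (D.scGen K) r v * g⁻¹ := by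
    intro v hv
    have e := IH v c hv hc
    have key : hEl P (D.scGen K) r (v * c) * (hEl P (D.scGen K) r c)⁻¹ = hEl P (D.scGen K) r v := by
      rw [← e]; group
    have hn' : ∀ v : K, nEl P (D.scGen K) (P.w i r) v = g * nEl P (D.scGen K) r (c * v) * g⁻¹ := by
      intro v; rw [hn, cancel_sq (eta_sq _ _)]
    rw [← key, hEl, hn', hn', mul_neg_one, hEl, hEl, mul_comm c v, nEl_neg' H hr c, nEl_neg' H hr 1]
    group
  intro t u ht hu
  rw [hh t ht, hh u hu, hh _ (mul_ne_zero ht hu), ← IH t u ht hu]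
  group

theorem exists_sc_iso [Finite K] : ∃ e : D.SteinbergCover K ≃* D.SteinbergGroup K,
    ∀ (r : ℕ) (t : K), e (D.scGen K r t) = D.stGen K r t := by
  have hrel : ∀ g ∈ D.steinbergRels K,
      FreeGroup.lift (fun p : Fin D.nroots × K => D.scGen K p.1 p.2) g = 1 := by
    intro g hg
    have he : FreeGroup.lift (fun p : Fin D.nroots × K => D.scGen K p.1 p.2) =
        PresentedGroup.mk (D.steinbergRelsAB K) := by
      refine FreeGroup.ext_hom _ _ fun p => ?_
      simp [ChevalleyDatum.scGen, ChevalleyDatum.stX, p.1.2]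
    rw [he]
    rcases hg with hg | ⟨r, t₁, t₂, hr, h1, h2, rfl⟩
    · exact PresentedGroup.one_of_mem hg
    · rw [h.okD.nroots] at hr
      rw [map_mul, map_mul, map_inv, mul_inv_eq_one, map_stH h _ hr, map_stH h _ hr, map_stH h _ hr]
      exact sc_mul h r hr t₁ t₂ h1 h2
  let ψ : D.SteinbergGroup K →* D.SteinbergCover K := PresentedGroup.toGroup hrel
  have hrel' : ∀ g ∈ D.steinbergRelsAB K,
      FreeGroup.lift (fun p : Fin D.nroots × K => D.stGen K p.1 p.2) g = 1 := by
    intro g hg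
    have he : FreeGroup.lift (fun p : Fin D.nroots × K => D.stGen K p.1 p.2) =
        PresentedGroup.mk (D.steinbergRels K) := by
      refine FreeGroup.ext_hom _ _ fun p => ?_
      simp [ChevalleyDatum.stGen, ChevalleyDatum.stX, p.1.2]
    rw [he]
    exact PresentedGroup.one_of_mem (Or.inl hg)
  let φ : D.SteinbergCover K →* D.SteinbergGroup K := PresentedGroup.toGroup hrel'
  have hφ : ∀ r t, φ (D.scGen K r t) = D.stGen K r t := by
    intro r t
    show FreeGroup.lift (fun p : Fin D.nroots × K => D.stGen K p.1 p.2) (D.stX r t) = _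
    unfold ChevalleyDatum.stGen ChevalleyDatum.stX
    split <;> simp [*]
  have hψ : ∀ r t, ψ (D.stGen K r t) = D.scGen K r t := by
    intro r t
    show FreeGroup.lift (fun p : Fin D.nroots × K => D.scGen K p.1 p.2) (D.stX r t) = _
    unfold ChevalleyDatum.scGen ChevalleyDatum.stX
    split <;> simp [*]
  have eS : ∀ p : Fin D.nroots × K, (PresentedGroup.of p : D.SteinbergGroup K) = D.stGen K p.1 p.2 := by
    intro p; simp [ChevalleyDatum.stGen, ChevalleyDatum.stX, p.1.2, PresentedGroup.of]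
  have eC : ∀ p : Fin D.nroots × K, (PresentedGroup.of p : D.SteinbergCover K) = D.scGen K p.1 p.2 := by
    intro p; simp [ChevalleyDatum.scGen, ChevalleyDatum.stX, p.1.2, PresentedGroup.of]
  refine ⟨MonoidHom.toMulEquiv φ ψ ?_ ?_, hφ⟩
  · refine PresentedGroup.ext fun p => ?_
    rw [MonoidHom.comp_apply, MonoidHom.id_apply, eC, hφ, hψ]
  · refine PresentedGroup.ext fun p => ?_
    rw [MonoidHom.comp_apply, MonoidHom.id_apply, eS, hψ, hφ]

/-- The Chevalley group itself, with its root elements. -/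
theorem cov_G : Cov D P (fun r t => (⟨h.okD.xG r t, h.okD.mem_group_of_xG r t⟩ : D.group K))
    (D.group K).subtype := by
  refine ⟨h.okD, h.cC, h.up, ⟨fun r _ t u => Subtype.ext (h.okD.xG_add r t u), fun r s hc t u => ?_⟩,
    fun S hS => ?_, fun _ _ _ => rfl⟩
  · obtain ⟨h2, hsr, hsn⟩ := cOk_iff.1 hc
    obtain ⟨hr, hs⟩ : r < P.nroots ∧ s < P.nroots := by simpa [okAll] using h2
    refine (D.group K).subtype_injective ?_
    rw [rhsW, map_list_prod, List.map_map]
    exact chev_comm h hr hs hsr hsn t u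
  · have : D.group K ≤ S.map (D.group K).subtype :=
      h.okD.group_le fun r hr t => ⟨_, hS r hr t, rfl⟩
    rw [eq_top_iff]
    intro g _
    obtain ⟨a, ha, e⟩ := this g.2
    exact (show g = a from Subtype.ext e.symm) ▸ ha

/-- The Chevalley group has trivial centre. -/
theorem group_center_bot : Subgroup.center (D.group K) = ⊥ :=
  (Subgroup.eq_bot_iff_forall _).2 fun _ hz => Subtype.ext (center_le_ker (cov_G h) hz)

theorem thSt_range : (thSt K h).range = D.group K := by
  refine le_antisymm ?_ (h.okD.group_le fun r hr t => ⟨_, thSt_gen h hr t⟩)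
  rw [MonoidHom.range_eq_map, ← (cov_St (K := K) h).gen
    ((D.group K).comap (thSt K h)) fun r hr t => ?_]
  · exact Subgroup.map_comap_le _ _
  · rw [Subgroup.mem_comap, thSt_gen h hr]; exact h.okD.mem_group_of_xG r t

variable (K) in
/-- The map onto the Chevalley group. -/
def thG : D.SteinbergGroup K →* D.group K :=
  (thSt K h).codRestrict (D.group K) fun g => thSt_range (K := K) h ▸ ⟨g, rfl⟩

theorem thG_spec : Function.Surjective (thG K h) ∧
    (thG K h).ker = Subgroup.center (D.SteinbergGroup K) ∧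
    ∀ (r : ℕ) (t : K), r < D.nroots →
      ((thG K h (D.stGen K r t) : GL D.Idx K) : Matrix D.Idx D.Idx K) = D.x K r t := by
  have hk : ∀ g, thG K h g = 1 ↔ thSt K h g = 1 := fun g => by
    rw [← Subtype.val_inj]; rfl
  refine ⟨fun g => ?_, ?_, fun r t hr => ?_⟩
  · have : (g : GL D.Idx K) ∈ (thSt K h).range := by rw [thSt_range h]; exact g.2
    obtain ⟨a, ha⟩ := this
    exact ⟨a, Subtype.ext ha⟩
  · ext g
    rw [MonoidHom.mem_ker, hk]
    exact ⟨fun e => (ker_spec (cov_St h) e).2, center_le_ker (cov_St h)⟩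
  · show (thSt K h (D.stGen K r t) : Matrix D.Idx D.Idx K) = _
    rw [thSt_gen h (h.okD.nroots ▸ hr), h.okD.coe_xG]

theorem ker_le_torus (θ : D.SteinbergGroup K →* ↥(D.group K))
    (hθ : ∀ (r : ℕ) (t : K), r < D.nroots →
      ((θ (D.stGen K r t) : GL D.Idx K) : Matrix D.Idx D.Idx K) = D.x K r t) :
    θ.ker ≤ torC P (D.stGen K) := by
  intro g hg
  refine (ker_spec (cov_St h) ?_).1
  have : (D.group K).subtype.comp θ = thSt K h := by
    refine MonoidHom.eq_of_eqOn_dense (s := Set.range PresentedGroup.of) (PresentedGroup.closure_range_of _) ?_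
    rintro _ ⟨p, rfl⟩
    have e : (PresentedGroup.of p : D.SteinbergGroup K) = D.stGen K p.1 p.2 := by
      simp [ChevalleyDatum.stGen, ChevalleyDatum.stX, p.1.2, PresentedGroup.of]
    rw [e, MonoidHom.comp_apply, thSt_gen h (h.okD.nroots ▸ p.1.2)]
    apply Units.ext
    rw [Subgroup.coe_subtype, hθ _ _ p.1.2, h.okD.coe_xG]
  rw [← this, MonoidHom.comp_apply, MonoidHom.mem_ker.1 hg, map_one]

/-- The centre is trivial when the Cartan matrix is unimodular. -/
theorem exists_torHom : ∃ f : (Fin P.rank → Kˣ) →* D.SteinbergGroup K,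
    torC P (D.stGen K) ≤ f.range ∧ (thSt K h).comp f = h.okD.hHom ∧
      ∀ (i : Fin P.rank) (t : Kˣ), f (Pi.mulSingle i t) = hEl P (D.stGen K) (P.sim i) (t : K) := by
  have H := cov_St (K := K) h
  have hmul : ∀ i : Fin P.rank, ∀ t u : K, t ≠ 0 → u ≠ 0 →
      hEl P (D.stGen K) (P.sim i) t * hEl P (D.stGen K) (P.sim i) u = hEl P (D.stGen K) (P.sim i) (t * u) := by
    intro i t u ht hu
    have hp := h.okD.sim_lt i.isLt
    have := PresentedGroup.one_of_mem (rels := D.steinbergRels K)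
      (x := D.stH (P.sim i) t * D.stH (P.sim i) u * (D.stH (P.sim i) (t * u))⁻¹)
      (Or.inr ⟨_, t, u, by rw [h.okD.nroots]; exact hp, ht, hu, rfl⟩)
    rwa [map_mul, map_mul, map_inv, mul_inv_eq_one, stH_mk h hp, stH_mk h hp, stH_mk h hp] at this
  let φ : Fin P.rank → (Kˣ →* D.SteinbergGroup K) := fun i =>
    { toFun := fun t => hEl P (D.stGen K) (P.sim i) (t : K)
      map_one' := by
        show hEl P (D.stGen K) (P.sim i) ((1 : Kˣ) : K) = 1
        rw [Units.val_one, hEl, nEl_neg' H (h.okD.sim_lt i.isLt), mul_inv_cancel]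
      map_mul' := fun t u => by
        show hEl P (D.stGen K) (P.sim i) ((t * u : Kˣ) : K) = _
        rw [Units.val_mul, ← hmul i _ _ t.ne_zero u.ne_zero] }
  have hcomm : Pairwise fun i j => ∀ (a b : Kˣ), Commute (φ i a) (φ j b) := by
    intro i j _ a b
    have hp := h.okD.sim_lt j.isLt
    set g := φ i a
    obtain ⟨c, hc, a1, a2⟩ := tor_scalar H (hEl_mem_torC (x := D.stGen K) i.isLt a.ne_zero) _ hp
    have hn : ∀ v : K, g * nEl P (D.stGen K) (P.sim j) v * g⁻¹ = nEl P (D.stGen K) (P.sim j) (c * v) := by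
      intro v
      show hEl P (D.stGen K) (P.sim i) (a : K) * _ * (hEl P (D.stGen K) (P.sim i) (a : K))⁻¹ = _
      rw [nEl, show ∀ g x y : D.SteinbergGroup K, g * (x * y * x) * g⁻¹ = g * x * g⁻¹ * (g * y * g⁻¹) * (g * x * g⁻¹)
        from fun g x y => by group, a1, a2, nEl, mul_inv, mul_neg]
    have e : g * φ j b * g⁻¹ = φ j b := by
      show g * hEl P (D.stGen K) (P.sim j) (b : K) * g⁻¹ = hEl P (D.stGen K) (P.sim j) (b : K)
      have h3 := hmul j _ _ b.ne_zero hc
      rw [hEl, show ∀ x y : D.SteinbergGroup K, g * (x * y) * g⁻¹ = g * x * g⁻¹ * (g * y * g⁻¹) from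
        fun x y => by group, hn, hn, mul_neg_one, nEl_neg' H hp c]
      calc nEl P (D.stGen K) (P.sim j) (c * b) * (nEl P (D.stGen K) (P.sim j) c)⁻¹
          = hEl P (D.stGen K) (P.sim j) (b * c) * (hEl P (D.stGen K) (P.sim j) c)⁻¹ := by
            simp only [hEl]; rw [mul_comm (b : K) c, nEl_neg' H hp 1]; group
        _ = hEl P (D.stGen K) (P.sim j) (b : K) := by rw [← h3]; group
        _ = _ := rfl
    exact mul_inv_eq_iff_eq_mul.1 e
  have hrange : torC P (D.stGen K) ≤ (MonoidHom.noncommPiCoprod φ hcomm).range := by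
    refine (Subgroup.closure_le _).2 ?_
    rintro g ⟨i, t, hi, ht, rfl⟩
    exact ⟨Pi.mulSingle ⟨i, hi⟩ (Units.mk0 t ht), by rw [MonoidHom.noncommPiCoprod_mulSingle]; rfl⟩
  have himg : (thSt K h).comp (MonoidHom.noncommPiCoprod φ hcomm) = h.okD.hHom := by
    refine MonoidHom.pi_ext fun i t => ?_
    rw [MonoidHom.comp_apply, MonoidHom.noncommPiCoprod_mulSingle, h.okD.hHom_single]
    exact img_hEl H (h.okD.sim_lt i.isLt) _
  exact ⟨_, hrange, himg, fun i t => by rw [MonoidHom.noncommPiCoprod_mulSingle]; rfl⟩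

theorem center_eq_bot {d : ℤ} (hd : d * d = 1) (inv : List (List ℤ))
    (hinv : ∀ i < P.rank, ∀ j < P.rank,
      ((List.range P.rank).map fun k => P.A j (P.sim k) * (inv.getD k []).getD i 0).sum =
        if j = i then d else 0) :
    Subgroup.center (D.SteinbergGroup K) = ⊥ := by
  have H := cov_St (K := K) h
  obtain ⟨f, hrange, himg, -⟩ := exists_torHom (K := K) h
  refine (Subgroup.eq_bot_iff_forall _).2 fun z hz => ?_
  have hz1 := center_le_ker H hz
  have hT := (ker_spec H hz1).1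
  obtain ⟨c, rfl⟩ := hrange hT
  have hc1 : h.okD.hHom c = 1 := by rw [← himg]; exact hz1
  suffices c = 1 by rw [this, map_one]
  have hk : ∀ k : Fin P.rank, ∏ j : Fin P.rank, (c j : K) ^ P.A j (P.sim k) = 1 := by
    intro k
    have e := h.okD.hHom_xG c (h.okD.sim_lt k.isLt) (1 : K)
    rw [hc1, one_mul, inv_one, mul_one, mul_one] at e
    exact (h.okD.xG_inj_param (h.okD.sim_lt k.isLt) e).symm
  funext m
  apply Units.ext
  have e : ∏ k : Fin P.rank, (∏ j : Fin P.rank, (c j : K) ^ P.A j (P.sim k)) ^ ((inv.getD k []).getD m 0) = 1 :=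
    Finset.prod_eq_one fun k _ => by rw [hk k, one_zpow]
  simp only [← Finset.prod_zpow, ← zpow_mul] at e
  rw [Finset.prod_comm] at e
  have hj : ∀ j : Fin P.rank,
      ∏ k : Fin P.rank, (c j : K) ^ (P.A j (P.sim k) * (inv.getD k []).getD m 0) =
        (c j : K) ^ (if (j : ℕ) = m then d else 0) := by
    intro j
    rw [← hinv m m.isLt j j.isLt, ← List.sum_toFinset _ List.nodup_range, List.toFinset_range,
      ← Fin.sum_univ_eq_sum_range, prod_zpow (c j).ne_zero]
  simp only [hj] at e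
  rw [Finset.prod_eq_single m (fun j _ hne => by rw [if_neg (fun e' => hne (Fin.ext e')), zpow_zero])
    (fun hn => absurd (Finset.mem_univ m) hn), if_pos rfl] at e
  rcases Int.eq_one_or_neg_one_of_mul_eq_one hd with rfl | rfl
  · simpa using e
  · simpa using e

end Cfsg.Agent.Chev.CT
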