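/-
Kernel checks for the splitting of central extensions in the simply laced case.
-/
import Cfsg.Agent.Lib.CurtisTits.Check

set_option autoImplicit false

namespace Cfsg.Agent.Chev.CT

open Cfsg.Agent.Chev

variable (P : Pk)

/-- A single unit term. -/
def sgl (r s k : ℕ) : Bool :=
  !(Nat.beq s r) && !(Nat.beq s (P.ng r)) && short P r s && Nat.beq (P.tgt r s 0) k &&
    decide (P.coef r s 0 * P.coef r s 0 = 1)

/-- The root elements commute in the group. -/
def cmG (r s : ℕ) : Bool :=
  Nat.beq r s || (!(Nat.beq s (P.ng r)) && Nat.beq (P.len r s) 0 && Nat.beq (P.len s r) 0)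

/-- Candidate decompositions of a root. -/
def decL (q : ℕ) : List (ℕ × ℕ) :=
  (P.keys q).filterMap fun k =>
    let a := P.ng k
    let b := P.tgt k q 0
    bif Nat.blt a P.nroots && Nat.blt b P.nroots && sgl P a b q then some (a, b) else none

/-- `x_r` is orthogonal to a decomposition of `q`. -/
def decK (r q : ℕ) : Bool := cmG P r q && (decL P q).any fun p => cmG P r p.1 && cmG P r p.2

/-- Either order. -/
def decK2 (r q : ℕ) : Bool := decK P r q || decK P q r

/-- An edge relating the pairs `(r, s)` and `(e, b)` with a sign. -/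
def oEdge (r s : ℕ) (p : ℕ × ℕ) : Option (ℕ × ℕ × ℤ) :=
  let a := p.1
  let b := p.2
  let e := P.tgt r a 0
  bif sgl P r a e && cmG P r b && cmG P e b && Nat.blt e P.nroots && decK2 P e s then
    some (e, b, P.coef a b 0 * P.coef r a 0) else none

/-- An orthogonal pair killed by two edges. -/
def orthK (r s : ℕ) : Bool := cmG P r s && cmG P s r &&
  let E := (decL P s).filterMap (oEdge P r s)
  (E.any fun x => E.any fun y => Nat.beq x.1 y.2.1 && Nat.beq x.2.1 y.1 && decide (x.2.2 = y.2.2)) &&
    ((List.range P.rank).any fun i =>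
      Nat.beq (P.A i r + P.A i s).natAbs 1 || Nat.beq (P.A i r + P.A i s).natAbs 2)

/-- The lifts commute. -/
def killP (orth : Bool) (r s : ℕ) : Bool := decK2 P r s || (orth && orthK P r s)

/-- One step between the decompositions of a root. -/
def hEdge (m r s : ℕ) (t : ℕ × ℕ) : Bool :=
  (decL P r).any fun p =>
    Nat.beq p.2 t.2 && sgl P s p.1 t.1 && sgl P t.1 p.2 m && cmG P s p.2 && sgl P s r m &&
      cmG P t.1 r && cmG P r m

/-- One round. -/
def cRound (m : ℕ) (L : List (ℕ × ℕ)) : List (ℕ × ℕ) :=
  (decL P m).filter fun p => L.any fun q =>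
    (Nat.beq p.1 q.1 && Nat.beq p.2 q.2) || (Nat.beq p.1 q.2 && Nat.beq p.2 q.1) || hEdge P m p.1 p.2 q

/-- Several rounds. -/
def cRounds (m : ℕ) : ℕ → List (ℕ × ℕ) → List (ℕ × ℕ)
  | 0, L => L
  | n + 1, L => cRounds m n (cRound P m L)

/-- The decompositions of a root are linked. -/
def ckLink : Bool := P.allRoots.all fun m =>
  !((decL P m).isEmpty) && decide (cRounds P m 6 ((decL P m).take 1) = decL P m) &&
    ((decL P m).all fun p => cmG P p.1 m) &&
    ((decL P m).all fun p => (decL P m).any fun q => Nat.beq q.1 p.2 && Nat.beq q.2 p.1) &&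
    (((decL P m).take 1).all fun p => (decL P m).any fun q => hEdge P m p.1 p.2 q || hEdge P m q.1 q.2 p)

/-- All pairs are covered at one root. -/
def ckUniR (orth : Bool) (r : ℕ) : Bool := P.allRoots.all fun s =>
  bif Nat.beq s (P.ng r) then true else
  bif cmG P r s then killP P orth r s else
    (let k := P.tgt r s 0
     Nat.blt k P.nroots && sgl P r s k && (decL P k).any (fun p => Nat.beq p.1 r && Nat.beq p.2 s)
       && killP P orth r k && killP P orth s k)

/-- All pairs are covered. -/
def ckUni (orth : Bool) : Bool := P.allRoots.all (ckUniR P orth)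

end Cfsg.Agent.Chev.CT
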