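/-
Central extensions of Steinberg's group split, in the simply laced case.
-/
import Cfsg.Agent.Lib.CurtisTits.UniCheck
import Cfsg.Agent.Lib.CurtisTits.Present

set_option autoImplicit false
set_option linter.unusedSectionVars false
set_option maxHeartbeats 1000000

namespace Cfsg.Agent.Chev.CT

open Cfsg.Agent.Chev Cfsg.Lie
open scoped commutatorElement

/-- The commutator `a⁻¹ b⁻¹ a b`. -/
def cm {G : Type*} [Group G] (a b : G) : G := a⁻¹ * b⁻¹ * a * b

section Group

variable {G : Type*} [Group G]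

theorem cm_inv (a b : G) : (cm a b)⁻¹ = cm b a := by unfold cm; group

theorem cm_mul_right (a b b' : G) : cm a (b * b') = cm a b' * (b'⁻¹ * cm a b * b') := by unfold cm; group

theorem cm_mul_left (a a' b : G) : cm (a * a') b = a'⁻¹ * cm a b * a' * cm a' b := by unfold cm; group

theorem cm_one_iff {a b : G} : cm a b = 1 ↔ a * b = b * a := by
  unfold cm
  constructor
  · intro h
    calc a * b = b * a * (a⁻¹ * b⁻¹ * a * b) := by group
      _ = _ := by rw [h, mul_one]
  · intro h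
    rw [mul_assoc _ a b, h]; group

theorem conj_cm (g a b : G) : g⁻¹ * cm a b * g = cm (g⁻¹ * a * g) (g⁻¹ * b * g) := by unfold cm; group

theorem conj_eq_mul_cm (a g : G) : g⁻¹ * a * g = a * cm a g := by unfold cm; group

theorem center_conj {z : G} (hz : z ∈ Subgroup.center G) (g : G) : g⁻¹ * z * g = z := by
  rw [mul_assoc, ← Subgroup.mem_center_iff.1 hz g]; group

end Group

section Central

variable {Γ C : Type*} [Group Γ] [Group C] {σ : Γ →* C} (hker : σ.ker ≤ Subgroup.center Γ)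
include hker

theorem cm_congr {a a' b b' : Γ} (ha : σ a = σ a') (hb : σ b = σ b') : cm a b = cm a' b' := by
  obtain ⟨z, hz, rfl⟩ : ∃ z ∈ Subgroup.center Γ, a' = a * z :=
    ⟨a⁻¹ * a', hker (by rw [MonoidHom.mem_ker, map_mul, map_inv, ha, inv_mul_cancel]), by group⟩
  obtain ⟨w, hw, rfl⟩ : ∃ w ∈ Subgroup.center Γ, b' = b * w :=
    ⟨b⁻¹ * b', hker (by rw [MonoidHom.mem_ker, map_mul, map_inv, hb, inv_mul_cancel]), by group⟩
  have e1 : ∀ c, cm z c = 1 := fun c => cm_one_iff.2 (Subgroup.mem_center_iff.1 hz c).symm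
  have e2 : ∀ c, cm c w = 1 := fun c => cm_one_iff.2 (Subgroup.mem_center_iff.1 hw c)
  rw [cm_mul_left, e1, mul_one, cm_mul_right, e2, one_mul,
    ← mul_assoc, ← mul_assoc]
  have hzw : w⁻¹ * cm a b * w = cm a b := by
    rw [mul_assoc, Subgroup.mem_center_iff.1 hw (cm a b)]; group
  have hzz : z⁻¹ * cm a b * z = cm a b := by
    rw [mul_assoc, Subgroup.mem_center_iff.1 hz (cm a b)]; group
  calc cm a b = z⁻¹ * (w⁻¹ * cm a b * w) * z := by rw [hzw, hzz]
    _ = _ := by group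

theorem cm_center {a b : Γ} (h : Commute (σ a) (σ b)) : cm a b ∈ Subgroup.center Γ := by
  refine hker ?_
  rw [MonoidHom.mem_ker, cm, map_mul, map_mul, map_mul, map_inv, map_inv, mul_assoc _ (σ a) (σ b), h.eq]
  group

end Central

/-- A central extension of a covered group. -/
structure ExtData {D : ChevalleyDatum} {P : Pk} {K : Type*} [Field K] {C : Type*} [Group C]
    (x : ℕ → K → C) (θ : C →* GL D.Idx K) {Γ : Type*} [Group Γ] (σ : Γ →* C) (ξ : ℕ → K → Γ) : Prop where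
  cov : Cov D P x θ
  central : σ.ker ≤ Subgroup.center Γ
  lift : ∀ r t, σ (ξ r t) = x r t

section Ext

variable {D : ChevalleyDatum} {P : Pk} {K : Type*} [Field K] {C : Type*} [Group C]
  {x : ℕ → K → C} {θ : C →* GL D.Idx K} {Γ : Type*} [Group Γ] {σ : Γ →* C} {ξ : ℕ → K → Γ}
  (E : ExtData (P := P) x θ σ ξ)

/-- The commutator of two lifts. -/
def Fc (ξ : ℕ → K → Γ) (r s : ℕ) (t u : K) : Γ := cm (ξ s u) (ξ r t)

/-- The candidate for the root element given by a decomposition. -/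
def Xc (P : Pk) (ξ : ℕ → K → Γ) (r s : ℕ) (z : K) : Γ := Fc ξ r s (-((P.coef r s 0 : K)) * z) 1

include E

theorem cterms_nil {r s : ℕ} (h1 : P.len r s = 0) (h2 : P.len s r = 0) : P.cterms r s = [] := by
  simp [Pk.cterms, Pk.cRoot, Pk.entry, h1, h2]

theorem cmG_spec {r s : ℕ} (hr : r < P.nroots) (hs : s < P.nroots) (e : cmG P r s = true) (t u : K) :
    Commute (x r t) (x s u) := by
  simp only [cmG, Bool.or_eq_true, Bool.and_eq_true, Bool.not_eq_true', nbeq, decide_eq_true_eq,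
    decide_eq_false_iff_not] at e
  rcases e with rfl | ⟨⟨hn, h1⟩, h2⟩
  · show x r t * x r u = x r u * x r t
    rw [x_addC E.cov hr, x_addC E.cov hr, add_comm]
  by_cases hrs : s = r
  · subst hrs
    show x s t * x s u = x s u * x s t
    rw [x_addC E.cov hr, x_addC E.cov hr, add_comm]
  have := commC E.cov hr hs hrs hn t u
  rw [rhsW, cterms_nil E h1 h2] at this
  exact ((cm_one_iff (a := x s u) (b := x r t)).1 this).symm

theorem sgl_spec {r s k : ℕ} (hr : r < P.nroots) (hs : s < P.nroots) (e : sgl P r s k = true) :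
    P.tgt r s 0 = k ∧ P.coef r s 0 * P.coef r s 0 = 1 ∧ k < P.nroots ∧
      ∀ t u, σ (Fc ξ r s t u) = x k ((P.coef r s 0 : K) * -t * u) := by
  simp only [sgl, Bool.and_eq_true, Bool.not_eq_true', nbeq, decide_eq_true_eq, decide_eq_false_iff_not,
    short] at e
  obtain ⟨⟨⟨⟨h1, h2⟩, h3, h4⟩, h5⟩, h6⟩ := e
  refine ⟨h5, h6, h5 ▸ E.cov.okD.tgt_lt hr hs (by omega), fun t u => ?_⟩
  have := commC E.cov hr hs h1 h2 t u
  rw [rhsW, show P.cterms r s = [(P.tgt r s 0, P.coef r s 0, 1, 1)] by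
    simp [Pk.cterms, Pk.cRoot, Pk.cM', Pk.entry, h3, h4]] at this
  simp only [Fc, cm, map_mul, map_inv, E.lift, this, List.map_cons, List.map_nil, List.prod_cons,
    List.prod_nil, mul_one, pow_one, h5]

theorem x_param_inj {k : ℕ} (hk : k < P.nroots) {a b : K} (e : x k a = x k b) : a = b := by
  have := congrArg θ e
  rw [E.cov.img k hk, E.cov.img k hk] at this
  exact E.cov.okD.xG_inj_param hk this

theorem decL_spec {q : ℕ} {p : ℕ × ℕ} (hp : p ∈ decL P q) :
    p.1 < P.nroots ∧ p.2 < P.nroots ∧ sgl P p.1 p.2 q = true := by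
  simp only [decL, List.mem_filterMap] at hp
  obtain ⟨k, -, h⟩ := hp
  simp only [cond_eq_ite, Option.ite_none_right_eq_some, Option.some.injEq, Bool.and_eq_true, Nat.blt_eq] at h
  obtain ⟨⟨⟨h1, h2⟩, h3⟩, rfl⟩ := h
  exact ⟨h1, h2, h3⟩

theorem Fc_central {r s : ℕ} (hr : r < P.nroots) (hs : s < P.nroots) (e : cmG P r s = true) (t u : K) :
    Fc ξ r s t u ∈ Subgroup.center Γ :=
  cm_center E.central (by rw [E.lift, E.lift]; exact (cmG_spec E hr hs e t u).symm)

theorem Fc_symm (r s : ℕ) (t u : K) : Fc ξ s r u t = (Fc ξ r s t u)⁻¹ := by rw [Fc, Fc, cm_inv]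

theorem lift_add {r : ℕ} (hr : r < P.nroots) (t u : K) : σ (ξ r (t + u)) = σ (ξ r t * ξ r u) := by
  rw [map_mul, E.lift, E.lift, E.lift, x_addC E.cov hr]

/-- A decomposition orthogonal to a root kills the commutator. -/
theorem decK_spec {r q : ℕ} (hr : r < P.nroots) (e : decK P r q = true) (t u : K) :
    Fc ξ r q t u = 1 := by
  simp only [decK, Bool.and_eq_true, List.any_eq_true] at e
  obtain ⟨-, ⟨a, b⟩, hp, hra, hrb⟩ := e
  obtain ⟨ha, hb, hsg⟩ := decL_spec E hp
  obtain ⟨htgt, hc, hq, hσ⟩ := sgl_spec E ha hb hsg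
  set z := cm (ξ b 1) (ξ a (-((P.coef a b 0 : K) * u)))
  have hz : σ z = x q u := by
    have := hσ (-((P.coef a b 0 : K) * u)) 1
    rw [neg_neg, mul_one, cancel_sq hc] at this
    exact this
  have hfix : ∀ c v, cmG P r c = true → c < P.nroots → σ ((ξ r t)⁻¹ * ξ c v * ξ r t) = σ (ξ c v) := by
    intro c v hcc hcl
    rw [map_mul, map_mul, map_inv, E.lift, E.lift, mul_assoc, ← (cmG_spec E hr hcl hcc t v).eq,
      inv_mul_cancel_left]
  have h1 : (ξ r t)⁻¹ * z * ξ r t = z := by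
    rw [conj_cm]
    exact cm_congr E.central (hfix b 1 hrb hb) (hfix a _ hra ha)
  rw [Fc, cm_congr E.central (a := ξ q u) (a' := z) (b' := ξ r t) (by rw [hz, E.lift]) rfl, cm_one_iff]
  calc z * ξ r t = ξ r t * ((ξ r t)⁻¹ * z * ξ r t) := by group
    _ = _ := by rw [h1]

theorem decK2_spec {r q : ℕ} (hr : r < P.nroots) (hq : q < P.nroots) (e : decK2 P r q = true) (t u : K) :
    Fc ξ r q t u = 1 := by
  simp only [decK2, Bool.or_eq_true] at e
  rcases e with e | e
  · exact decK_spec E hr e t u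
  · rw [Fc_symm E q r u t, decK_spec E hq e, inv_one]

theorem Fc_add_left {r s : ℕ} (hr : r < P.nroots) {t t' u : K}
    (hc : Commute (Fc ξ r s t u) (ξ r t')) :
    Fc ξ r s (t + t') u = Fc ξ r s t' u * Fc ξ r s t u := by
  show cm (ξ s u) (ξ r (t + t')) = _
  rw [cm_congr E.central (a := ξ s u) rfl (lift_add E hr t t'), cm_mul_right, mul_assoc _ (cm _ _) (ξ r t')]
  show _ * (_ * (Fc ξ r s t u * ξ r t')) = _
  rw [hc.eq, inv_mul_cancel_left]
  rfl

theorem edge_spec {r s a b : ℕ} (hr : r < P.nroots) (hs : s < P.nroots) (hp : (a, b) ∈ decL P s)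
    (hrs : cmG P r s = true) {e : ℕ} {σ' : ℤ} {b' : ℕ}
    (he : oEdge P r s (a, b) = some (e, b', σ')) :
    b' = b ∧ e < P.nroots ∧ cmG P e b = true ∧ σ' * σ' = 1 ∧
      ∀ z v : K, Fc ξ r s ((σ' : K) * z) v = Fc ξ e b (z * v) 1 ∧
        Fc ξ e b z v = Fc ξ e b (z * v) 1 := by
  simp only [oEdge, cond_eq_ite, Option.ite_none_right_eq_some, Option.some.injEq, Bool.and_eq_true,
    Nat.blt_eq, Prod.mk.injEq] at he
  obtain ⟨⟨⟨⟨⟨hra, hrb⟩, heb⟩, hen⟩, hes⟩, rfl, rfl, rfl⟩ := he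
  obtain ⟨ha, hb, hsg⟩ := decL_spec E hp
  obtain ⟨-, hc, -, hσab⟩ := sgl_spec E ha hb hsg
  obtain ⟨-, hd, -, hσra⟩ := sgl_spec E hr ha hra
  set C1 : K := (P.coef a b 0 : K)
  set D1 : K := (P.coef r a 0 : K)
  set e := P.tgt r a 0
  have hsq : P.coef a b 0 * P.coef r a 0 * (P.coef a b 0 * P.coef r a 0) = 1 := by
    rw [mul_mul_mul_comm, hc, hd, one_mul]
  have rel : ∀ y t v : K, Fc ξ r s y (C1 * -t * v) = Fc ξ e b (D1 * -y * t) v := by
    intro y t v
    set R := ξ r y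
    set A := ξ a t
    set B := ξ b v
    set z := cm B A
    have hz : σ z = x s (C1 * -t * v) := hσab t v
    have hW : σ (cm A R) = σ (ξ e (D1 * -y * t)) := by rw [E.lift]; exact hσra y t
    have hzR : cm z R = Fc ξ r s y (C1 * -t * v) :=
      cm_congr E.central (by rw [hz, E.lift]) rfl
    have hfix : σ (R⁻¹ * B * R) = σ B := by
      rw [map_mul, map_mul, map_inv, E.lift, E.lift, mul_assoc, ← (cmG_spec E hr hb hrb y v).eq,
        inv_mul_cancel_left]
    have h1 : z * cm z R = cm B (A * ξ e (D1 * -y * t)) := by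
      rw [← conj_eq_mul_cm, conj_cm]
      refine cm_congr E.central hfix ?_
      rw [conj_eq_mul_cm, map_mul, map_mul, hW]
    have hzW : cm z (ξ e (D1 * -y * t)) = 1 := by
      rw [cm_congr E.central (a := z) (a' := ξ s (C1 * -t * v)) (b' := ξ e (D1 * -y * t))
        (by rw [hz, E.lift]) rfl]
      exact decK2_spec E hen hs hes _ _
    rw [cm_mul_right, conj_eq_mul_cm, hzW, mul_one] at h1
    change z * cm z R = Fc ξ e b (D1 * -y * t) v * z at h1
    rw [hzR] at h1
    have hcen := Fc_central E hen hb heb (D1 * -y * t) v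
    rw [← Subgroup.mem_center_iff.1 hcen z] at h1
    exact mul_left_cancel h1
  have hsc : ((P.coef a b 0 * P.coef r a 0 : ℤ) : K) = C1 * D1 := by push_cast; rfl
  refine ⟨rfl, hen, heb, hsq, fun z v => ⟨?_, ?_⟩⟩
  · have h1 := rel (C1 * D1 * z) (-(C1 * v)) 1
    rw [neg_neg, cancel_sq hc, mul_one] at h1
    rw [hsc, h1]
    congr 1
    calc D1 * -(C1 * D1 * z) * -(C1 * v) = (C1 * C1) * (D1 * D1) * (z * v) := by ring
      _ = z * v := by rw [cast_sq hc, cast_sq hd, one_mul, one_mul]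
  · have h1 := rel (C1 * D1 * z) (-(C1 * v)) 1
    have h2 := rel (C1 * D1 * z) (-C1) v
    rw [neg_neg, cancel_sq hc, mul_one] at h1
    rw [neg_neg, cast_sq hc, one_mul] at h2
    rw [show D1 * -(C1 * D1 * z) * -(C1 * v) = z * v by
      calc D1 * -(C1 * D1 * z) * -(C1 * v) = (C1 * C1) * (D1 * D1) * (z * v) := by ring
        _ = z * v := by rw [cast_sq hc, cast_sq hd, one_mul, one_mul]] at h1
    rw [show D1 * -(C1 * D1 * z) * -C1 = z by
      calc D1 * -(C1 * D1 * z) * -C1 = (C1 * C1) * (D1 * D1) * z := by ring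
        _ = z := by rw [cast_sq hc, cast_sq hd, one_mul, one_mul]] at h2
    rw [← h1, ← h2]

/-- Torus invariance of a central commutator. -/
theorem Fc_torus (hσ : Function.Surjective σ) {r s : ℕ} (hr : r < P.nroots) (hs : s < P.nroots)
    (hrs : cmG P r s = true) {i : ℕ} (hi : i < P.rank) {c : K} (hc : c ≠ 0) (t u : K) :
    Fc ξ r s (c ^ P.A i r * t) (c ^ P.A i s * u) = Fc ξ r s t u := by
  obtain ⟨g, hg⟩ := hσ (hEl P x (P.sim i) c)
  have hfix : ∀ q v, q < P.nroots → σ (ξ q (c ^ P.A i q * v)) = σ (g * ξ q v * g⁻¹) := by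
    intro q v hq
    rw [map_mul, map_mul, map_inv, E.lift, E.lift, hg, h_conj E.cov hi hc hq]
  show cm (ξ s _) (ξ r _) = _
  rw [cm_congr E.central (hfix s u hs) (hfix r t hr),
    show cm (g * ξ s u * g⁻¹) (g * ξ r t * g⁻¹) = g * Fc ξ r s t u * g⁻¹ by unfold Fc cm; group,
    Subgroup.mem_center_iff.1 (Fc_central E hr hs hrs t u) g, mul_inv_cancel_right]

/-- Two edges kill an orthogonal pair. -/
theorem orthK_spec [Finite K] (hσ : Function.Surjective σ) (h3 : ∃ a : K, a ≠ 0 ∧ a ≠ 1) {r s : ℕ}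
    (hr : r < P.nroots) (hs : s < P.nroots) (e : orthK P r s = true) (t u : K) : Fc ξ r s t u = 1 := by
  simp only [orthK, Bool.and_eq_true, List.any_eq_true, List.mem_filterMap, nbeq, decide_eq_true_eq,
    List.mem_range, Bool.or_eq_true] at e
  obtain ⟨⟨hrs, -⟩, ⟨⟨e1, b1, σ1⟩, ⟨⟨a, b⟩, hab, hx⟩, ⟨e2, b2, σ2⟩, ⟨⟨a', b'⟩, hab', hy⟩,
    ⟨he, hb'⟩, hσσ⟩, i, hi, hA⟩ := e
  simp only at he hb' hσσ
  obtain ⟨rfl, hel, hebc, hs1, h1⟩ := edge_spec E hr hs hab hrs hx
  obtain ⟨rfl, -, -, -, h2⟩ := edge_spec E hr hs hab' hrs hy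
  subst σ2
  subst e2
  subst b2
  set G : K → Γ := fun z => Fc ξ e1 b1 z 1
  have hFG : ∀ y v, Fc ξ r s y v = G ((σ1 : K) * y * v) := by
    intro y v
    have := (h1 ((σ1 : K) * y) v).1
    rwa [cancel_sq hs1] at this
  have hsym : ∀ z, G z * G z = 1 := by
    intro z
    have ha := (h1 z 1).1
    have hb := (h2 z 1).1
    rw [mul_one] at ha hb
    have hc' := (h1 1 z).2
    rw [one_mul] at hc'
    have : G z = (G z)⁻¹ := by
      calc G z = Fc ξ b1 e1 z 1 := by show Fc ξ e1 b1 z 1 = _; rw [← ha, hb]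
        _ = _ := by rw [Fc_symm E e1 b1 1 z, hc']
    calc G z * G z = G z * (G z)⁻¹ := by rw [← this]
      _ = 1 := mul_inv_cancel _
  have hadd : ∀ z z', G (z + z') = G z * G z' := by
    intro z z'
    rcases decL_spec E hab with ⟨-, hb1, -⟩
    have hc := Fc_central E hel hb1 hebc
    show Fc ξ e1 b1 (z + z') 1 = _
    rw [Fc_add_left E hel (Subgroup.mem_center_iff.1 (hc z 1) _).symm, Subgroup.mem_center_iff.1 (hc z 1)]
  have hG : ∀ z, G z = 1 := by
    by_cases h2' : (2 : K) = 0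
    · -- the torus moves the parameter
      obtain ⟨c, hc, hc1⟩ := h3
      have hinv : ∀ z, G (c ^ (P.A i r + P.A i s) * z) = G z := by
        intro z
        have := Fc_torus E hσ hr hs hrs hi hc ((σ1 : K) * z) 1
        rw [hFG, hFG, mul_one, mul_one, cancel_sq hs1] at this
        rw [← this]
        congr 1
        calc c ^ (P.A i r + P.A i s) * z = c ^ P.A i r * c ^ P.A i s * ((σ1 : K) * ((σ1 : K) * z)) := by
              rw [cancel_sq hs1, zpow_add₀ hc]
          _ = _ := by ring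
      have hne : c ^ (P.A i r + P.A i s) ≠ 1 := by
        have hsq : ∀ d : K, d ^ 2 = 1 → d = 1 := by
          intro d hd
          have : (d - 1) ^ 2 = 0 := by linear_combination hd + (1 - d) * h2'
          exact sub_eq_zero.1 (pow_eq_zero_iff two_ne_zero |>.1 this)
        rcases hA with hA | hA <;> rcases Int.natAbs_eq_iff.1 hA with e' | e' <;> rw [e']
        · simpa using hc1
        · simpa using hc1
        · intro h; exact hc1 (hsq c (by simpa using h))
        · intro h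
          rw [zpow_neg, inv_eq_one] at h
          exact hc1 (hsq c (by simpa using h))
      intro z
      have h4 := hinv ((c ^ (P.A i r + P.A i s) - 1)⁻¹ * z)
      have : G (((c ^ (P.A i r + P.A i s) - 1)⁻¹ * z) + z) = G ((c ^ (P.A i r + P.A i s) - 1)⁻¹ * z) := by
        rw [← h4]
        congr 1
        have hne' := sub_ne_zero.2 hne
        field_simp
        ring
      rw [hadd] at this
      exact mul_eq_left.1 this
    · intro z
      rw [show z = z / 2 + z / 2 by rw [← two_mul, mul_div_cancel₀ _ h2'], hadd]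
      exact hsym _
  rw [hFG, hG]

theorem killP_spec [Finite K] (hσ : Function.Surjective σ) {orth : Bool}
    (h3 : orth = true → ∃ a : K, a ≠ 0 ∧ a ≠ 1) {r s : ℕ}
    (hr : r < P.nroots) (hs : s < P.nroots) (e : killP P orth r s = true) (t u : K) : Fc ξ r s t u = 1 := by
  simp only [killP, Bool.or_eq_true, Bool.and_eq_true] at e
  rcases e with e | ⟨ho, e⟩
  · exact decK2_spec E hr hs e t u
  · exact orthK_spec E hσ (h3 ho) hr hs e t u

theorem uni_spec {orth : Bool} (hck : ckUni P orth = true) {r s : ℕ} (hr : r < P.nroots) (hs : s < P.nroots)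
    (hsn : s ≠ P.ng r) :
    (cmG P r s = true ∧ killP P orth r s = true) ∨
      (cmG P r s = false ∧ P.tgt r s 0 < P.nroots ∧ sgl P r s (P.tgt r s 0) = true ∧
        (r, s) ∈ decL P (P.tgt r s 0) ∧ killP P orth r (P.tgt r s 0) = true ∧
        killP P orth s (P.tgt r s 0) = true) := by
  simp only [ckUni, ckUniR, List.all_eq_true, Pk.mem_allRoots] at hck
  have h1 := hck r hr s hs
  have hb : Nat.beq s (P.ng r) = false := by simpa [nbeq] using hsn
  rw [hb, cond_false] at h1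
  by_cases hg : cmG P r s = true
  · rw [hg, cond_true] at h1; exact Or.inl ⟨hg, h1⟩
  · simp only [Bool.not_eq_true] at hg
    rw [hg, cond_false] at h1
    simp only [Bool.and_eq_true, List.any_eq_true, Nat.blt_eq, nbeq, decide_eq_true_eq] at h1
    obtain ⟨⟨⟨⟨a, b⟩, ⟨p1, p2⟩, hp, e1, e2⟩, c⟩, d⟩ := h1
    simp only at e1 e2
    subst e1; subst e2
    exact Or.inr ⟨hg, a, b, hp, c, d⟩

theorem Fc_one_of_cmG [Finite K] (hσ : Function.Surjective σ) {orth : Bool}
    (h3 : orth = true → ∃ a : K, a ≠ 0 ∧ a ≠ 1) (hck : ckUni P orth = true) {r s : ℕ} (hr : r < P.nroots)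
    (hs : s < P.nroots) (e : cmG P r s = true) (t u : K) : Fc ξ r s t u = 1 := by
  have hsn : s ≠ P.ng r := by
    simp only [cmG, Bool.or_eq_true, Bool.and_eq_true, Bool.not_eq_true', nbeq, decide_eq_true_eq,
      decide_eq_false_iff_not] at e
    rcases e with rfl | ⟨⟨hn, -⟩, -⟩
    · exact fun h => E.cov.okD.ng_ne hr h.symm
    · exact hn
  rcases uni_spec E hck hr hs hsn with ⟨-, hk⟩ | ⟨hf, -⟩
  · exact killP_spec E hσ h3 hr hs hk t u
  · rw [e] at hf; exact absurd hf (by simp)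

/-- The commutator of the pair is a function of the product. -/
def GoodP (P : Pk) (ξ : ℕ → K → Γ) (X : K → Γ) (p : ℕ × ℕ) : Prop :=
  ∀ t u : K, Fc ξ p.1 p.2 t u = X ((P.coef p.1 p.2 0 : K) * -t * u)

/-- The relation of a linked pair. -/
theorem hEdge_spec [Finite K] (hσ : Function.Surjective σ) {orth : Bool}
    (h3 : orth = true → ∃ a : K, a ≠ 0 ∧ a ≠ 1) (hck : ckUni P orth = true) {m r s : ℕ} (hr : r < P.nroots)
    (hs : s < P.nroots) (hm : m < P.nroots) {p : ℕ × ℕ} (hp1 : p.1 < P.nroots) (e : hEdge P m r s p = true) :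
    ∃ X : K → Γ, GoodP P ξ X (s, r) ∧ GoodP P ξ X p := by
  simp only [hEdge, List.any_eq_true, Bool.and_eq_true, nbeq, decide_eq_true_eq] at e
  obtain ⟨⟨a, b⟩, hab, ⟨⟨⟨⟨⟨hb, has⟩, ha'b⟩, hsb⟩, hsr⟩, ha'r⟩, hrm⟩ := e
  obtain ⟨a', b'⟩ := p
  simp only at hb has ha'b hsb hsr ha'r hp1
  subst hb
  obtain ⟨ha, hbn, hsg⟩ := decL_spec E hab
  obtain ⟨-, hc1, -, hσab⟩ := sgl_spec E ha hbn hsg
  obtain ⟨-, hc2, -, hσas⟩ := sgl_spec E hs ha has
  obtain ⟨-, hc3, -, hσa'b⟩ := sgl_spec E hp1 hbn ha'b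
  obtain ⟨-, hc4, -, hσsr⟩ := sgl_spec E hs hr hsr
  set C1 : K := (P.coef a b 0 : K)
  set C2 : K := (P.coef s a 0 : K)
  set C3 : K := (P.coef a' b 0 : K)
  set C4 : K := (P.coef s r 0 : K)
  have rel : ∀ w t v : K, Fc ξ s r w (C1 * -t * v) = Fc ξ a' b (C2 * -w * t) v := by
    intro w t v
    set S := ξ s w
    set A := ξ a t
    set B := ξ b v
    set z := cm B A
    have hz : σ z = x r (C1 * -t * v) := hσab t v
    have hW : σ (cm A S) = σ (ξ a' (C2 * -w * t)) := by rw [E.lift]; exact hσas w t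
    have hzS : cm z S = Fc ξ s r w (C1 * -t * v) := cm_congr E.central (by rw [hz, E.lift]) rfl
    have hfix : σ (S⁻¹ * B * S) = σ B := by
      rw [map_mul, map_mul, map_inv, E.lift, E.lift, mul_assoc, ← (cmG_spec E hs hbn hsb w v).eq,
        inv_mul_cancel_left]
    have h1 : z * cm z S = cm B (A * ξ a' (C2 * -w * t)) := by
      rw [← conj_eq_mul_cm, conj_cm]
      refine cm_congr E.central hfix ?_
      rw [conj_eq_mul_cm, map_mul, map_mul, hW]
    have hzW : cm z (ξ a' (C2 * -w * t)) = 1 := by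
      rw [cm_congr E.central (a := z) (a' := ξ r (C1 * -t * v)) (b' := ξ a' (C2 * -w * t))
        (by rw [hz, E.lift]) rfl]
      exact Fc_one_of_cmG E hσ h3 hck hp1 hr ha'r _ _
    rw [cm_mul_right, conj_eq_mul_cm, hzW, mul_one] at h1
    change z * cm z S = Fc ξ a' b (C2 * -w * t) v * z at h1
    rw [hzS] at h1
    have hcomm : cm (Fc ξ a' b (C2 * -w * t) v) z = 1 := by
      rw [cm_congr E.central (a' := ξ m (C3 * -(C2 * -w * t) * v)) (b' := ξ r (C1 * -t * v))
        (by rw [hσa'b, E.lift]) (by rw [hz, E.lift])]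
      exact Fc_one_of_cmG E hσ h3 hck hr hm hrm _ _
    rw [cm_one_iff.1 hcomm] at h1
    exact mul_left_cancel h1
  have hsgn : C4 * C1 = C3 * C2 := by
    have h1 := congrArg σ (rel 1 1 1)
    rw [hσsr, hσa'b] at h1
    have := x_param_inj E hm h1
    linear_combination this
  refine ⟨fun z => Fc ξ a' b (-(C3 * z)) 1, fun t u => ?_, fun t u => ?_⟩
  · show Fc ξ s r t u = Fc ξ a' b (-(C3 * (C4 * -t * u))) 1
    have h1 := rel t (-(C1 * u)) 1
    rw [neg_neg, cast_sq hc1 |> fun h => show C1 * (C1 * u) * 1 = u by rw [← mul_assoc, h, one_mul, mul_one]]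
      at h1
    rw [h1]
    congr 1
    calc C2 * -t * -(C1 * u) = C2 * C1 * (t * u) := by ring
      _ = C3 * C4 * (t * u) * (C1 * C1) := by
          linear_combination (-(C3 * C1 * t * u)) * hsgn - C2 * C1 * t * u * cast_sq (K := K) hc3
      _ = _ := by rw [cast_sq hc1]; ring
  · show Fc ξ a' b t u = Fc ξ a' b (-(C3 * (C3 * -t * u))) 1
    have h1 := rel 1 (-(C2 * t)) u
    have h2 := rel 1 (-(C2 * (t * u))) 1
    rw [show C2 * -1 * -(C2 * t) = t by linear_combination t * cast_sq (K := K) hc2] at h1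
    rw [show C2 * -1 * -(C2 * (t * u)) = t * u by linear_combination (t * u) * cast_sq (K := K) hc2] at h2
    rw [show -(C3 * (C3 * -t * u)) = t * u by linear_combination (t * u) * cast_sq (K := K) hc3, ← h1, ← h2]
    congr 1
    ring

theorem GoodP.unique {X X' : K → Γ} {p : ℕ × ℕ} (hc : P.coef p.1 p.2 0 * P.coef p.1 p.2 0 = 1)
    (h : GoodP P ξ X p) (h' : GoodP P ξ X' p) : X = X' := by
  funext z
  have e := (h (-((P.coef p.1 p.2 0 : K) * z)) 1).symm.trans (h' (-((P.coef p.1 p.2 0 : K) * z)) 1)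
  rwa [neg_neg, mul_one, cancel_sq hc] at e

theorem GoodP.lift' {X : K → Γ} {m : ℕ} {p : ℕ × ℕ} (hp : p ∈ decL P m) (h : GoodP P ξ X p) (z : K) :
    σ (X z) = x m z := by
  obtain ⟨h1, h2, h3⟩ := decL_spec E hp
  obtain ⟨-, hc, -, hσp⟩ := sgl_spec E h1 h2 h3
  have e := hσp (-((P.coef p.1 p.2 0 : K) * z)) 1
  rw [h] at e
  rwa [neg_neg, mul_one, cancel_sq hc] at e

theorem GoodP.add' [Finite K] (hσ : Function.Surjective σ) {orth : Bool}
    (h3 : orth = true → ∃ a : K, a ≠ 0 ∧ a ≠ 1) (hck : ckUni P orth = true) {X : K → Γ} {m : ℕ}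
    (hm : m < P.nroots) {p : ℕ × ℕ} (hp : p ∈ decL P m) (hcm : cmG P p.1 m = true) (h : GoodP P ξ X p)
    (z z' : K) : X (z + z') = X z * X z' := by
  obtain ⟨h1, h2, h3'⟩ := decL_spec E hp
  obtain ⟨-, hc, -, hσp⟩ := sgl_spec E h1 h2 h3'
  set C : K := (P.coef p.1 p.2 0 : K)
  have hX : ∀ w, X w = Fc ξ p.1 p.2 (-(C * w)) 1 := by
    intro w; rw [h, neg_neg, mul_one, cancel_sq hc]
  have hcomm : Commute (Fc ξ p.1 p.2 (-(C * z')) 1) (ξ p.1 (-(C * z))) := by
    refine cm_one_iff.1 ?_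
    rw [cm_congr E.central (a' := ξ m z') (b' := ξ p.1 (-(C * z))) ?_ rfl]
    · exact Fc_one_of_cmG E hσ h3 hck h1 hm hcm _ _
    · rw [← hX, h.lift' E hp, E.lift]
  rw [hX z, hX z', hX (z + z'), show -(C * (z + z')) = -(C * z') + -(C * z) by ring,
    Fc_add_left E h1 hcomm]

theorem GoodP.swap' [Finite K] (hσ : Function.Surjective σ) {orth : Bool}
    (h3 : orth = true → ∃ a : K, a ≠ 0 ∧ a ≠ 1) (hck : ckUni P orth = true) {X : K → Γ} {m r s : ℕ}
    (hm : m < P.nroots) (hp : (s, r) ∈ decL P m) (hp' : (r, s) ∈ decL P m) (hcm : cmG P s m = true)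
    (h : GoodP P ξ X (s, r)) : GoodP P ξ X (r, s) := by
  obtain ⟨h1, h2, h3'⟩ := decL_spec E hp
  obtain ⟨-, hc, -, hσp⟩ := sgl_spec E h1 h2 h3'
  obtain ⟨-, hc', -, hσp'⟩ := sgl_spec E h2 h1 (decL_spec E hp').2.2
  set C : K := (P.coef r s 0 : K)
  set C' : K := (P.coef s r 0 : K)
  have hadd := h.add' E hσ h3 hck hm hp hcm
  have h0 : X 0 = 1 := by
    have := hadd 0 0
    rw [add_zero] at this
    exact left_eq_mul.1 this
  have hneg : ∀ w, (X w)⁻¹ = X (-w) := by
    intro w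
    rw [inv_eq_iff_mul_eq_one, ← hadd, add_neg_cancel, h0]
  have hsgn : C = -C' := by
    have e := congrArg σ (Fc_symm E s r (1 : K) 1)
    rw [hσp', map_inv, hσp, x_invC E.cov hm] at e
    have := x_param_inj E hm e
    linear_combination -this
  intro t u
  show Fc ξ r s t u = X (C * -t * u)
  rw [Fc_symm E s r u t, h, hneg, hsgn]
  show X (-(C' * -u * t)) = _
  congr 1
  ring

theorem link_spec [Finite K] (hσ : Function.Surjective σ) {orth : Bool}
    (h3 : orth = true → ∃ a : K, a ≠ 0 ∧ a ≠ 1) (hck : ckUni P orth = true) (hl : ckLink P = true) {m : ℕ}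
    (hm : m < P.nroots) : ∃ X : K → Γ, ∀ p ∈ decL P m, GoodP P ξ X p := by
  simp only [ckLink, List.all_eq_true, Pk.mem_allRoots, Bool.and_eq_true, Bool.not_eq_true',
    decide_eq_true_eq, List.any_eq_true, Bool.or_eq_true, nbeq] at hl
  obtain ⟨⟨⟨⟨hne, hrounds⟩, hcm⟩, hsw⟩, hhead⟩ := hl m hm
  obtain ⟨h0, L, hL⟩ : ∃ h0 L, decL P m = h0 :: L := by
    cases hd : decL P m with
    | nil => simp [hd] at hne
    | cons a l => exact ⟨a, l, rfl⟩
  have hh0 : h0 ∈ decL P m := by rw [hL]; exact List.mem_cons_self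
  have ht : (decL P m).take 1 = [h0] := by rw [hL]; rfl
  have hswap : ∀ r s, (r, s) ∈ decL P m → (s, r) ∈ decL P m := by
    intro r s h
    obtain ⟨⟨q1, q2⟩, hq, e1, e2⟩ := hsw _ h
    obtain rfl : q1 = s := e1
    obtain rfl : q2 = r := e2
    exact hq
  have step : ∀ p q, p ∈ decL P m → q ∈ decL P m → hEdge P m p.1 p.2 q = true →
      ∃ X, GoodP P ξ X p ∧ GoodP P ξ X q := by
    intro p q hp hq e
    obtain ⟨hp1, hp2, -⟩ := decL_spec E hp
    obtain ⟨X, hX, hX'⟩ := hEdge_spec E hσ h3 hck hp1 hp2 hm (decL_spec E hq).1 e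
    exact ⟨X, hX.swap' E hσ h3 hck hm (hswap _ _ hp) hp (hcm _ (hswap _ _ hp)), hX'⟩
  obtain ⟨X, hX⟩ : ∃ X, GoodP P ξ X h0 := by
    obtain ⟨q, hq, e | e⟩ := hhead h0 (by rw [ht]; exact List.mem_singleton_self _)
    · obtain ⟨X, h, -⟩ := step h0 q hh0 hq e; exact ⟨X, h⟩
    · obtain ⟨X, -, h⟩ := step q h0 hq hh0 e; exact ⟨X, h⟩
  refine ⟨X, ?_⟩
  have hround : ∀ (n : ℕ) (L' : List (ℕ × ℕ)), (∀ p ∈ L', p ∈ decL P m ∧ GoodP P ξ X p) →
      ∀ p ∈ cRounds P m n L', p ∈ decL P m ∧ GoodP P ξ X p := by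
    intro n
    induction n with
    | zero => intro L' h p hp; exact h p hp
    | succ n ih =>
      intro L' h p hp
      refine ih (cRound P m L') (fun p hp => ?_) p hp
      simp only [cRound, List.mem_filter, List.any_eq_true, Bool.or_eq_true, Bool.and_eq_true, nbeq,
        decide_eq_true_eq] at hp
      obtain ⟨hpd, q, hq, (⟨e1, e2⟩ | ⟨e1, e2⟩) | e⟩ := hp
      · obtain rfl : p = q := Prod.ext e1 e2
        exact h p hq
      · obtain rfl : p = (q.2, q.1) := Prod.ext e1 e2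
        exact ⟨hpd, (h q hq).2.swap' E hσ h3 hck hm (h q hq).1 hpd (hcm _ (h q hq).1)⟩
      · obtain ⟨X', h1, h2⟩ := step p q hpd (h q hq).1 e
        obtain ⟨q1, q2, q3⟩ := decL_spec E (h q hq).1
        exact ⟨hpd, (GoodP.unique E (sgl_spec E q1 q2 q3).2.1 h2 (h q hq).2) ▸ h1⟩
  intro p hp
  refine (hround 6 ((decL P m).take 1) ?_ p (by rw [hrounds]; exact hp)).2
  intro q hq
  rw [ht, List.mem_singleton] at hq
  subst hq
  exact ⟨hh0, hX⟩

/-- The lifts of the root elements satisfying (R1), (R2). -/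
theorem exists_split [Finite K] (hσ : Function.Surjective σ) {orth : Bool}
    (h3 : orth = true → ∃ a : K, a ≠ 0 ∧ a ≠ 1) (hck : ckUni P orth = true) (hl : ckLink P = true) :
    ∃ y : ℕ → K → Γ, Rel P (okAll P) y ∧ ∀ r < P.nroots, ∀ t, σ (y r t) = x r t := by
  choose Y hY using fun m : Fin P.nroots => link_spec E hσ h3 hck hl m.2
  set y : ℕ → K → Γ := fun r t => if h : r < P.nroots then Y ⟨r, h⟩ t else 1
  have hy : ∀ r (h : r < P.nroots), y r = Y ⟨r, h⟩ := fun r h => by funext t; simp [y, h]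
  have hdec : ∀ m < P.nroots, ∃ p, p ∈ decL P m ∧ cmG P p.1 m = true := by
    intro m hm
    simp only [ckLink, List.all_eq_true, Pk.mem_allRoots, Bool.and_eq_true, Bool.not_eq_true'] at hl
    obtain ⟨⟨⟨⟨hne, -⟩, hcm⟩, -⟩, -⟩ := hl m hm
    cases hd : decL P m with
    | nil => simp [hd] at hne
    | cons a l => exact ⟨a, List.mem_cons_self, hcm a (by rw [hd]; exact List.mem_cons_self)⟩
  have hlift : ∀ r < P.nroots, ∀ t, σ (y r t) = x r t := by
    intro r hr t
    obtain ⟨p, hp, -⟩ := hdec r hr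
    rw [hy r hr]
    exact (hY ⟨r, hr⟩ p hp).lift' E hp t
  refine ⟨y, ⟨fun r hr t u => ?_, fun r s hc t u => ?_⟩, hlift⟩
  · have hr : r < P.nroots := by simpa [okAll] using hr
    obtain ⟨p, hp, hcm⟩ := hdec r hr
    rw [hy r hr]
    exact ((hY ⟨r, hr⟩ p hp).add' E hσ h3 hck hr hp hcm t u).symm
  · obtain ⟨h2, hsr, hsn⟩ := cOk_iff.1 hc
    obtain ⟨hr, hs⟩ : r < P.nroots ∧ s < P.nroots := by simpa [okAll] using h2
    show cm (y s u) (y r t) = _
    rw [cm_congr E.central (a' := ξ s u) (b' := ξ r t) (by rw [hlift s hs, E.lift]) (by rw [hlift r hr, E.lift])]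
    rcases uni_spec E hck hr hs hsn with ⟨hg, -⟩ | ⟨-, hk, hsg, hp, -⟩
    · rw [show cm (ξ s u) (ξ r t) = Fc ξ r s t u from rfl, Fc_one_of_cmG E hσ h3 hck hr hs hg, rhsW]
      simp only [cmG, Bool.or_eq_true, Bool.and_eq_true, Bool.not_eq_true', nbeq, decide_eq_true_eq,
        decide_eq_false_iff_not] at hg
      rcases hg with rfl | ⟨⟨-, h1⟩, h2⟩
      · exact absurd rfl hsr
      · rw [cterms_nil E h1 h2]; rfl
    · rw [show cm (ξ s u) (ξ r t) = Fc ξ r s t u from rfl, hY ⟨_, hk⟩ _ hp]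
      simp only [sgl, Bool.and_eq_true, short, nbeq, decide_eq_true_eq] at hsg
      obtain ⟨⟨⟨-, h3', h4⟩, -⟩, -⟩ := hsg
      rw [rhsW, show P.cterms r s = [(P.tgt r s 0, P.coef r s 0, 1, 1)] by
        simp [Pk.cterms, Pk.cRoot, Pk.cM', Pk.entry, h3', h4]]
      simp only [List.map_cons, List.map_nil, List.prod_cons, List.prod_nil, mul_one, pow_one, hy _ hk]

end Ext

section Main

variable {D : ChevalleyDatum} {P : Pk} {K : Type*} [Field K] (h : Full D P)
include h

theorem finite_St [Finite K] : Finite (D.SteinbergGroup K) := by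
  obtain ⟨f, hr, -, -⟩ := exists_torHom (K := K) h
  have : Finite f.range := Finite.of_surjective f.rangeRestrict f.rangeRestrict_surjective
  have hk : (thSt K h).ker ≤ f.range := fun g hg =>
    hr (ker_spec (cov_St h) (MonoidHom.mem_ker.1 hg)).1
  have : Finite (thSt K h).ker := Finite.of_injective _ (Subgroup.inclusion_injective hk)
  have : Finite (D.SteinbergGroup K ⧸ (thSt K h).ker) :=
    Finite.of_injective _ (QuotientGroup.kerLift_injective (thSt K h))
  exact Finite.of_subgroup_quotient (thSt K h).ker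

/-- Lifts satisfying (R1), (R2) give a section. -/
theorem exists_section [Finite K] {Γ : Type*} [Group Γ] (σ : Γ →* D.SteinbergGroup K) {y : ℕ → K → Γ}
    (hy : Rel P (okAll P) y) (hl : ∀ r < P.nroots, ∀ t, σ (y r t) = D.stGen K r t) :
    ∃ ψ : D.SteinbergGroup K →* Γ, ∀ g, σ (ψ g) = g := by
  set f : FreeGroup (Fin D.nroots × K) →* Γ := FreeGroup.lift fun p => y p.1 p.2
  have hf : ∀ r < P.nroots, ∀ t, f (D.stX r t) = y r t := by
    intro r hr t
    have hr' : r < D.nroots := h.okD.nroots ▸ hr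
    simp [f, ChevalleyDatum.stX, hr']
  have hrel : ∀ g ∈ D.steinbergRelsAB K, f g = 1 := by
    intro g hg
    rcases hg with ⟨r, t, u, hr, rfl⟩ | ⟨r, s, t, u, hr, hs, hsr, hsn, rfl⟩ <;> rw [h.okD.nroots] at hr
    · rw [map_mul, map_mul, map_inv, mul_inv_eq_one, hf r hr, hf r hr, hf r hr]
      exact hy.add r (by simp [okAll, hr]) t u
    · rw [h.okD.nroots] at hs
      rw [h.okD.neg_eq hr] at hsn
      rw [map_mul, map_inv, mul_inv_eq_one, map_commWord h _ hr hs, map_mul, map_mul, map_mul, map_inv,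
        map_inv, hf r hr, hf s hs, hy.comm r s (cOk_iff.2 ⟨by simp [okAll, hr, hs], hsr, hsn⟩) t u]
      refine congrArg List.prod (List.map_congr_left fun c hc => ?_)
      exact (hf _ (h.okD.cterms_lt hr hs c hc) _).symm
  obtain ⟨e, he⟩ := exists_sc_iso (K := K) h
  refine ⟨(PresentedGroup.toGroup hrel).comp e.symm.toMonoidHom, fun g => ?_⟩
  obtain ⟨g', rfl⟩ := e.surjective g
  rw [MonoidHom.comp_apply, MulEquiv.coe_toMonoidHom, e.symm_apply_apply]
  refine DFunLike.congr_fun (PresentedGroup.ext (φ := σ.comp (PresentedGroup.toGroup hrel))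
    (ψ := e.toMonoidHom) fun p => ?_) g'
  have hp : (p.1 : ℕ) < P.nroots := h.okD.nroots ▸ p.1.2
  rw [MonoidHom.comp_apply, PresentedGroup.toGroup.of, MulEquiv.coe_toMonoidHom, hl _ hp, ← he]
  simp [ChevalleyDatum.scGen, ChevalleyDatum.stX, p.1.2, PresentedGroup.of]

end Main

/-- A central extension with a section and kernel in the commutator subgroup is trivial. -/
theorem ker_eq_bot_of_section {Γ C : Type*} [Group Γ] [Group C] {σ : Γ →* C}
    (hz : σ.ker ≤ Subgroup.center Γ) (hc : σ.ker ≤ commutator Γ) {ψ : C →* Γ} (hψ : ∀ g, σ (ψ g) = g) :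
    σ.ker = ⊥ := by
  have hdec : ∀ g : Γ, σ g = σ (ψ (σ g)) := fun g => (hψ _).symm
  have hle : commutator Γ ≤ ψ.range := by
    rw [commutator_eq_closure, Subgroup.closure_le]
    rintro _ ⟨a, b, rfl⟩
    refine ⟨⁅σ a, σ b⁆, ?_⟩
    rw [show ⁅a, b⁆ = cm a⁻¹ b⁻¹ by simp [cm, commutatorElement_def],
      cm_congr hz (a' := (ψ (σ a))⁻¹) (b' := (ψ (σ b))⁻¹) (by rw [map_inv, map_inv, hψ])
        (by rw [map_inv, map_inv, hψ])]
    simp [cm, commutatorElement_def]
  refine (Subgroup.eq_bot_iff_forall _).2 fun z hz' => ?_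
  obtain ⟨y, rfl⟩ := hle (hc hz')
  rw [MonoidHom.mem_ker, hψ] at hz'
  rw [hz', map_one]

/-- Central extensions with kernel in the commutator subgroup are trivial, given the checks. -/
theorem ker_eq_bot_simplyLaced {D : ChevalleyDatum} {P : Pk} {K : Type*} [Field K] [Finite K] (h : Full D P)
    {orth : Bool} (h3 : orth = true → ∃ a : K, a ≠ 0 ∧ a ≠ 1) (hck : ckUni P orth = true) (hl : ckLink P = true)
    {Γ : Type*} [Group Γ] {σ : Γ →* D.SteinbergGroup K} (hσ : Function.Surjective σ)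
    (hz : σ.ker ≤ Subgroup.center Γ) (hc : σ.ker ≤ commutator Γ) : σ.ker = ⊥ := by
  choose ξ hξ using fun (r : ℕ) (t : K) => hσ (D.stGen K r t)
  have E : ExtData (P := P) (D.stGen K) (thSt K h) σ ξ := ⟨cov_St h, hz, hξ⟩
  obtain ⟨y, hy, hyl⟩ := exists_split E hσ h3 hck hl
  obtain ⟨ψ, hψ⟩ := exists_section h σ hy hyl
  exact ker_eq_bot_of_section hz hc hψ

end Cfsg.Agent.Chev.CT
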