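/-
Central extensions of a covered group split over a field with more than four elements.
-/
import Cfsg.Agent.Lib.CurtisTits.UniExt

set_option autoImplicit false
set_option linter.unusedSectionVars false
set_option maxHeartbeats 1000000

namespace Cfsg.Agent.Chev.CT

open Cfsg.Agent.Chev Cfsg.Lie
open scoped commutatorElement

/-- The finite facts used: angles between a fundamental root and the others, and parity. -/
def ckGen (P : Pk) : Bool :=
  (List.range P.rank).all fun i =>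
    (P.allRoots.all fun s => Nat.beq s (P.sim i) || Nat.beq s (P.ng (P.sim i)) || decide (P.A i s = 0) ||
      decide (P.A i s * P.pair s (P.sim i) = 1) || decide (P.A i s * P.pair s (P.sim i) = 2) ||
      decide (P.A i s * P.pair s (P.sim i) = 3)) &&
    ((P.allRoots.any fun q => decide ((P.pair q (P.sim i)).natAbs = 1)) ||
     (P.allRoots.any fun a => !Nat.beq a (P.sim i) && !Nat.beq a (P.ng (P.sim i)) &&
      (P.cterms (P.sim i) a).isEmpty && P.allRoots.any fun b => !Nat.beq b (P.sim i) &&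
        !Nat.beq b (P.ng (P.sim i)) && (P.cterms (P.sim i) b).isEmpty && !Nat.beq b a && !Nat.beq b (P.ng a) &&
        (List.range (P.cterms a b).length).any fun n => match (P.cterms a b)[n]? with
          | none => false
          | some e => Nat.beq e.1 (P.sim i) && decide (e.2.1 * e.2.1 = 1) && Nat.beq e.2.2.2 1 &&
              ((P.cterms a b).take n ++ (P.cterms a b).drop (n + 1)).all fun k =>
                !Nat.beq k.1 (P.sim i) && !Nat.beq k.1 (P.ng (P.sim i)) && Nat.blt k.1 P.nroots &&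
                  (P.cterms (P.sim i) k.1).isEmpty))

/-- A central factor does not matter in a commutator. -/
theorem comm_central_right {G : Type*} [Group G] (A B : G) {z : G} (hz : z ∈ Subgroup.center G) :
    A * (B * z) * A⁻¹ * (B * z)⁻¹ = A * B * A⁻¹ * B⁻¹ := by
  have hc := Subgroup.mem_center_iff.1 hz
  rw [show A * (B * z) * A⁻¹ * (B * z)⁻¹ = A * B * (z * A⁻¹) * z⁻¹ * B⁻¹ by group, ← hc A⁻¹]
  group

theorem exists_not_root {K : Type*} [Field K] (h5 : ∃ s : Finset K, 4 < s.card) (p : Polynomial K) (hp : p ≠ 0)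
    (hd : p.natDegree ≤ 4) : ∃ z : K, p.eval z ≠ 0 := by
  obtain ⟨s, hs⟩ := h5
  by_contra hno
  push Not at hno
  exact hp (Polynomial.eq_zero_of_natDegree_lt_card_of_eval_eq_zero' p s (fun z _ => hno z) (by omega))

theorem exists_pow_ne_one {K : Type*} [Field K] (h5 : ∃ s : Finset K, 4 < s.card) {d : ℕ} (hd0 : 1 ≤ d)
    (hd : d ≤ 3) : ∃ v : K, v ≠ 0 ∧ v ^ d ≠ 1 := by
  have hne : (Polynomial.X * (Polynomial.X ^ d - 1) : Polynomial K) ≠ 0 := mul_ne_zero Polynomial.X_ne_zero
    (by simpa using (Polynomial.monic_X_pow_sub_C (1 : K) (by omega : d ≠ 0)).ne_zero)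
  obtain ⟨v, hv⟩ := exists_not_root h5 _ hne (by
    refine Polynomial.natDegree_mul_le.trans ?_
    rw [Polynomial.natDegree_X, ← Polynomial.C_1, Polynomial.natDegree_X_pow_sub_C]
    omega)
  simp only [Polynomial.eval_mul, Polynomial.eval_X, Polynomial.eval_sub, Polynomial.eval_pow,
    Polynomial.eval_one, ne_eq, mul_eq_zero, not_or, sub_eq_zero] at hv
  exact ⟨v, hv⟩

theorem exists_w {K : Type*} [Field K] (h5 : ∃ s : Finset K, 4 < s.card) :
    ∃ w : K, w ≠ 0 ∧ 1 + w ≠ 0 ∧ w ^ 2 + w + 1 ≠ 0 := by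
  let q : Polynomial K := Polynomial.X * (1 + Polynomial.X) * (Polynomial.X ^ 2 + Polynomial.X + 1)
  have hq : q.coeff 4 = 1 ∧ q.natDegree ≤ 4 := by
    have e : q = Polynomial.X ^ 4 + Polynomial.C 2 * Polynomial.X ^ 3 + Polynomial.C 2 * Polynomial.X ^ 2 +
        Polynomial.X := by
      simp only [q, map_ofNat]; ring
    rw [e]
    refine ⟨by simp [Polynomial.coeff_X], by compute_degree⟩
  obtain ⟨w, hw⟩ := exists_not_root h5 q (fun e => by rw [e] at hq; simp at hq) hq.2
  simp only [q, Polynomial.eval_mul, Polynomial.eval_X, Polynomial.eval_add, Polynomial.eval_pow,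
    Polynomial.eval_one, ne_eq, mul_eq_zero, not_or] at hw
  exact ⟨w, hw.1.1, hw.1.2, hw.2⟩

section Cover

variable {D : ChevalleyDatum} {P : Pk} {K : Type*} [Field K] {C : Type*} [Group C] {x : ℕ → K → C}
  {θ : C →* GL D.Idx K} (H : Cov D P x θ)
include H

theorem exists_root_word {r : ℕ} (hr : r < P.nroots) :
    ∃ (l : List ℕ) (i : ℕ), WordOk P l ∧ i < P.rank ∧ wl P l (P.sim i) = r := by
  refine H.okD.root_induction (Q := fun r => ∃ (l : List ℕ) (i : ℕ), WordOk P l ∧ i < P.rank ∧ wl P l (P.sim i) = r)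
    (fun i hi => ⟨[], i, fun _ hx => absurd hx List.not_mem_nil, hi, rfl⟩) (fun j hj s _ ⟨l, i, hl, hi, e⟩ => ?_) r hr
  exact ⟨j :: l, i, fun y hy => by rcases List.mem_cons.1 hy with rfl | hy; exacts [hj, hl y hy], hi,
    by simp [wl, e]⟩

theorem pair_self {r : ℕ} (hr : r < P.nroots) : P.pair r r = 2 := by
  obtain ⟨l, i, hl, hi, rfl⟩ := exists_root_word H hr
  rw [H.okD.pair_wl l hl _ (H.okD.sim_lt hi) _ (H.okD.sim_lt hi), H.okD.pair_sim hi, H.okD.A_self hi]

/-- Elements acting on the root groups by a character. -/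
theorem exists_diag (e : ℕ → ℤ) {v : K} (hv : v ≠ 0) :
    ∃ g : C, ∀ r < P.nroots, ∀ u : K, g * x r u * g⁻¹ =
      x r (v ^ (((List.range P.rank).map fun i => e i * P.A i r).sum) * u) := by
  have key : ∀ n ≤ P.rank, ∃ g : C, ∀ r < P.nroots, ∀ u : K, g * x r u * g⁻¹ =
      x r (v ^ (((List.range n).map fun i => e i * P.A i r).sum) * u) := by
    intro n
    induction n with
    | zero => exact fun _ => ⟨1, fun r _ u => by simp⟩
    | succ n ih =>
      intro hn
      obtain ⟨g, hg⟩ := ih (by omega)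
      refine ⟨g * hEl P x (P.sim n) (v ^ e n), fun r hr u => ?_⟩
      rw [show ∀ a b c : C, a * b * c * (a * b)⁻¹ = a * (b * c * b⁻¹) * a⁻¹ by intros; group,
        h_conj H (by omega) (zpow_ne_zero _ hv) hr, hg r hr, ← zpow_mul, ← mul_assoc, ← zpow_add₀ hv]
      congr 3
      rw [List.range_succ, List.map_append, List.sum_append, List.map_singleton, List.sum_singleton]
  exact key P.rank le_rfl

/-- Elements acting as the torus element of a coroot. -/
theorem exists_tor (q : ℕ) {v : K} (hv : v ≠ 0) :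
    ∃ g : C, ∀ r < P.nroots, ∀ u : K, g * x r u * g⁻¹ = x r (v ^ P.pair q r * u) :=
  exists_diag H (fun i => P.co q i) hv

/-- An element acting trivially is central. -/
theorem mem_center_of_trivial {g : C} (hg : ∀ r < P.nroots, ∀ u : K, g * x r u * g⁻¹ = x r u) :
    g ∈ Subgroup.center C := by
  have : Subgroup.centralizer {g} = ⊤ := H.gen _ fun r hr u => by
    rw [Subgroup.mem_centralizer_iff]
    rintro y rfl
    exact (mul_inv_eq_iff_eq_mul.1 (hg r hr u))
  rw [Subgroup.mem_center_iff]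
  intro y
  have hy : y ∈ Subgroup.centralizer {g} := this ▸ Subgroup.mem_top y
  exact (Subgroup.mem_centralizer_iff.1 hy g rfl).symm

/-- Two roots that are not opposite are positive in a common system. -/
theorem exists_word_pos2 {r s : ℕ} (hr : r < P.nroots) (hs : s < P.nroots) (hsn : s ≠ P.ng r) :
    ∃ l, WordOk P l ∧ P.isPos (wl P l r) = true ∧ P.isPos (wl P l s) = true := by
  obtain ⟨l, i, hl, hi, e⟩ := exists_root_word H hr
  have hlr : WordOk P l.reverse := fun z hz => hl z (List.mem_reverse.1 hz)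
  have hr1 : wl P l.reverse r = P.sim i := by
    rw [← e]; exact H.okD.wl_reverse l hl _ (H.okD.sim_lt hi)
  have hs1 := H.okD.wl_lt _ hlr s hs
  by_cases hp : P.isPos (wl P l.reverse s) = true
  · exact ⟨_, hlr, by rw [hr1]; exact H.okD.sim_pos hi, hp⟩
  obtain ⟨m, hm, hneg⟩ := H.okD.exists_longest
  have hmem : WordOk P (m ++ i :: l.reverse) := fun z hz => by
    rcases List.mem_append.1 hz with a | a
    · exact hm z a
    · rcases List.mem_cons.1 a with rfl | a
      exacts [hi, hlr z a]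
  have hne1 : wl P l.reverse s ≠ P.sim i := fun e1 => hp (e1 ▸ H.okD.sim_pos hi)
  have hne2 : wl P l.reverse s ≠ P.ng (P.sim i) := by
    intro e1
    apply hsn
    have := congrArg (wl P l) e1
    rw [H.okD.wl_ng l hl _ (H.okD.sim_lt hi), e] at this
    have h3 := H.okD.wl_reverse l.reverse hlr s hs
    rw [List.reverse_reverse] at h3
    rw [← h3, this]
  have hwpos : ∀ q < P.nroots, P.isPos q = false → P.isPos (wl P m q) = true := by
    intro q hq hqp
    have h2 := hneg (P.ng q) ((H.okD.ng_pos_iff hq).2 hqp)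
    rw [H.okD.wl_ng m hm q hq] at h2
    by_contra hcon
    simp only [Bool.not_eq_true] at hcon
    rw [← Bool.not_eq_true, H.okD.ng_pos_iff (H.okD.wl_lt m hm q hq)] at h2
    exact h2 hcon
  refine ⟨_, hmem, ?_, ?_⟩ <;> rw [wl_append] <;> simp only [wl]
  · rw [hr1, H.okD.w_sim hi]
    refine hwpos _ (Ok.ng_lt (H.okD.sim_lt hi)) ?_
    rw [← Bool.not_eq_true, H.okD.ng_pos_iff (H.okD.sim_lt hi), H.okD.sim_pos hi]; simp
  · refine hwpos _ (H.okD.w_lt hi hs1) ?_
    rcases (H.okD.w_spec hi hs1).2.2.2.2.2.2.1 with a | a | a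
    · exact absurd a hne1
    · exact absurd a hne2
    · rw [← a]; simpa using hp

/-- A system of positive roots contains the roots of the commutator formula. -/
theorem word_cterms {l : List ℕ} (hl : WordOk P l) {r s : ℕ} (hr : r < P.nroots) (hs : s < P.nroots)
    (hr0 : P.isPos (wl P l r) = true) (hs0 : P.isPos (wl P l s) = true) :
    ∀ c ∈ P.cterms r s, c.1 < P.nroots ∧ P.isPos (wl P l c.1) = true := by
  let S : ℕ → Prop := fun q => q < P.nroots ∧ P.isPos (wl P l q) = true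
  intro c hc
  have step : ∀ a b, S a → S b → ∀ k < P.len a b, S (P.tgt a b k) := by
    intro a b ⟨ha, ha'⟩ ⟨hb, hb'⟩ k hk
    have ht := H.okD.tgt_lt ha hb hk
    refine ⟨ht, ?_⟩
    obtain ⟨m, hm', hmp⟩ := H.okD.exists_pos_coord ha'
    refine H.okD.pos_of_rv (H.okD.wl_lt l hl _ ht) hm' ?_
    have e : P.rv (wl P l (P.tgt a b k)) m = (k + 1) * P.rv (wl P l a) m + P.rv (wl P l b) m := by
      rw [H.okD.rv_wl l hl _ ht m hm', H.okD.rv_wl l hl a ha m hm', H.okD.rv_wl l hl b hb m hm',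
        Finset.mul_sum, ← Finset.sum_add_distrib]
      refine Finset.sum_congr rfl fun j hj => ?_
      rw [H.okD.rv_additive ha hb hk (Finset.mem_range.1 hj)]; ring
    rw [e]
    have := (H.okD.rv_sign (H.okD.wl_lt l hl b hb) hm').1 hb'
    nlinarith
  exact H.okD.cterms_ind (T := S) hr hs (step r s ⟨hr, hr0⟩ ⟨hs, hs0⟩) (step s r ⟨hs, hs0⟩ ⟨hr, hr0⟩)
    (fun a _ ha => step a s ha ⟨hs, hs0⟩) (fun a _ ha => step a r ha ⟨hr, hr0⟩) c hc

end Cover

/-- A group monomial on root elements, compatible with the pairings. -/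
structure Mono {P : Pk} {K C : Type*} [Field K] [Group C] (x : ℕ → K → C) (g : C) (π : ℕ → ℕ) (e : ℕ → K) :
    Prop where
  lt : ∀ r < P.nroots, π r < P.nroots
  act : ∀ r < P.nroots, ∀ u : K, g * x r u * g⁻¹ = x (π r) (e r * u)
  pair : ∀ r < P.nroots, ∀ s < P.nroots, P.pair (π r) (π s) = P.pair r s
  surj : ∀ r < P.nroots, ∃ s < P.nroots, π s = r

/-- Central extension data with lifts in the commutator subgroup. -/
structure GX {D : ChevalleyDatum} {P : Pk} {K : Type*} [Field K] {C : Type*} [Group C]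
    (x : ℕ → K → C) (θ : C →* GL D.Idx K) {Γ : Type*} [Group Γ] (σ : Γ →* C) (ξ : ℕ → K → Γ) : Prop where
  ext : ExtData (P := P) x θ σ ξ
  surj : Function.Surjective σ
  inComm : ∀ r t, ξ r t ∈ commutator Γ
  big : ∃ s : Finset K, 4 < s.card
  ck : ckGen P = true

/-- What the canonical lifts need: commuting lifts in each root group and moving diagonal elements. -/
structure GB {D : ChevalleyDatum} {P : Pk} {K : Type*} [Field K] {C : Type*} [Group C]
    (x : ℕ → K → C) (θ : C →* GL D.Idx K) {Γ : Type*} [Group Γ] (σ : Γ →* C) (ξ : ℕ → K → Γ) : Prop where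
  ext : ExtData (P := P) x θ σ ξ
  surj : Function.Surjective σ
  inComm : ∀ r t, ξ r t ∈ commutator Γ
  self : ∀ r < P.nroots, ∀ t u : K, Fc ξ r r t u = 1
  tor : ∀ r < P.nroots, ∃ (g : Γ) (χ : ℕ → K),
    (∀ q < P.nroots, ∀ u, σ g * x q u * (σ g)⁻¹ = x q (χ q * u)) ∧ χ r ≠ 1

section Base

variable {D : ChevalleyDatum} {P : Pk} {K : Type*} [Field K] {C : Type*} [Group C]
  {x : ℕ → K → C} {θ : C →* GL D.Idx K} {Γ : Type*} [Group Γ] {σ : Γ →* C} {ξ : ℕ → K → Γ}
  (E : ExtData (P := P) x θ σ ξ)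
include E

theorem central_comm {Z : Γ} (hZ : σ Z ∈ Subgroup.center C) {X : Γ} (hX : X ∈ commutator Γ) : Commute Z X := by
  have hc : ∀ X, cm Z X ∈ Subgroup.center Γ := fun X =>
    cm_center E.central (Subgroup.mem_center_iff.1 hZ (σ X)).symm
  have hmul : ∀ a b, cm Z (a * b) = cm Z a * cm Z b := fun a b => by
    rw [cm_mul_right, center_conj (hc a), Subgroup.mem_center_iff.1 (hc a) (cm Z b)]
  have hone : cm Z 1 = 1 := by simp [cm]
  have hinv : ∀ a, cm Z a⁻¹ = (cm Z a)⁻¹ := fun a => by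
    refine eq_inv_of_mul_eq_one_left ?_
    rw [← hmul, inv_mul_cancel, hone]
  let S : Subgroup Γ :=
    { carrier := {a | cm Z a = 1}
      one_mem' := hone
      mul_mem' := fun {a b} ha hb => by
        show cm Z (a * b) = 1
        rw [hmul, show cm Z a = 1 from ha, show cm Z b = 1 from hb, one_mul]
      inv_mem' := fun {a} ha => by
        show cm Z a⁻¹ = 1
        rw [hinv, show cm Z a = 1 from ha, inv_one] }
  have hle : commutator Γ ≤ S := by
    rw [commutator_def, Subgroup.commutator_le]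
    intro a _ b _
    show cm Z ⁅a, b⁆ = 1
    rw [commutatorElement_def, hmul, hmul, hmul, hinv, hinv]
    have := Subgroup.mem_center_iff.1 (hc a) (cm Z b)
    rw [mul_assoc _ (cm Z b) (cm Z a)⁻¹]
    calc _ = cm Z a * (cm Z b * (cm Z a)⁻¹) * (cm Z b)⁻¹ := rfl
      _ = 1 := by rw [← mul_assoc, ← this]; group
  exact cm_one_iff.1 (hle hX)

theorem Fc_conj {g : Γ} {r s r' s' : ℕ} {e e' : K}
    (hr : ∀ u, σ g * x r u * (σ g)⁻¹ = x r' (e * u)) (hs : ∀ u, σ g * x s u * (σ g)⁻¹ = x s' (e' * u))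
    (t u : K) : Fc ξ r' s' (e * t) (e' * u) = g * Fc ξ r s t u * g⁻¹ := by
  show cm (ξ s' _) (ξ r' _) = _
  rw [cm_congr E.central (a' := g * ξ s u * g⁻¹) (b' := g * ξ r t * g⁻¹)
    (by rw [map_mul, map_mul, map_inv, E.lift, E.lift, hs])
    (by rw [map_mul, map_mul, map_inv, E.lift, E.lift, hr])]
  unfold Fc cm; group

theorem Fc_cc {r s : ℕ} (hc : ∀ t u : K, Commute (x r t) (x s u)) (t u : K) :
    Fc ξ r s t u ∈ Subgroup.center Γ :=
  cm_center E.central (by rw [E.lift, E.lift]; exact (hc t u).symm)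

theorem Fc_addL {r s : ℕ} (hr : r < P.nroots) (hc : ∀ t u : K, Commute (x r t) (x s u)) (t t' u : K) :
    Fc ξ r s (t + t') u = Fc ξ r s t' u * Fc ξ r s t u :=
  Fc_add_left E hr (Subgroup.mem_center_iff.1 (Fc_cc E hc t u) _).symm

theorem comm_of_empty {r s : ℕ} (hr : r < P.nroots) (hs : s < P.nroots) (hsr : s ≠ r) (hsn : s ≠ P.ng r)
    (he : (P.cterms r s).isEmpty = true) (t u : K) : Commute (x r t) (x s u) := by
  have := commC E.cov hr hs hsr hsn t u
  rw [rhsW, List.isEmpty_iff.1 he] at this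
  exact ((cm_one_iff (a := x s u) (b := x r t)).1 this).symm

theorem x_self_comm {r : ℕ} (hr : r < P.nroots) (t u : K) : Commute (x r t) (x r u) := by
  show x r t * x r u = x r u * x r t
  rw [x_addC E.cov hr, x_addC E.cov hr, add_comm]

/-- A diagonal element fixing one root and moving the other kills the commutator. -/
theorem kill_sep {r s : ℕ} (hr : r < P.nroots) (hs : s < P.nroots) (hc : ∀ t u : K, Commute (x r t) (x s u))
    {γ : Γ} {χ : ℕ → K} (hg : ∀ q < P.nroots, ∀ u, σ γ * x q u * (σ γ)⁻¹ = x q (χ q * u))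
    (h1 : χ s = 1) (h2 : χ r ≠ 1) (t u : K) : Fc ξ r s t u = 1 := by
  have inv : ∀ t, Fc ξ r s (χ r * t) u = Fc ξ r s t u := fun t => by
    have := Fc_conj E (hg r hr) (hg s hs) t u
    rwa [h1, one_mul, Subgroup.mem_center_iff.1 (Fc_cc E hc t u) γ, mul_inv_cancel_right] at this
  have := inv (t / (χ r - 1))
  rw [show χ r * (t / (χ r - 1)) = t + t / (χ r - 1) by
    field_simp [sub_ne_zero.2 h2]; ring, Fc_addL E hr hc] at this
  exact mul_eq_left.1 this

end Base

section Gen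

variable {D : ChevalleyDatum} {P : Pk} {K : Type*} [Field K] {C : Type*} [Group C]
  {x : ℕ → K → C} {θ : C →* GL D.Idx K} {Γ : Type*} [Group Γ] {σ : Γ →* C} {ξ : ℕ → K → Γ}
  (G : GX (P := P) x θ σ ξ)
include G

theorem exists_sep {r s : ℕ} (hr : r < P.nroots) (hs : s < P.nroots) (hsr : s ≠ r) (hsn : s ≠ P.ng r) :
    ∃ (g : C) (χ : ℕ → K), (∀ q < P.nroots, χ q ≠ 0) ∧ (∀ q < P.nroots, ∀ u, g * x q u * g⁻¹ = x q (χ q * u)) ∧
      χ s = 1 ∧ χ r ≠ 1 := by
  have H := G.ext.cov
  by_cases hn : P.pair r s = 0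
  · obtain ⟨v, hv, hv2⟩ := exists_pow_ne_one G.big (d := 2) (by omega) (by omega)
    obtain ⟨g, hg⟩ := exists_tor H r hv
    refine ⟨g, fun q => v ^ P.pair r q, fun q _ => zpow_ne_zero _ hv, hg, by simp [hn], ?_⟩
    show v ^ P.pair r r ≠ 1
    rw [pair_self H hr]; exact_mod_cast hv2
  · obtain ⟨l, i, hl, hi, rfl⟩ := exists_root_word H hr
    set s' := wl P l.reverse s
    have hlr : WordOk P l.reverse := fun y hy => hl y (List.mem_reverse.1 hy)
    have hs' : s' < P.nroots := H.okD.wl_lt _ hlr s hs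
    have hse : wl P l s' = s := by
      have := H.okD.wl_reverse l.reverse hlr s hs
      rwa [List.reverse_reverse] at this
    have hsi := H.okD.sim_lt hi
    have hp1 : P.pair (wl P l (P.sim i)) s = P.A i s' := by
      rw [← hse, H.okD.pair_wl l hl _ hsi _ hs', H.okD.pair_sim hi]
    have hp2 : P.pair s (wl P l (P.sim i)) = P.pair s' (P.sim i) := by
      rw [← hse, H.okD.pair_wl l hl _ hs' _ hsi]
    have hd : ∃ d : ℕ, 1 ≤ d ∧ d ≤ 3 ∧
        (4 : ℤ) - P.pair (wl P l (P.sim i)) s * P.pair s (wl P l (P.sim i)) = d := by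
      have hck := G.ck
      simp only [ckGen, List.all_eq_true, List.mem_range, Bool.and_eq_true, Bool.or_eq_true, Pk.mem_allRoots,
        nbeq, decide_eq_true_eq] at hck
      rw [hp1, hp2]
      rcases (hck i hi).1 s' hs' with ((((e | e) | e) | e) | e) | e
      · exact absurd (by rw [← hse, e]) hsr
      · exact absurd (by rw [← hse, e, H.okD.wl_ng l hl _ hsi]) hsn
      · exact absurd (hp1.trans e) hn
      · exact ⟨3, by omega, by omega, by omega⟩
      · exact ⟨2, by omega, by omega, by omega⟩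
      · exact ⟨1, by omega, by omega, by omega⟩
    obtain ⟨d, hd1, hd3, hd⟩ := hd
    obtain ⟨v, hv, hvd⟩ := exists_pow_ne_one G.big hd1 hd3
    set r := wl P l (P.sim i)
    obtain ⟨g₁, hg₁⟩ := exists_tor H r (pow_ne_zero 2 hv)
    obtain ⟨g₂, hg₂⟩ := exists_tor H s (zpow_ne_zero (-P.pair r s) hv)
    refine ⟨g₁ * g₂, fun q => (v ^ 2) ^ P.pair r q * (v ^ (-P.pair r s)) ^ P.pair s q,
      fun q _ => mul_ne_zero (zpow_ne_zero _ (pow_ne_zero 2 hv)) (zpow_ne_zero _ (zpow_ne_zero _ hv)),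
      fun q hq u => ?_, ?_, ?_⟩
    · rw [show ∀ a b c : C, a * b * c * (a * b)⁻¹ = a * (b * c * b⁻¹) * a⁻¹ by intros; group, hg₂ q hq,
        hg₁ q hq, mul_assoc]
    · show (v ^ 2) ^ P.pair r s * (v ^ (-P.pair r s)) ^ P.pair s s = 1
      rw [pair_self H hs, ← zpow_natCast v 2, ← zpow_mul, ← zpow_mul, ← zpow_add₀ hv]
      simp [mul_comm]
    · show (v ^ 2) ^ P.pair r r * (v ^ (-P.pair r s)) ^ P.pair s r ≠ 1
      rw [pair_self H hr, ← zpow_natCast v 2, ← zpow_mul, ← zpow_mul, ← zpow_add₀ hv,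
        show (2 : ℕ) * (2 : ℤ) + -P.pair r s * P.pair s r = (d : ℤ) by rw [← hd]; push_cast; ring, zpow_natCast]
      exact hvd

theorem kill_pair {r s : ℕ} (hr : r < P.nroots) (hs : s < P.nroots) (hsr : s ≠ r) (hsn : s ≠ P.ng r)
    (hc : ∀ t u : K, Commute (x r t) (x s u)) (t u : K) : Fc ξ r s t u = 1 := by
  obtain ⟨g, χ, -, hg, h1, h2⟩ := exists_sep G hr hs hsr hsn
  obtain ⟨γ, rfl⟩ := G.surj g
  exact kill_sep G.ext hr hs hc hg h1 h2 t u

theorem kill_self {r : ℕ} (hr : r < P.nroots) (t u : K) : Fc ξ r r t u = 1 := by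
  have H := G.ext.cov
  suffices hsim : ∀ i < P.rank, ∀ t u : K, Fc ξ (P.sim i) (P.sim i) t u = 1 by
    obtain ⟨l, i, hl, hi, rfl⟩ := exists_root_word H hr
    obtain ⟨c, hc, h1, -⟩ := nWC_conj H l hl (P.sim i) (H.okD.sim_lt hi)
    obtain ⟨γ, hγ⟩ := G.surj (nWC P x l)
    have h1' : ∀ v, σ γ * x (P.sim i) v * (σ γ)⁻¹ = x (wl P l (P.sim i)) ((c : K) * v) := by
      rw [hγ]; exact h1
    have := Fc_conj G.ext h1' h1' ((c : K) * t) ((c : K) * u)
    rw [cancel_sq hc, cancel_sq hc, hsim i hi, mul_one, mul_inv_cancel] at this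
    exact this
  intro i hi t u
  set r := P.sim i
  have hr := H.okD.sim_lt hi
  have hck := G.ck
  simp only [ckGen, List.all_eq_true, List.mem_range, Bool.and_eq_true, Bool.or_eq_true, List.any_eq_true,
    Pk.mem_allRoots, nbeq, decide_eq_true_eq, Bool.not_eq_true', decide_eq_false_iff_not] at hck
  have hcen := Fc_cc G.ext (x_self_comm G.ext hr)
  have addR : ∀ t u u', Fc ξ r r t (u + u') = Fc ξ r r t u * Fc ξ r r t u' := fun t u u' => by
    rw [Fc_symm G.ext r r (u + u') t, Fc_addL G.ext hr (x_self_comm G.ext hr), mul_inv_rev, ← Fc_symm G.ext,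
      ← Fc_symm G.ext]
  rcases (hck i hi).2 with ⟨q, hq, hodd⟩ | ⟨a, ha, ⟨⟨⟨har, harn⟩, hae⟩, b, hb, hbb⟩⟩
  · -- scaling by every nonzero scalar
    have scale : ∀ v : K, v ≠ 0 → ∀ t u, Fc ξ r r (v * t) (v * u) = Fc ξ r r t u := by
      intro v hv t u
      have hex : ∃ g : C, ∀ z : K, g * x r z * g⁻¹ = x r (v * z) := by
        rcases Int.natAbs_eq_iff.1 hodd with e | e
        · obtain ⟨g, hg⟩ := exists_tor H q hv
          exact ⟨g, fun z => by rw [hg r hr, e]; simp⟩
        · obtain ⟨g, hg⟩ := exists_tor H q (inv_ne_zero hv)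
          exact ⟨g, fun z => by rw [hg r hr, e]; simp⟩
      obtain ⟨g, hg⟩ := hex
      obtain ⟨γ, rfl⟩ := G.surj g
      rw [Fc_conj G.ext hg hg t u, Subgroup.mem_center_iff.1 (hcen t u) γ, mul_inv_cancel_right]
    have move : ∀ v : K, v ≠ 0 → ∀ t u, Fc ξ r r (v * t) u = Fc ξ r r t (v⁻¹ * u) := by
      intro v hv t u
      rw [← scale v hv t (v⁻¹ * u), ← mul_assoc, mul_inv_cancel₀ hv, one_mul]
    obtain ⟨w, hw0, hw1, hw2⟩ := exists_w G.big
    have e1 : ∀ t z, Fc ξ r r t ((1 + w)⁻¹ * z) = Fc ξ r r t (z + w⁻¹ * z) := by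
      intro t z
      rw [← move _ hw1, add_mul, one_mul, Fc_addL G.ext hr (x_self_comm G.ext hr), move _ hw0, addR]
      exact Subgroup.mem_center_iff.1 (hcen t z) _
    set δ : K := 1 + w⁻¹ - (1 + w)⁻¹ with hδ
    have hδ0 : δ ≠ 0 := by
      have : δ = (w ^ 2 + w + 1) / (w * (1 + w)) := by
        rw [hδ]; field_simp; ring
      rw [this]
      exact div_ne_zero hw2 (mul_ne_zero hw0 hw1)
    have e2 := e1 t (u / δ)
    rw [show u / δ + w⁻¹ * (u / δ) = (1 + w)⁻¹ * (u / δ) + u by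
      have : δ * (u / δ) = u := mul_div_cancel₀ u hδ0
      rw [hδ] at this ⊢
      linear_combination this, addR] at e2
    exact left_eq_mul.1 e2 |> fun e => e
  · -- a decomposition commuting with the root
    obtain ⟨⟨⟨⟨hbr, hbrn⟩, hbe⟩, hba⟩, hbna⟩ := hbb.1
    obtain ⟨n, hn, hm⟩ := hbb.2
    cases he : (P.cterms a b)[n]? with
    | none => rw [he] at hm; simp at hm
    | some e =>
      rw [he] at hm
      simp only [Bool.and_eq_true, decide_eq_true_eq, List.all_eq_true, nbeq, Bool.not_eq_true',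
        decide_eq_false_iff_not, Nat.blt_eq] at hm
      obtain ⟨⟨⟨her, hec⟩, hej⟩, hrest⟩ := hm
      have hK : ∀ k, k ≠ r → k ≠ P.ng r → k < P.nroots → (P.cterms r k).isEmpty = true →
          ∀ w, Commute (ξ r t) (ξ k w) := by
        intro k h1 h2 h3 h4 w
        have := kill_pair G hr h3 h1 h2 (comm_of_empty G.ext hr h3 h1 h2 h4) t w
        exact ((cm_one_iff (a := ξ k w) (b := ξ r t)).1 this).symm
      set w : K := (e.2.1 : K) * u
      set f : ℕ × ℤ × ℕ × ℕ → Γ := fun k => ξ k.1 ((k.2.1 : K) * (-(-1 : K)) ^ k.2.2.1 * w ^ k.2.2.2)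
      set A := (((P.cterms a b).take n).map f).prod
      set B := (((P.cterms a b).drop (n + 1)).map f).prod
      set W := A⁻¹ * cm (ξ b w) (ξ a (-1)) * B⁻¹
      have hA : ∀ L : List (ℕ × ℤ × ℕ × ℕ),
          (∀ k ∈ L, k ∈ (P.cterms a b).take n ++ (P.cterms a b).drop (n + 1)) →
          Commute (ξ r t) (L.map f).prod := by
        intro L hL
        refine Commute.list_prod_right _ _ fun z hz => ?_
        obtain ⟨k, hk, rfl⟩ := List.mem_map.1 hz
        obtain ⟨⟨⟨h1, h2⟩, h3⟩, h4⟩ := hrest k (hL k hk)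
        exact hK k.1 h1 h2 h3 h4 _
      have hca := hK a har harn ha hae
      have hcb := hK b hbr hbrn hb hbe
      have hW : Commute (ξ r t) W := by
        refine (((hA _ fun k hk => List.mem_append_left _ hk).inv_right).mul_right ?_).mul_right
          ((hA _ fun k hk => List.mem_append_right _ hk).inv_right)
        exact ((((hcb w).inv_right).mul_right ((hca (-1)).inv_right)).mul_right (hcb w)).mul_right (hca (-1))
      have hσW : σ W = σ (ξ r u) := by
        obtain ⟨hn', hge⟩ := List.getElem?_eq_some_iff.1 he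
        have hsplit : P.cterms a b = (P.cterms a b).take n ++ e :: (P.cterms a b).drop (n + 1) := by
          rw [← hge, ← List.drop_eq_getElem_cons hn', List.take_append_drop]
        have hcomm : σ (cm (ξ b w) (ξ a (-1))) = rhsW P x a b (-1) w := by
          rw [← commC H ha hb hba hbna (-1) w]
          simp only [cm, map_mul, map_inv, G.ext.lift]
        set g : ℕ × ℤ × ℕ × ℕ → C := fun k => x k.1 ((k.2.1 : K) * (-(-1 : K)) ^ k.2.2.1 * w ^ k.2.2.2)
        have hfg : ∀ L : List (ℕ × ℤ × ℕ × ℕ), σ (L.map f).prod = (L.map g).prod := by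
          intro L
          rw [map_list_prod, List.map_map]
          exact congrArg List.prod (List.map_congr_left fun k _ => G.ext.lift _ _)
        have hrhs : rhsW P x a b (-1) w = (((P.cterms a b).take n).map g).prod * x r u *
            (((P.cterms a b).drop (n + 1)).map g).prod := by
          have hge' : g e = x r u := by
            simp only [g, her, hej, neg_neg, one_pow, mul_one, pow_one, w, cancel_sq hec]
            rfl
          rw [rhsW]
          conv_lhs => rw [hsplit]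
          rw [List.map_append, List.prod_append, List.map_cons, List.prod_cons, ← hge']
          simp only [g, mul_assoc]
        simp only [W, A, B, map_mul, map_inv, hcomm, hfg, hrhs, G.ext.lift]
        group
      show cm (ξ r u) (ξ r t) = 1
      rw [cm_congr G.ext.central (a' := W) (b' := ξ r t) hσW.symm rfl, cm_one_iff]
      exact hW.symm.eq

theorem GX.gb : GB (P := P) x θ σ ξ := by
  obtain ⟨a, ha, ha2⟩ : ∃ a : K, a ≠ 0 ∧ a ^ 2 ≠ 1 := exists_pow_ne_one G.big (by omega) (by omega)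
  refine ⟨G.ext, G.surj, G.inComm, fun r hr => kill_self G hr, fun r hr => ?_⟩
  obtain ⟨g, hg⟩ := exists_tor G.ext.cov r ha
  obtain ⟨γ, rfl⟩ := G.surj g
  exact ⟨γ, fun q => a ^ P.pair r q, hg, by show a ^ P.pair r r ≠ 1; rw [pair_self G.ext.cov hr]; exact_mod_cast ha2⟩

end Gen

section Can

variable {D : ChevalleyDatum} {P : Pk} {K : Type*} [Field K] {C : Type*} [Group C]
  {x : ℕ → K → C} {θ : C →* GL D.Idx K} {Γ : Type*} [Group Γ] {σ : Γ →* C} {ξ : ℕ → K → Γ}
  (B : GB (P := P) x θ σ ξ)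
include B

/-- Canonical lifts: additive and equivariant. -/
theorem exists_canonical : ∃ y : ℕ → K → Γ, (∀ r < P.nroots, ∀ t, σ (y r t) = x r t) ∧
    (∀ r < P.nroots, ∀ t u, y r t * y r u = y r (t + u)) ∧
    ∀ (γ : Γ) (π : ℕ → ℕ) (e : ℕ → K), Mono (P := P) x (σ γ) π e →
      ∀ r < P.nroots, ∀ t, γ * y r t * γ⁻¹ = y (π r) (e r * t) := by
  have H := B.ext.cov
  -- lifts attached to a diagonal element
  let Y : Γ → K → ℕ → K → Γ := fun g a r t => g * ξ r (t / (a - 1)) * g⁻¹ * (ξ r (t / (a - 1)))⁻¹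
  have hY : ∀ g a r, r < P.nroots → (∀ u, σ g * x r u * (σ g)⁻¹ = x r (a * u)) → a ≠ 1 →
      ∀ t, σ (Y g a r t) = x r t := by
    intro g a r hr hg ha t
    simp only [Y, map_mul, map_inv, B.ext.lift]
    rw [hg, x_invC H hr, x_addC H hr]
    congr 1
    field_simp [sub_ne_zero.2 ha]
    ring
  have hYadd : ∀ g a r, r < P.nroots → (∀ u, σ g * x r u * (σ g)⁻¹ = x r (a * u)) → a ≠ 1 →
      ∀ t u, Y g a r t * Y g a r u = Y g a r (t + u) := by
    intro g a r hr hg ha t u
    set c := a - 1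
    have hcomm : Commute (Y g a r u) (ξ r (t / c)) := by
      have h1 : cm (Y g a r u) (ξ r (t / c)) = cm (ξ r u) (ξ r (t / c)) :=
        cm_congr B.ext.central (by rw [hY g a r hr hg ha, B.ext.lift]) rfl
      exact cm_one_iff.1 (h1.trans (B.self r hr (t / c) u))
    obtain ⟨z, hz, e⟩ : ∃ z ∈ Subgroup.center Γ, ξ r ((t + u) / c) = ξ r (t / c) * ξ r (u / c) * z := by
      refine ⟨(ξ r (t / c) * ξ r (u / c))⁻¹ * ξ r ((t + u) / c), B.ext.central ?_, by group⟩
      rw [MonoidHom.mem_ker, map_mul, map_inv, map_mul, B.ext.lift, B.ext.lift, B.ext.lift, x_addC H hr,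
        add_div, inv_mul_cancel]
    show Y g a r t * Y g a r u = g * ξ r ((t + u) / c) * g⁻¹ * (ξ r ((t + u) / c))⁻¹
    rw [e]
    calc Y g a r t * Y g a r u
        = g * ξ r (t / c) * g⁻¹ * ((ξ r (t / c))⁻¹ * Y g a r u) := by simp only [Y, c]; group
      _ = g * ξ r (t / c) * g⁻¹ * (Y g a r u * (ξ r (t / c))⁻¹) := by rw [hcomm.inv_right.eq]
      _ = g * (ξ r (t / c) * ξ r (u / c)) * g⁻¹ * (ξ r (t / c) * ξ r (u / c))⁻¹ := by
          simp only [Y, c]; group
      _ = _ := (comm_central_right g _ hz).symm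
  have scal : ∀ q < P.nroots, ∀ c c' : K, x q c = x q c' → c = c' := fun q hq c c' e => by
    have := congrArg θ e
    rw [H.img q hq, H.img q hq] at this
    exact H.okD.xG_inj_param hq this
  have nz : ∀ (g : Γ) (q : ℕ) (c : K), q < P.nroots → (∀ u, σ g * x q u * (σ g)⁻¹ = x q (c * u)) → c ≠ 0 := by
    intro g q c hq hg h0
    have := hg 1
    rw [h0, zero_mul, x_zeroC H hq, conj_eq_one_iff] at this
    exact one_ne_zero (scal q hq _ _ (this.trans (x_zeroC H hq).symm))
  -- independence of the diagonal element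
  have indep : ∀ (g g' : Γ) (χ χ' : ℕ → K) (r : ℕ), r < P.nroots →
      (∀ q < P.nroots, ∀ u, σ g * x q u * (σ g)⁻¹ = x q (χ q * u)) →
      (∀ q < P.nroots, ∀ u, σ g' * x q u * (σ g')⁻¹ = x q (χ' q * u)) →
      χ r ≠ 1 → χ' r ≠ 1 → ∀ t, Y g (χ r) r t = Y g' (χ' r) r t := by
    intro g g' χ χ' r hr hg hg' ha ha'
    set a := χ r
    set a' := χ' r
    set Z := g⁻¹ * (g' * g * g'⁻¹)
    have hZ : σ Z ∈ Subgroup.center C := by
      refine mem_center_of_trivial H fun q hq u => ?_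
      set w := (χ' q)⁻¹ * u
      have hw : χ' q * w = u := by rw [← mul_assoc, mul_inv_cancel₀ (nz g' q _ hq (hg' q hq)), one_mul]
      conv_lhs => rw [← hw, ← hg' q hq w]
      simp only [Z, map_mul, map_inv]
      rw [show ∀ A B y : C, A⁻¹ * (B * A * B⁻¹) * (B * y * B⁻¹) * (A⁻¹ * (B * A * B⁻¹))⁻¹ =
        A⁻¹ * (B * (A * y * A⁻¹) * B⁻¹) * A by intros; group, hg q hq, hg' q hq,
        show χ' q * (χ q * w) = χ q * u by rw [← hw]; ring, ← hg q hq u]
      group
    suffices h : ∀ t, Y g' a' r ((a' - 1) * t) = Y g a r ((a' - 1) * t) by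
      intro t
      have := h (t / (a' - 1))
      rw [mul_div_cancel₀ t (sub_ne_zero.2 ha')] at this
      exact this.symm
    intro t
    set v := t / (a - 1)
    have key : g' * Y g a r t * g'⁻¹ = Y g a r (a' * t) := by
      obtain ⟨z, hz, ez⟩ : ∃ z ∈ Subgroup.center Γ, g' * ξ r v * g'⁻¹ = ξ r (a' * v) * z := by
        refine ⟨(ξ r (a' * v))⁻¹ * (g' * ξ r v * g'⁻¹), B.ext.central ?_, by group⟩
        rw [MonoidHom.mem_ker, map_mul, map_inv, map_mul, map_mul, map_inv, B.ext.lift, B.ext.lift, hg' r hr,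
          inv_mul_cancel]
      have hξ : Commute Z (ξ r (a' * v)) := central_comm B.ext hZ (B.inComm _ _)
      show g' * Y g a r t * g'⁻¹ = g * ξ r (a' * t / (a - 1)) * g⁻¹ * (ξ r (a' * t / (a - 1)))⁻¹
      rw [mul_div_assoc a' t]
      calc g' * Y g a r t * g'⁻¹ = g * Z * (g' * ξ r v * g'⁻¹) * (g * Z)⁻¹ * (g' * ξ r v * g'⁻¹)⁻¹ := by
            simp only [Y, Z, v]; group
        _ = g * Z * ξ r (a' * v) * (g * Z)⁻¹ * (ξ r (a' * v))⁻¹ := by
            rw [ez]
            exact comm_central_right (g * Z) _ hz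
        _ = g * (Z * ξ r (a' * v) * Z⁻¹) * g⁻¹ * (ξ r (a' * v))⁻¹ := by group
        _ = _ := by rw [hξ.eq, mul_inv_cancel_right]
    have e1 : Y g' a' r ((a' - 1) * t) = g' * Y g a r t * g'⁻¹ * (Y g a r t)⁻¹ := by
      obtain ⟨z, hz, ez⟩ : ∃ z ∈ Subgroup.center Γ, Y g a r t = ξ r t * z := by
        refine ⟨(ξ r t)⁻¹ * Y g a r t, B.ext.central ?_, by group⟩
        rw [MonoidHom.mem_ker, map_mul, map_inv, hY g a r hr (hg r hr) ha, B.ext.lift, inv_mul_cancel]
      show g' * ξ r ((a' - 1) * t / (a' - 1)) * g'⁻¹ * (ξ r ((a' - 1) * t / (a' - 1)))⁻¹ = _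
      rw [mul_div_cancel_left₀ t (sub_ne_zero.2 ha'), ez]
      exact (comm_central_right g' _ hz).symm
    have e2 : Y g a r (a' * t) = Y g a r ((a' - 1) * t) * Y g a r t := by
      rw [hYadd g a r hr (hg r hr) ha]; congr 1; ring
    rw [e1, key, e2, mul_inv_cancel_right]
  have hex : ∀ r, ∃ (g : Γ) (χ : ℕ → K), r < P.nroots →
      (∀ q < P.nroots, ∀ u, σ g * x q u * (σ g)⁻¹ = x q (χ q * u)) ∧ χ r ≠ 1 := fun r => by
    by_cases hr : r < P.nroots
    · obtain ⟨g, χ, h1, h2⟩ := B.tor r hr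
      exact ⟨g, χ, fun _ => ⟨h1, h2⟩⟩
    · exact ⟨1, fun _ => 1, fun h => absurd h hr⟩
  choose G X hGX using hex
  refine ⟨fun r t => Y (G r) (X r r) r t, fun r hr => hY _ _ r hr ((hGX r hr).1 r hr) (hGX r hr).2,
    fun r hr => hYadd _ _ r hr ((hGX r hr).1 r hr) (hGX r hr).2, fun γ π e hm r hr t => ?_⟩
  have hπ := hm.lt r hr
  obtain ⟨hd, ha⟩ := hGX r hr
  have hpre : ∀ q, ∃ q0, q < P.nroots → q0 < P.nroots ∧ π q0 = q := fun q => by
    by_cases hq : q < P.nroots
    · obtain ⟨q0, h1, h2⟩ := hm.surj q hq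
      exact ⟨q0, fun _ => ⟨h1, h2⟩⟩
    · exact ⟨0, fun h => absurd h hq⟩
  choose pre hpre using hpre
  have hconj : ∀ q0 < P.nroots, ∀ u, σ (γ * G r * γ⁻¹) * x (π q0) u * (σ (γ * G r * γ⁻¹))⁻¹ =
      x (π q0) (X r q0 * u) := by
    intro q0 hq0 u
    have he : e q0 ≠ 0 := by
      intro h0
      have := hm.act q0 hq0 1
      rw [h0, zero_mul, x_zeroC H (hm.lt q0 hq0), conj_eq_one_iff] at this
      exact one_ne_zero (scal q0 hq0 _ _ (this.trans (x_zeroC H hq0).symm))
    set w := (e q0)⁻¹ * u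
    have hw : e q0 * w = u := by rw [← mul_assoc, mul_inv_cancel₀ he, one_mul]
    conv_lhs => rw [← hw, ← hm.act q0 hq0 w]
    simp only [map_mul, map_inv]
    rw [show ∀ A B y : C, A * B * A⁻¹ * (A * y * A⁻¹) * (A * B * A⁻¹)⁻¹ = A * (B * y * B⁻¹) * A⁻¹ by
      intros; group, hd q0 hq0, hm.act q0 hq0]
    congr 1
    rw [← hw]; ring
  set χ' : ℕ → K := fun q => X r (pre q)
  have hd' : ∀ q < P.nroots, ∀ u, σ (γ * G r * γ⁻¹) * x q u * (σ (γ * G r * γ⁻¹))⁻¹ = x q (χ' q * u) := by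
    intro q hq u
    obtain ⟨h1, h2⟩ := hpre q hq
    have := hconj (pre q) h1 u
    rwa [h2] at this
  have ha' : χ' (π r) = X r r := by
    have := (hd' (π r) hπ 1).symm.trans (hconj r hr 1)
    simpa using scal (π r) hπ _ _ this
  obtain ⟨hdπ, haπ⟩ := hGX (π r) hπ
  show γ * Y (G r) (X r r) r t * γ⁻¹ = Y (G (π r)) (X (π r) (π r)) (π r) (e r * t)
  rw [indep (G (π r)) (γ * G r * γ⁻¹) (X (π r)) χ' (π r) hπ hdπ hd' haπ (by rw [ha']; exact ha), ha']
  set v := t / (X r r - 1)
  obtain ⟨z, hz, ez⟩ : ∃ z ∈ Subgroup.center Γ, γ * ξ r v * γ⁻¹ = ξ (π r) (e r * v) * z := by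
    refine ⟨(ξ (π r) (e r * v))⁻¹ * (γ * ξ r v * γ⁻¹), B.ext.central ?_, by group⟩
    rw [MonoidHom.mem_ker, map_mul, map_inv, map_mul, map_mul, map_inv, B.ext.lift, B.ext.lift, hm.act r hr,
      inv_mul_cancel]
  simp only [Y, mul_div_assoc]
  rw [← comm_central_right (γ * G r * γ⁻¹) (ξ (π r) (e r * v)) hz, ← ez]
  simp only [v]; group

end Can

/-- The relation for one pair. -/
def RelOn {K Γ : Type*} [Field K] [Group Γ] (P : Pk) (y : ℕ → K → Γ) (r s : ℕ) : Prop :=
  ∀ t u : K, cm (y s u) (y r t) = rhsW P y r s t u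

/-- Every pair has its relation or a diagonal element fixing the first root and moving the second. -/
def Sep {K C Γ : Type*} [Field K] [Group C] [Group Γ] (P : Pk) (x : ℕ → K → C) (σ : Γ →* C) (y : ℕ → K → Γ) :
    Prop :=
  ∀ r s, r < P.nroots → s < P.nroots → s ≠ r → s ≠ P.ng r → RelOn P y r s ∨
    ∃ (γ : Γ) (χ : ℕ → K), (∀ q < P.nroots, ∀ u, σ γ * x q u * (σ γ)⁻¹ = x q (χ q * u)) ∧ χ r = 1 ∧ χ s ≠ 1

section Rels

variable {D : ChevalleyDatum} {P : Pk} {K : Type*} [Field K] {C : Type*} [Group C]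
  {x : ℕ → K → C} {θ : C →* GL D.Idx K} {Γ : Type*} [Group Γ] {σ : Γ →* C} {ξ : ℕ → K → Γ}
  (E : ExtData (P := P) x θ σ ξ) (hσ : Function.Surjective σ) {y : ℕ → K → Γ}
  (hy : ∀ r < P.nroots, ∀ t, σ (y r t) = x r t)
  (hadd : ∀ r < P.nroots, ∀ t u, y r t * y r u = y r (t + u))
  (heq : ∀ (γ : Γ) (π : ℕ → ℕ) (e : ℕ → K), Mono (P := P) x (σ γ) π e →
      ∀ r < P.nroots, ∀ t, γ * y r t * γ⁻¹ = y (π r) (e r * t))
include E hσ hy hadd heq

theorem y_zero {r : ℕ} (hr : r < P.nroots) : y r (0 : K) = 1 := by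
  have := hadd r hr 0 0
  rw [add_zero] at this
  exact mul_eq_left.1 this

theorem y_inv {r : ℕ} (hr : r < P.nroots) (t : K) : (y r t)⁻¹ = y r (-t) := by
  refine inv_eq_of_mul_eq_one_right ?_
  rw [hadd r hr, add_neg_cancel, y_zero E hσ hy hadd heq hr]

theorem img_rhs {r s : ℕ} (hr : r < P.nroots) (hs : s < P.nroots) (t u : K) :
    σ (rhsW P y r s t u) = rhsW P x r s t u := by
  rw [rhsW, rhsW, map_list_prod, List.map_map]
  exact congrArg List.prod (List.map_congr_left fun c hc => hy _ (E.cov.okD.cterms_lt hr hs c hc) _)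

theorem exists_prodY : ∀ L : List ℕ, L.Pairwise (· < ·) → (∀ r ∈ L, P.isPos r = true) → ClosedL P L →
    (∀ r ∈ L, ∀ s ∈ L, r ≠ s → RelOn P y r s) → ∀ g ∈ genC y (· ∈ L),
    ∃ t : ℕ → K, g = (L.map fun r => y r (t r)).prod
  | [], _, _, _, _, g, hg => by
    have : genC y (· ∈ ([] : List ℕ)) ≤ ⊥ := genC_le y fun r hr => absurd hr List.not_mem_nil
    exact ⟨0, by simpa using this hg⟩
  | a :: L, hsort, hpos, hcl, hrel, g, hg => by
    have H := E.cov
    have hlt : ∀ r ∈ a :: L, r < P.nroots := fun r hr => (P.isPos_iff.1 (hpos r hr)).2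
    have hgt := (List.pairwise_cons.1 hsort).1
    have ha := hlt a List.mem_cons_self
    have key : ∀ u ∈ a :: L, ∀ z ∈ a :: L, ∀ k < P.len u z, P.tgt u z k ∈ L := by
      intro u hu z hz k hk
      refine (List.mem_cons.1 (hcl u hu z hz k hk)).resolve_left fun e => ?_
      obtain ⟨-, h1, -⟩ := H.okD.pos_tgt (hpos u hu) (hpos z hz) hk
      rcases List.mem_cons.1 hu with rfl | hu'
      · omega
      · have := hgt u hu'; omega
    have hnorm : genC y (· = a) ≤ Subgroup.normalizer (genC y (· ∈ L) : Set Γ) := by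
      refine genC_le y fun a' ha' t => ?_
      subst ha'
      have step : ∀ t : K, genC y (· ∈ L) ≤ (genC y (· ∈ L)).comap (MulAut.conj (y a' t)).toMonoidHom := by
        intro t
        refine genC_le y fun s hs u => ?_
        rw [Subgroup.mem_comap, MulEquiv.coe_toMonoidHom, MulAut.conj_apply]
        have hne : a' ≠ s := Nat.ne_of_lt (hgt s hs)
        have e : y a' t * y s u * (y a' t)⁻¹ = y s u * rhsW P y a' s (-t) u := by
          rw [← hrel a' List.mem_cons_self s (List.mem_cons_of_mem _ hs) hne (-t) u,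
            ← y_inv E hσ hy hadd heq ha, cm]
          group
        rw [e]
        refine mul_mem (x_mem_genC y hs _) (list_prod_mem fun z hz => ?_)
        obtain ⟨c, hc, rfl⟩ := List.mem_map.1 hz
        refine x_mem_genC y (S := (· ∈ L)) ?_ _
        exact H.okD.cterms_ind (T := fun c => c ∈ L) ha (hlt s (List.mem_cons_of_mem _ hs))
          (key a' List.mem_cons_self s (List.mem_cons_of_mem _ hs))
          (key s (List.mem_cons_of_mem _ hs) a' List.mem_cons_self)
          (fun b _ hb => key b (List.mem_cons_of_mem _ hb) s (List.mem_cons_of_mem _ hs))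
          (fun b _ hb => key b (List.mem_cons_of_mem _ hb) a' List.mem_cons_self) c hc
      refine Subgroup.mem_normalizer_iff.2 fun z => ⟨fun hz => step t hz, fun hz => ?_⟩
      have h2 := step (-t) hz
      rw [Subgroup.mem_comap, MulEquiv.coe_toMonoidHom, MulAut.conj_apply, ← y_inv E hσ hy hadd heq ha] at h2
      simpa [mul_assoc] using h2
    have hg' : g ∈ genC y (· = a) ⊔ genC y (· ∈ L) := by
      refine genC_le y (fun r hr t => ?_) hg
      rcases List.mem_cons.1 hr with e | hr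
      · exact Subgroup.mem_sup_left (x_mem_genC y (S := (· = a)) e t)
      · exact Subgroup.mem_sup_right (x_mem_genC y hr t)
    rw [← SetLike.mem_coe, Subgroup.coe_mul_of_left_le_normalizer_right _ _ hnorm] at hg'
    obtain ⟨u, hu, z, hz, rfl⟩ := hg'
    have hu' : ∃ t, u = y a t := by
      refine Subgroup.closure_induction (p := fun z _ => ∃ t, z = y a t) ?_
        ⟨0, (y_zero E hσ hy hadd heq ha).symm⟩ ?_ ?_ hu
      · rintro z ⟨r, t, rfl, rfl⟩; exact ⟨t, rfl⟩
      · rintro z z' - - ⟨t, rfl⟩ ⟨t', rfl⟩; exact ⟨t + t', hadd a ha t t'⟩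
      · rintro z - ⟨t, rfl⟩; exact ⟨-t, y_inv E hσ hy hadd heq ha t⟩
    obtain ⟨t, rfl⟩ := hu'
    obtain ⟨f, hf⟩ := exists_prodY L (List.pairwise_cons.1 hsort).2
      (fun r hr => hpos r (List.mem_cons_of_mem _ hr)) (H.okD.closedL_tail hsort hpos hcl)
      (fun r hr s hs => hrel r (List.mem_cons_of_mem _ hr) s (List.mem_cons_of_mem _ hs)) z hz
    refine ⟨Function.update f a t, ?_⟩
    simp only [List.map_cons, List.prod_cons, Function.update_self]
    rw [hf]
    congr 2
    refine List.map_congr_left fun r hr => ?_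
    rw [Function.update_of_ne (Nat.ne_of_gt (hgt r hr))]

theorem injL {L : List ℕ} (hsort : L.Pairwise (· < ·)) (hpos : ∀ r ∈ L, P.isPos r = true) (hcl : ClosedL P L)
    (hrel : ∀ r ∈ L, ∀ s ∈ L, r ≠ s → RelOn P y r s) {g g' : Γ} (hg : g ∈ genC y (· ∈ L))
    (hg' : g' ∈ genC y (· ∈ L)) (e : σ g = σ g') : g = g' := by
  have H := E.cov
  have hlt : ∀ r ∈ L, r < P.nroots := fun r hr => (P.isPos_iff.1 (hpos r hr)).2
  obtain ⟨t, ht⟩ := exists_prodY E hσ hy hadd heq L hsort hpos hcl hrel _ (mul_mem (inv_mem hg) hg')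
  have h1 : θ (σ (g⁻¹ * g')) = 1 := by simp [e]
  have e1 : (L.map fun r => H.okD.xG r (t r)).prod = (L.map fun r => H.okD.xG r (0 : K)).prod := by
    rw [List.prod_eq_one (l := List.map (fun r => H.okD.xG r (0 : K)) L), ← h1, ht, map_list_prod,
      map_list_prod, List.map_map, List.map_map]
    · refine congrArg List.prod (List.map_congr_left fun r hr => ?_)
      simp only [Function.comp_apply]
      rw [hy r (hlt r hr), H.img r (hlt r hr)]
    · intro z hz
      obtain ⟨r, -, rfl⟩ := List.mem_map.1 hz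
      exact H.okD.xG_zero r
  have hone : (L.map fun r => y r (t r)).prod = 1 := by
    refine List.prod_eq_one fun z hz => ?_
    obtain ⟨r, hr, rfl⟩ := List.mem_map.1 hz
    rw [H.okD.prod_unique L hsort hpos t 0 e1 r hr]
    exact y_zero E hσ hy hadd heq (hlt r hr)
  exact inv_mul_eq_one.1 (ht.trans hone)

theorem rel_pos (hsep : Sep P x σ y) {r s : ℕ} (hr : P.isPos r = true) (hs : P.isPos s = true) (hrs : r ≠ s) : RelOn P y r s := by
  have H := E.cov
  let B : ℕ := (Finset.range P.nroots).sup fun r => (P.ht r).toNat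
  suffices ∀ (k : ℕ) (r s : ℕ), P.isPos r = true → P.isPos s = true → r ≠ s →
      (2 * (B : ℤ) + 1 - (P.ht r + P.ht s)).toNat = k → RelOn P y r s from this _ r s hr hs hrs rfl
  intro k
  induction k using Nat.strong_induction_on with
  | _ k ih =>
    intro r s hr hs hrs hk
    have hrn := (P.isPos_iff.1 hr).2
    have hsn := (P.isPos_iff.1 hs).2
    have hB : ∀ q < P.nroots, P.ht q ≤ B := fun q hq => by
      have : (P.ht q).toNat ≤ B := Finset.le_sup (f := fun r => (P.ht r).toNat) (Finset.mem_range.2 hq)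
      omega
    have hr0 := H.okD.ht_pos hr
    have hs0 := H.okD.ht_pos hs
    set N := P.ht r + P.ht s with hN
    set L := (posL P).filter fun q => decide (q = s ∨ N ≤ P.ht q) with hL
    have hmem : ∀ q, q ∈ L ↔ P.isPos q = true ∧ (q = s ∨ N ≤ P.ht q) := fun q => by simp [hL, mem_posL]
    have hsort : L.Pairwise (· < ·) := posL_sorted.filter _
    have hpos : ∀ q ∈ L, P.isPos q = true := fun q hq => ((hmem q).1 hq).1
    have hcl : ClosedL P L := by
      intro a ha b hb j hj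
      obtain ⟨ha1, ha2⟩ := (hmem a).1 ha
      obtain ⟨hb1, hb2⟩ := (hmem b).1 hb
      refine (hmem _).2 ⟨(H.okD.pos_tgt ha1 hb1 hj).1, Or.inr ?_⟩
      have han := (P.isPos_iff.1 ha1).2
      have hbn := (P.isPos_iff.1 hb1).2
      have hne : b ≠ a := (H.okD.range_spec han ((H.okD.mem_keys han).2 ⟨hbn, by omega⟩)).1
      have hap := H.okD.ht_pos ha1
      have hbp := H.okD.ht_pos hb1
      rw [H.okD.ht_tgt han hbn hj]
      rcases ha2 with rfl | ha2
      · rcases hb2 with rfl | hb2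
        · exact absurd rfl hne
        · nlinarith
      · nlinarith
    have hrel : ∀ a ∈ L, ∀ b ∈ L, a ≠ b → RelOn P y a b := by
      intro a ha b hb hab
      obtain ⟨ha1, ha2⟩ := (hmem a).1 ha
      obtain ⟨hb1, hb2⟩ := (hmem b).1 hb
      have hap := H.okD.ht_pos ha1
      have hbp := H.okD.ht_pos hb1
      have hbig : N < P.ht a + P.ht b := by
        rcases ha2 with rfl | ha2
        · rcases hb2 with rfl | hb2
          · exact absurd rfl hab
          · omega
        · omega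
      have h1 := hB a (P.isPos_iff.1 ha1).2
      have h2 := hB b (P.isPos_iff.1 hb1).2
      refine ih _ ?_ a b ha1 hb1 hab rfl
      rw [← hk]
      omega
    have inj := fun {g g' : Γ} => injL E hσ hy hadd heq hsort hpos hcl hrel (g := g) (g' := g')
    have hsr : s ≠ r := Ne.symm hrs
    have hsng : s ≠ P.ng r := by
      intro e
      rw [e, H.okD.ng_pos_iff hrn, hr] at hs
      exact Bool.noConfusion hs
    have hW : ∀ t u, rhsW P y r s t u ∈ genC y (· ∈ L) := by
      intro t u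
      refine list_prod_mem fun z hz => ?_
      obtain ⟨c, hc, rfl⟩ := List.mem_map.1 hz
      obtain ⟨h1, h2⟩ := H.okD.cterms_ht hr hs c hc
      exact x_mem_genC y ((hmem c.1).2 ⟨h1, Or.inr h2⟩) _
    have hys : ∀ u, y s u ∈ genC y (· ∈ L) := fun u => x_mem_genC y (S := (· ∈ L)) ((hmem s).2 ⟨hs, Or.inl rfl⟩) u
    have hσcm : ∀ t u, σ (cm (y s u) (y r t)) = rhsW P x r s t u := by
      intro t u
      simp only [cm, map_mul, map_inv, hy r hrn, hy s hsn]
      exact commC H hrn hsn hsr hsng t u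
    set z : K → K → Γ := fun t u => (rhsW P y r s t u)⁻¹ * cm (y s u) (y r t) with hz
    have hzc : ∀ t u, z t u ∈ Subgroup.center Γ := fun t u => E.central (by
      rw [MonoidHom.mem_ker, hz, map_mul, map_inv, hσcm, img_rhs E hσ hy hadd heq hrn hsn, inv_mul_cancel])
    have hcm : ∀ t u, cm (y s u) (y r t) = rhsW P y r s t u * z t u := fun t u => by rw [hz]; group
    have zadd : ∀ t u u', z t (u + u') = z t u * z t u' := by
      intro t u u'
      have e1 : cm (y s (u + u')) (y r t) =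
          ((y s u')⁻¹ * rhsW P y r s t u * y s u' * rhsW P y r s t u') * (z t u * z t u') := by
        rw [← hadd s hsn, cm_mul_left, hcm t u, hcm t u']
        have c1 := Subgroup.mem_center_iff.1 (hzc t u)
        calc (y s u')⁻¹ * (rhsW P y r s t u * z t u) * y s u' * (rhsW P y r s t u' * z t u')
            = (y s u')⁻¹ * rhsW P y r s t u * (z t u * (y s u' * rhsW P y r s t u')) * z t u' := by group
          _ = _ := by rw [← c1 (y s u' * rhsW P y r s t u')]; group
      have e2 : rhsW P y r s t (u + u') =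
          (y s u')⁻¹ * rhsW P y r s t u * y s u' * rhsW P y r s t u' := by
        refine inj (hW t _) (mul_mem (mul_mem (mul_mem (inv_mem (hys _)) (hW t u)) (hys _)) (hW t u')) ?_
        have h1 := congrArg σ e1
        rw [hσcm, map_mul _ _ (z t u * z t u'), map_mul _ (z t u)] at h1
        have k : ∀ u, σ (z t u) = 1 := fun u => by
          rw [hz, map_mul, map_inv, hσcm, img_rhs E hσ hy hadd heq hrn hsn, inv_mul_cancel]
        rw [img_rhs E hσ hy hadd heq hrn hsn, h1, k, k, one_mul, mul_one]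
      rw [hcm, e2] at e1
      exact mul_left_cancel e1
    rcases hsep r s hrn hsn hsr hsng with done | ⟨γ, χ, hg, h1, h2⟩
    · exact done
    have hm : Mono (P := P) x (σ γ) id χ := ⟨fun q hq => hq, hg, fun _ _ _ _ => rfl, fun q hq => ⟨q, hq, rfl⟩⟩
    have hγ : ∀ q < P.nroots, ∀ v, γ * y q v * γ⁻¹ = y q (χ q * v) := heq γ id χ hm
    have zinv : ∀ t u, z t (χ s * u) = z t u := by
      intro t u
      have e : γ * cm (y s u) (y r t) * γ⁻¹ = cm (y s (χ s * u)) (y r t) := by
        have e1 : γ * cm (y s u) (y r t) * γ⁻¹ = cm (γ * y s u * γ⁻¹) (γ * y r t * γ⁻¹) := by unfold cm; group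
        rw [e1, hγ s hsn, hγ r hrn, h1, one_mul]
      have hin : γ * rhsW P y r s t u * γ⁻¹ ∈ genC y (· ∈ L) := by
        have hle : genC y (· ∈ L) ≤ (genC y (· ∈ L)).comap (MulAut.conj γ).toMonoidHom := genC_le y fun q hq v => by
          show γ * y q v * γ⁻¹ ∈ genC y (· ∈ L)
          rw [hγ q (P.isPos_iff.1 (hpos q hq)).2]
          exact x_mem_genC y (S := (· ∈ L)) hq _
        exact hle (hW t u)
      have hR : γ * rhsW P y r s t u * γ⁻¹ = rhsW P y r s t (χ s * u) := by
        refine inj hin (hW _ _) ?_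
        have := congrArg σ e
        rw [hσcm, map_mul, map_mul, map_inv, hσcm] at this
        rw [img_rhs E hσ hy hadd heq hrn hsn, map_mul, map_mul, map_inv, img_rhs E hσ hy hadd heq hrn hsn, this]
      rw [hcm, hcm, show γ * (rhsW P y r s t u * z t u) * γ⁻¹ = γ * rhsW P y r s t u * (z t u * γ⁻¹) by group,
        ← Subgroup.mem_center_iff.1 (hzc t u) γ⁻¹, ← mul_assoc, hR] at e
      exact (mul_left_cancel e).symm
    intro t u
    have := zinv t (u / (χ s - 1))
    rw [show χ s * (u / (χ s - 1)) = u + u / (χ s - 1) by field_simp [sub_ne_zero.2 h2]; ring, zadd] at this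
    rw [hcm, mul_eq_right.1 this, mul_one]

theorem rel_all (hsep : Sep P x σ y) {r s : ℕ} (hr : r < P.nroots) (hs : s < P.nroots) (hsr : s ≠ r) (hsn : s ≠ P.ng r) :
    RelOn P y r s := by
  have H := E.cov
  obtain ⟨l, hl, hr0, hs0⟩ := exists_word_pos2 H hr hs hsn
  have hlr : WordOk P l.reverse := fun z hz => hl z (List.mem_reverse.1 hz)
  set r0 := wl P l r
  set s0 := wl P l s
  have hr0n := H.okD.wl_lt l hl r hr
  have hs0n := H.okD.wl_lt l hl s hs
  have hne0 : r0 ≠ s0 := fun e0 => hsr (by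
    have := congrArg (wl P l.reverse) e0
    rw [H.okD.wl_reverse l hl r hr, H.okD.wl_reverse l hl s hs] at this
    exact this.symm)
  -- the monomial element
  have hex : ∀ q, ∃ c : ℤ, q < P.nroots → c * c = 1 ∧
      ∀ v : K, nWC P x l * x q v * (nWC P x l)⁻¹ = x (wl P l q) ((c : K) * v) := fun q => by
    by_cases hq : q < P.nroots
    · obtain ⟨c, hc, h1, -⟩ := nWC_conj H l hl q hq
      exact ⟨c, fun _ => ⟨hc, h1⟩⟩
    · exact ⟨1, fun h => absurd h hq⟩
  choose cc hcc using hex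
  obtain ⟨γ, hγ⟩ := hσ (nWC P x l)
  have hm : Mono (P := P) x (σ γ) (wl P l) (fun q => (cc q : K)) := by
    refine ⟨H.okD.wl_lt l hl, fun q hq v => by rw [hγ]; exact (hcc q hq).2 v,
      fun a ha b hb => H.okD.pair_wl l hl a ha b hb, fun q hq => ⟨wl P l.reverse q, H.okD.wl_lt _ hlr q hq, ?_⟩⟩
    have := H.okD.wl_reverse l.reverse hlr q hq
    rwa [List.reverse_reverse] at this
  have hγy := heq γ _ _ hm
  let S : ℕ → Prop := fun q => q < P.nroots ∧ P.isPos (wl P l q) = true
  have hSinj : ∀ g ∈ genC y S, ∀ g' ∈ genC y S, σ g = σ g' → g = g' := by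
    intro g hg g' hg' e
    have hle : genC y S ≤ (genC y (· ∈ posL P)).comap (MulAut.conj γ).toMonoidHom := genC_le y fun q hq v => by
      show γ * y q v * γ⁻¹ ∈ genC y (· ∈ posL P)
      rw [hγy q hq.1]
      exact x_mem_genC y (S := (· ∈ posL P)) (mem_posL.2 hq.2) _
    have := injL E hσ hy hadd heq posL_sorted (fun q => mem_posL.1) H.okD.posL_closed
      (fun a ha b hb hab => rel_pos E hσ hy hadd heq hsep (mem_posL.1 ha) (mem_posL.1 hb) hab) (hle hg) (hle hg')
      (by simp [e])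
    simpa using this
  have hS : ∀ c ∈ P.cterms r s, S c.1 := word_cterms H hl hr hs hr0 hs0
  intro t u
  have hrel0 := rel_pos E hσ hy hadd heq hsep hr0 hs0 hne0 ((cc r : K) * t) ((cc s : K) * u)
  have e1 : γ * cm (y s u) (y r t) * γ⁻¹ = cm (y s0 ((cc s : K) * u)) (y r0 ((cc r : K) * t)) := by
    rw [← hγy s hs, ← hγy r hr]; unfold cm; group
  rw [hrel0] at e1
  have hin : cm (y s u) (y r t) ∈ genC y S := by
    have hy' : ∀ q, S q → ∀ v, y q v ∈ genC y S := fun q hq v => x_mem_genC y hq v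
    exact mul_mem (mul_mem (mul_mem (inv_mem (hy' s ⟨hs, hs0⟩ u)) (inv_mem (hy' r ⟨hr, hr0⟩ t)))
      (hy' s ⟨hs, hs0⟩ u)) (hy' r ⟨hr, hr0⟩ t)
  refine hSinj _ hin _ (list_prod_mem fun z hz => ?_) ?_
  · obtain ⟨c, hc, rfl⟩ := List.mem_map.1 hz
    exact x_mem_genC y (hS c hc) _
  · rw [img_rhs E hσ hy hadd heq hr hs]
    simp only [cm, map_mul, map_inv, hy r hr, hy s hs]
    exact commC H hr hs hsr hsn t u

end Rels

/-- Sections over the canonical lifts. -/
theorem exists_rel_of_gb {D : ChevalleyDatum} {P : Pk} {K : Type*} [Field K] {C : Type*} [Group C]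
    {x : ℕ → K → C} {θ : C →* GL D.Idx K} {Γ : Type*} [Group Γ] {σ : Γ →* C} {ξ : ℕ → K → Γ}
    (B : GB (P := P) x θ σ ξ)
    (hsep : ∀ y : ℕ → K → Γ, (∀ r < P.nroots, ∀ t, σ (y r t) = x r t) → Sep P x σ y) :
    ∃ y : ℕ → K → Γ, Rel P (okAll P) y ∧ ∀ r < P.nroots, ∀ t, σ (y r t) = x r t := by
  obtain ⟨y, hy, hadd, heq⟩ := exists_canonical B
  refine ⟨y, ⟨fun r hr => hadd r (by simpa [okAll] using hr), fun r s hc t u => ?_⟩, hy⟩
  obtain ⟨h2, hsr, hsn⟩ := cOk_iff.1 hc
  obtain ⟨hr, hs⟩ : r < P.nroots ∧ s < P.nroots := by simpa [okAll] using h2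
  exact rel_all B.ext B.surj hy hadd heq (hsep y hy) hr hs hsr hsn t u

/-- Sections, over a field with more than four elements. -/
theorem exists_rel {D : ChevalleyDatum} {P : Pk} {K : Type*} [Field K] {C : Type*} [Group C]
    {x : ℕ → K → C} {θ : C →* GL D.Idx K} {Γ : Type*} [Group Γ] {σ : Γ →* C} {ξ : ℕ → K → Γ}
    (G : GX (P := P) x θ σ ξ) :
    ∃ y : ℕ → K → Γ, Rel P (okAll P) y ∧ ∀ r < P.nroots, ∀ t, σ (y r t) = x r t := by
  refine exists_rel_of_gb G.gb fun y _ r s hr hs hsr hsn => Or.inr ?_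
  obtain ⟨g, χ, -, hg, h1, h2⟩ := exists_sep G hs hr hsr.symm (fun e => hsn (by rw [e, Ok.ng_ng hs]))
  obtain ⟨γ, rfl⟩ := G.surj g
  exact ⟨γ, χ, hg, h1, h2⟩

end Cfsg.Agent.Chev.CT
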