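/-
Perfectness of groups generated by root elements subject to (R1), (R2).
-/
import Cfsg.Agent.Lib.CurtisTits.Cover

set_option autoImplicit false

namespace Cfsg.Agent.Chev.CT

open Cfsg.Agent.Chev Cfsg.Lie
open scoped commutatorElement

/-- Roots moved by some coroot with exponent one. -/
def perfSeed (P : Pk) (tor : Bool) : List ℕ :=
  bif tor then P.allRoots.filter fun r => (List.range P.rank).any fun i => Nat.beq (P.A i r).natAbs 1 else []

/-- Each step exhibits a root from a commutator modulo the roots found before. -/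
def perfStep (P : Pk) : List (ℕ × ℕ × ℕ) → List ℕ → Bool
  | [], L => P.allRoots.all fun r => L.any (Nat.beq r)
  | (k, r, s) :: w, L =>
    Nat.blt r P.nroots && Nat.blt s P.nroots && !(Nat.beq s r) && !(Nat.beq s (P.ng r)) &&
      (match (P.cterms r s).filter fun c => !(L.any (Nat.beq c.1)) with
        | [c] => Nat.beq c.1 k && decide (c.2.1 * c.2.1 = 1) && (Nat.beq c.2.2.1 1 || Nat.beq c.2.2.2 1)
        | _ => false) &&
      perfStep P w (k :: L)

/-- The whole check. -/
def ckPerf (P : Pk) (tor : Bool) (w : List (ℕ × ℕ × ℕ)) : Bool := perfStep P w (perfSeed P tor)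

section Perfect

variable {D : ChevalleyDatum} {P : Pk} {K : Type*} [Field K] {C : Type*} [Group C]
  {x : ℕ → K → C} {θ : C →* GL D.Idx K} (H : Cov D P x θ)
include H

theorem one_unknown (L : List ℕ) (hL : ∀ l ∈ L, ∀ t : K, x l t ∈ commutator C) (f : ℕ × ℤ × ℕ × ℕ → K) :
    ∀ (l : List (ℕ × ℤ × ℕ × ℕ)),
      (l.filter fun c => !(L.any (Nat.beq c.1))).length ≤ 1 →
      (l.map fun c => x c.1 (f c)).prod ∈ commutator C →
      ∀ c ∈ l, x c.1 (f c) ∈ commutator C := by
  intro l
  induction l with
  | nil => intro _ _ c hc; simp at hc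
  | cons a l ih =>
    intro hlen hprod c hc
    rw [List.map_cons, List.prod_cons] at hprod
    by_cases ha : L.any (Nat.beq a.1) = true
    · have hal : x a.1 (f a) ∈ commutator C := by
        simp only [List.any_eq_true, nbeq, decide_eq_true_eq] at ha
        obtain ⟨l', hl', rfl⟩ := ha
        exact hL _ hl' _
      rw [List.filter_cons_of_neg (by simp [ha])] at hlen
      rcases List.mem_cons.1 hc with rfl | hc
      · exact hal
      · exact ih hlen ((Subgroup.mul_mem_cancel_left _ hal).1 hprod) c hc
    · simp only [Bool.not_eq_true] at ha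
      rw [List.filter_cons_of_pos (by simp [ha]), List.length_cons] at hlen
      have hnil : ∀ b ∈ l, x b.1 (f b) ∈ commutator C := by
        intro b hb
        have := List.eq_nil_of_length_eq_zero (by omega : (l.filter fun c => !(L.any (Nat.beq c.1))).length = 0)
        rw [List.filter_eq_nil_iff] at this
        have hb' := this b hb
        simp only [Bool.not_eq_true', Bool.not_eq_false, List.any_eq_true, nbeq, decide_eq_true_eq] at hb'
        obtain ⟨l', hl', e⟩ := hb'
        exact e ▸ hL _ hl' _
      have hrest : (l.map fun c => x c.1 (f c)).prod ∈ commutator C := by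
        refine list_prod_mem fun g hg => ?_
        obtain ⟨b, hb, rfl⟩ := List.mem_map.1 hg
        exact hnil b hb
      rcases List.mem_cons.1 hc with rfl | hc
      · exact (Subgroup.mul_mem_cancel_right _ hrest).1 hprod
      · exact hnil c hc

theorem perfStep_spec : ∀ (w : List (ℕ × ℕ × ℕ)) (L : List ℕ), perfStep P w L = true →
    (∀ l ∈ L, ∀ t : K, x l t ∈ commutator C) → ∀ r < P.nroots, ∀ t : K, x r t ∈ commutator C := by
  intro w
  induction w with
  | nil =>
    intro L h hL r hr t
    simp only [perfStep, List.all_eq_true, Pk.mem_allRoots, List.any_eq_true, nbeq, decide_eq_true_eq] at h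
    obtain ⟨l, hl, rfl⟩ := h r hr
    exact hL _ hl t
  | cons a w ih =>
    obtain ⟨k, r, s⟩ := a
    intro L h hL
    simp only [perfStep, Bool.and_eq_true, Nat.blt_eq, Bool.not_eq_true', nbeq, decide_eq_false_iff_not] at h
    obtain ⟨⟨⟨⟨⟨hr, hs⟩, hsr⟩, hsn⟩, hm⟩, hw⟩ := h
    refine ih _ hw fun l hl t => ?_
    rcases List.mem_cons.1 hl with hlk | hl'
    swap
    · exact hL l hl' t
    subst hlk
    split at hm
    swap
    · simp at hm
    next c heq =>
    simp only [Bool.and_eq_true, Bool.or_eq_true, decide_eq_true_eq] at hm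
    obtain ⟨⟨hck, hc2⟩, hexp⟩ := hm
    have hc : c ∈ P.cterms r s := (List.mem_filter.1 (heq ▸ List.mem_singleton_self c)).1
    have hlen : ((P.cterms r s).filter fun c => !(L.any (Nat.beq c.1))).length ≤ 1 := by
      skip
      rw [heq]; exact le_refl _
    have key : ∀ u v : K, x c.1 ((c.2.1 : K) * (-u) ^ c.2.2.1 * v ^ c.2.2.2) ∈ commutator C := by
      intro u v
      refine one_unknown H L hL (fun c => (c.2.1 : K) * (-u) ^ c.2.2.1 * v ^ c.2.2.2) _ hlen ?_ c hc
      have e := commC H hr hs hsr hsn u v
      rw [rhsW] at e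
      rw [← e, commutator_def,
        show (x s v)⁻¹ * (x r u)⁻¹ * x s v * x r u = ⁅(x s v)⁻¹, (x r u)⁻¹⁆ by
          simp [commutatorElement_def]]
      exact Subgroup.commutator_mem_commutator (Subgroup.mem_top _) (Subgroup.mem_top _)
    have hcast : (c.2.1 : K) * (c.2.1 : K) = 1 := by rw [← Int.cast_mul, hc2, Int.cast_one]
    rw [← hck]
    rcases hexp with e | e
    · have := key (-((c.2.1 : K) * t)) 1
      rwa [e, pow_one, neg_neg, one_pow, mul_one, ← mul_assoc, hcast, one_mul] at this
    · have := key (-1) ((c.2.1 : K) * t)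
      rwa [neg_neg, one_pow, mul_one, e, pow_one, ← mul_assoc, hcast, one_mul] at this

/-- Perfectness. -/
theorem perfect_of_check {tor : Bool} {w : List (ℕ × ℕ × ℕ)} (hck : ckPerf P tor w = true)
    (h3 : tor = true → ∃ c : K, c ≠ 0 ∧ c ≠ 1) : commutator C = ⊤ := by
  refine H.gen _ (perfStep_spec H w _ hck fun l hl t => ?_)
  cases tor with
  | false => simp [perfSeed] at hl
  | true =>
    simp only [perfSeed, cond_true, List.mem_filter, Pk.mem_allRoots, List.any_eq_true, List.mem_range, nbeq,
      decide_eq_true_eq] at hl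
    obtain ⟨hlr, i, hi, hA⟩ := hl
    obtain ⟨c, hc, hc1⟩ := h3 rfl
    set d : K := c ^ P.A i l
    have hd : d - 1 ≠ 0 := by
      refine sub_ne_zero.2 ?_
      rcases Int.natAbs_eq_iff.1 hA with e | e <;> simp only [d, e]
      · simpa using hc1
      · rw [zpow_neg]; simpa using hc1
    set g := hEl P x (P.sim i) c
    set v : K := t / (d - 1)
    have e : ⁅g, x l v⁆ = x l t := by
      rw [commutatorElement_def, h_conj H hi hc hlr, x_invC H hlr, x_addC H hlr]
      congr 1
      show d * v + -v = t
      simp only [v]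
      field_simp
      ring
    rw [← e, commutator_def]
    exact Subgroup.commutator_mem_commutator (Subgroup.mem_top _) (Subgroup.mem_top _)

end Perfect

end Cfsg.Agent.Chev.CT
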