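/-
Witnesses that the groups presented by (R1), (R2) are perfect, and their checks.
-/
import Cfsg.Agent.Lib.CurtisTits.Perfect
import Cfsg.Agent.Lib.Chev.Data.B2
import Cfsg.Agent.Lib.Chev.Data.G2
import Cfsg.Agent.Lib.Chev.Data.D4
import Cfsg.Agent.Lib.Chev.Data.F4
import Cfsg.Agent.Lib.Chev.Data.E6
import Cfsg.Agent.Lib.Chev.Data.E7
import Cfsg.Agent.Lib.Chev.Data.E8

set_option autoImplicit false
set_option Elab.async false
set_option maxRecDepth 100000

namespace Cfsg.Agent.Chev.CT.Perf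

open Cfsg.Agent.Chev

def wB2 : List (ℕ × ℕ × ℕ) :=
  [(3, 0, 5), (4, 0, 6), (0, 1, 4), (7, 3, 6)]

theorem okB2 : ckPerf Cfsg.Agent.Chev.B2.pk true wB2 = true := by decide +kernel

def wG2 : List (ℕ × ℕ × ℕ) :=
  [(6, 0, 8), (5, 0, 10)]

theorem okG2 : ckPerf Cfsg.Agent.Chev.G2.pk true wG2 = true := by decide +kernel

def wD4 : List (ℕ × ℕ × ℕ) :=
  [(1, 0, 14), (2, 0, 15), (3, 0, 16), (4, 0, 17), (6, 0, 19), (7, 0, 20), (8, 0, 21), (9, 0, 22), (0, 1, 9), 
   (5, 1, 17), (10, 1, 20), (11, 1, 21), (14, 1, 23), (12, 2, 22), (15, 2, 23), (13, 3, 22), (16, 3, 23), 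
   (17, 4, 23), (18, 6, 22), (19, 6, 23), (20, 7, 23), (21, 8, 23), (22, 9, 23), (23, 14, 22)]

theorem okD4 : ckPerf Cfsg.Agent.Chev.D4.pk false wD4 = true := by decide +kernel

def wF4 : List (ℕ × ℕ × ℕ) :=
  [(1, 0, 24), (2, 0, 26), (4, 0, 31), (5, 0, 32), (15, 0, 42), (16, 0, 43), (21, 0, 45), (23, 0, 46), (0, 1, 23), 
   (3, 1, 28), (6, 0, 29), (7, 1, 35), (17, 0, 36), (8, 1, 37), (22, 0, 38), (24, 1, 47), (9, 2, 37), (25, 0, 39), 
   (10, 2, 38), (26, 1, 39), (11, 3, 37), (30, 0, 40), (12, 3, 38), (31, 1, 40), (13, 3, 39), (32, 2, 40), 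
   (14, 3, 40), (18, 3, 41), (41, 0, 44), (19, 3, 42), (42, 1, 44), (20, 3, 43), (43, 2, 44), (27, 3, 45), 
   (28, 3, 46), (29, 3, 47), (45, 4, 44), (46, 5, 44), (47, 6, 44), (33, 7, 44), (34, 7, 45), (35, 7, 46), 
   (36, 7, 47), (37, 8, 46), (38, 8, 47), (39, 9, 47), (40, 11, 47), (44, 18, 47)]

theorem okF4 : ckPerf Cfsg.Agent.Chev.F4.pk false wF4 = true := by decide +kernel

def wE6 : List (ℕ × ℕ × ℕ) :=
  [(1, 0, 46), (2, 0, 47), (3, 0, 48), (4, 0, 49), (5, 0, 50), (6, 0, 51), (7, 0, 52), (8, 0, 53), (9, 0, 54), 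
   (10, 0, 55), (16, 0, 61), (17, 0, 62), (18, 0, 63), (19, 0, 64), (20, 0, 65), (21, 0, 66), (22, 0, 67), 
   (23, 0, 68), (24, 0, 69), (25, 0, 70), (0, 1, 25), (11, 1, 53), (12, 1, 54), (13, 1, 55), (26, 1, 64), 
   (27, 1, 65), (28, 1, 66), (30, 1, 67), (31, 1, 68), (32, 1, 69), (46, 1, 71), (14, 2, 55), (29, 2, 66), 
   (33, 2, 67), (34, 2, 68), (39, 2, 70), (47, 2, 71), (35, 3, 67), (37, 3, 69), (40, 3, 70), (48, 3, 71), 
   (36, 4, 68), (38, 4, 69), (41, 4, 70), (49, 4, 71), (15, 5, 55), (42, 5, 69), (43, 5, 70), (50, 5, 71), 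
   (44, 6, 70), (51, 6, 71), (45, 7, 70), (52, 7, 71), (53, 8, 71), (54, 9, 71), (55, 10, 71), (56, 16, 66), 
   (57, 16, 69), (58, 16, 70), (61, 16, 71), (59, 17, 70), (62, 17, 71), (60, 18, 70), (63, 18, 71), (64, 19, 71), 
   (65, 20, 71), (66, 21, 71), (67, 22, 71), (68, 23, 71), (69, 24, 71), (70, 25, 71), (71, 46, 70)]

theorem okE6 : ckPerf Cfsg.Agent.Chev.E6.pk false wE6 = true := by decide +kernel

def wE7 : List (ℕ × ℕ × ℕ) :=
  [(1, 0, 93), (2, 0, 94), (3, 0, 95), (4, 0, 96), (5, 0, 97), (6, 0, 98), (7, 0, 99), (8, 0, 100), (9, 0, 101), 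
   (10, 0, 102), (11, 0, 103), (12, 0, 104), (13, 0, 105), (14, 0, 106), (15, 0, 107), (16, 0, 108), (17, 0, 109), 
   (18, 0, 110), (19, 0, 111), (20, 0, 112), (21, 0, 113), (22, 0, 114), (23, 0, 115), (24, 0, 116), (25, 0, 117), 
   (26, 0, 118), (27, 0, 119), (28, 0, 120), (29, 0, 121), (30, 0, 122), (31, 0, 123), (32, 0, 124), (0, 1, 32), 
   (33, 1, 109), (34, 1, 110), (35, 1, 111), (36, 1, 112), (37, 1, 113), (38, 1, 114), (39, 1, 115), (40, 1, 116), 
   (41, 1, 117), (42, 1, 118), (48, 1, 119), (49, 1, 120), (50, 1, 121), (51, 1, 122), (52, 1, 123), (93, 1, 125), 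
   (43, 2, 115), (44, 2, 116), (45, 2, 117), (46, 2, 118), (53, 2, 119), (54, 2, 120), (55, 2, 121), (56, 2, 122), 
   (73, 2, 124), (94, 2, 125), (47, 3, 118), (57, 3, 119), (58, 3, 120), (59, 3, 121), (69, 3, 123), (74, 3, 124), 
   (95, 3, 125), (60, 4, 119), (61, 4, 120), (66, 4, 122), (70, 4, 123), (75, 4, 124), (96, 4, 125), (62, 5, 119), 
   (64, 5, 121), (67, 5, 122), (71, 5, 123), (76, 5, 124), (97, 5, 125), (63, 6, 120), (65, 6, 121), (68, 6, 122), 
   (72, 6, 123), (77, 6, 124), (98, 6, 125), (78, 7, 122), (79, 7, 123), (83, 7, 124), (99, 7, 125), (80, 8, 123), 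
   (84, 8, 124), (100, 8, 125), (81, 9, 123), (85, 9, 124), (101, 9, 125), (82, 10, 123), (86, 10, 124), 
   (102, 10, 125), (87, 11, 124), (103, 11, 125), (88, 12, 124), (104, 12, 125), (89, 13, 124), (105, 13, 125), 
   (90, 14, 124), (106, 14, 125), (91, 15, 124), (107, 15, 125), (92, 16, 124), (108, 16, 125), (109, 17, 125), 
   (110, 18, 125), (111, 19, 125), (112, 20, 125), (113, 21, 125), (114, 22, 125), (115, 23, 125), (116, 24, 125), 
   (117, 25, 125), (118, 26, 125), (119, 27, 125), (120, 28, 125), (121, 29, 125), (122, 30, 125), (123, 31, 125), 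
   (124, 32, 125), (125, 93, 124)]

theorem okE7 : ckPerf Cfsg.Agent.Chev.E7.pk false wE7 = true := by decide +kernel

def wE8 : List (ℕ × ℕ × ℕ) :=
  [(1, 0, 120), (2, 0, 122), (3, 0, 125), (4, 0, 129), (5, 0, 134), (6, 0, 140), (7, 0, 146), (8, 0, 151), 
   (9, 0, 155), (10, 0, 158), (11, 0, 160), (12, 0, 161), (14, 0, 168), (15, 0, 173), (16, 0, 177), (17, 0, 180), 
   (18, 0, 182), (19, 0, 183), (21, 0, 187), (22, 0, 190), (23, 0, 192), (24, 0, 193), (26, 0, 196), (27, 0, 198), 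
   (28, 0, 199), (30, 0, 201), (31, 0, 202), (33, 0, 203), (36, 0, 206), (37, 0, 208), (38, 0, 209), (40, 0, 211), 
   (41, 0, 212), (43, 0, 213), (46, 0, 215), (47, 0, 216), (49, 0, 217), (52, 0, 218), (56, 0, 220), (57, 0, 221), 
   (59, 0, 222), (62, 0, 223), (66, 0, 224), (71, 0, 225), (78, 0, 227), (79, 0, 228), (81, 0, 229), (84, 0, 230), 
   (88, 0, 231), (93, 0, 232), (99, 0, 233), (105, 0, 234), (110, 0, 235), (114, 0, 236), (117, 0, 237), 
   (119, 0, 238), (0, 1, 119), (13, 1, 161), (20, 1, 183), (25, 1, 193), (29, 1, 199), (32, 1, 202), (34, 1, 203), 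
   (39, 1, 209), (42, 1, 212), (44, 1, 213), (48, 1, 216), (50, 1, 217), (53, 1, 218), (58, 1, 221), (60, 1, 222), 
   (63, 1, 223), (67, 1, 224), (72, 1, 225), (80, 1, 228), (82, 1, 229), (85, 1, 230), (89, 1, 231), (94, 1, 232), 
   (100, 1, 233), (106, 1, 234), (111, 1, 235), (115, 1, 236), (118, 1, 237), (120, 1, 239), (35, 2, 203), 
   (45, 2, 213), (51, 2, 217), (54, 2, 218), (61, 2, 222), (64, 2, 223), (68, 2, 224), (73, 2, 225), (83, 2, 229), 
   (86, 2, 230), (90, 2, 231), (95, 2, 232), (101, 2, 233), (107, 2, 234), (112, 2, 235), (116, 2, 236), 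
   (121, 2, 238), (122, 2, 239), (55, 3, 218), (65, 3, 223), (69, 3, 224), (74, 3, 225), (87, 3, 230), 
   (91, 3, 231), (96, 3, 232), (102, 3, 233), (108, 3, 234), (113, 3, 235), (123, 3, 237), (124, 3, 238), 
   (125, 3, 239), (70, 4, 224), (75, 4, 225), (92, 4, 231), (97, 4, 232), (103, 4, 233), (109, 4, 234), 
   (126, 4, 236), (127, 4, 237), (128, 4, 238), (129, 4, 239), (76, 5, 225), (98, 5, 232), (104, 5, 233), 
   (130, 5, 235), (131, 5, 236), (132, 5, 237), (133, 5, 238), (134, 5, 239), (77, 6, 225), (135, 6, 234), 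
   (136, 6, 235), (137, 6, 236), (138, 6, 237), (139, 6, 238), (140, 6, 239), (141, 7, 234), (142, 7, 235), 
   (143, 7, 236), (144, 7, 237), (145, 7, 238), (146, 7, 239), (147, 8, 235), (148, 8, 236), (149, 8, 237), 
   (150, 8, 238), (151, 8, 239), (152, 9, 236), (153, 9, 237), (154, 9, 238), (155, 9, 239), (156, 10, 237), 
   (157, 10, 238), (158, 10, 239), (159, 11, 238), (160, 11, 239), (161, 12, 239), (162, 14, 233), (163, 14, 234), 
   (164, 14, 235), (165, 14, 236), (166, 14, 237), (167, 14, 238), (168, 14, 239), (169, 15, 235), (170, 15, 236), 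
   (171, 15, 237), (172, 15, 238), (173, 15, 239), (174, 16, 236), (175, 16, 237), (176, 16, 238), (177, 16, 239), 
   (178, 17, 237), (179, 17, 238), (180, 17, 239), (181, 18, 238), (182, 18, 239), (183, 19, 239), (184, 21, 236), 
   (185, 21, 237), (186, 21, 238), (187, 21, 239), (188, 22, 237), (189, 22, 238), (190, 22, 239), (191, 23, 238), 
   (192, 23, 239), (193, 24, 239), (194, 26, 237), (195, 26, 238), (196, 26, 239), (197, 27, 238), (198, 27, 239), 
   (199, 28, 239), (200, 30, 238), (201, 30, 239), (202, 31, 239), (203, 33, 239), (204, 36, 237), (205, 36, 238), 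
   (206, 36, 239), (207, 37, 238), (208, 37, 239), (209, 38, 239), (210, 40, 238), (211, 40, 239), (212, 41, 239), 
   (213, 43, 239), (214, 46, 238), (215, 46, 239), (216, 47, 239), (217, 49, 239), (218, 52, 239), (219, 56, 238), 
   (220, 56, 239), (221, 57, 239), (222, 59, 239), (223, 62, 239), (224, 66, 239), (225, 71, 239), (226, 78, 238), 
   (227, 78, 239), (228, 79, 239), (229, 81, 239), (230, 84, 239), (231, 88, 239), (232, 93, 239), (233, 99, 239), 
   (234, 105, 239), (235, 110, 239), (236, 114, 239), (237, 117, 239), (238, 119, 239), (239, 120, 238)]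

theorem okE8 : ckPerf Cfsg.Agent.Chev.E8.pk false wE8 = true := by decide +kernel

end Cfsg.Agent.Chev.CT.Perf
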