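/-
The group presented by (R1), (R2) is universal for central extensions over a field of more than four elements.
-/
import Cfsg.Agent.Lib.CurtisTits.UniGen
import Cfsg.Agent.S2395

set_option autoImplicit false
set_option linter.unusedSectionVars false
set_option maxHeartbeats 1000000

namespace Cfsg.Agent.Chev.CT

open Cfsg.Agent.Chev Cfsg.Lie
open scoped commutatorElement

theorem ckGen_G2 : ckGen Chev.G2.pk = true := by decide +kernel
theorem ckGen_B2 : ckGen Chev.B2.pk = true := by decide +kernel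
theorem ckGen_D4 : ckGen Chev.D4.pk = true := by decide +kernel
theorem ckGen_F4 : ckGen Chev.F4.pk = true := by decide +kernel
theorem ckGen_E6 : ckGen Chev.E6.pk = true := by decide +kernel
theorem ckGen_E7 : ckGen Chev.E7.pk = true := by decide +kernel
theorem ckGen_E8 : ckGen Chev.E8.pk = true := by decide +kernel

theorem exists_fullGen {D : ChevalleyDatum}
    (hD : D ∈ [chevG2, chevB2, chevD4, chevF4, chevE6, chevE7, chevE8]) :
    ∃ P, Full D P ∧ ckGen P = true := by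
  simp only [List.mem_cons, List.not_mem_nil, or_false] at hD
  rcases hD with rfl | rfl | rfl | rfl | rfl | rfl | rfl
  · exact ⟨_, ⟨Chev.G2.ok, ckComm_G2, UpG2.up_ok, UpG2.eta_sim⟩, ckGen_G2⟩
  · exact ⟨_, ⟨Chev.B2.ok, ckComm_B2, UpB2.up_ok, UpB2.eta_sim⟩, ckGen_B2⟩
  · exact ⟨_, ⟨Chev.D4.ok, ckComm_D4, UpD4.up_ok, UpD4.eta_sim⟩, ckGen_D4⟩
  · exact ⟨_, ⟨Chev.F4.ok, ckComm_F4, UpF4.up_ok, UpF4.eta_sim⟩, ckGen_F4⟩
  · exact ⟨_, ⟨Chev.E6.ok, ckComm_E6, UpE6.up_ok, UpE6.eta_sim⟩, ckGen_E6⟩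
  · exact ⟨_, ⟨Chev.E7.ok, ckComm_E7, UpE7.up_ok, UpE7.eta_sim⟩, ckGen_E7⟩
  · exact ⟨_, ⟨Chev.E8.ok, ckComm_E8, UpE8.up_ok, UpE8.eta_sim⟩, ckGen_E8⟩

theorem exists_ne01_of_big {K : Type*} [Field K] (h5 : ∃ s : Finset K, 4 < s.card) : ∃ x : K, x ≠ 0 ∧ x ≠ 1 := by
  obtain ⟨v, hv, hv1⟩ := exists_pow_ne_one h5 (d := 1) le_rfl (by omega)
  exact ⟨v, hv, by simpa using hv1⟩

section Main

variable {D : ChevalleyDatum} {P : Pk} {K : Type*} [Field K] (h : Full D P)
include h

/-- Elements satisfying (R1), (R2) give a homomorphism from the presented group. -/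
theorem exists_hom_of_rel {Γ : Type*} [Group Γ] {y : ℕ → K → Γ} (hy : Rel P (okAll P) y) :
    ∃ ψ : D.SteinbergCover K →* Γ, ∀ r < P.nroots, ∀ t, ψ (D.scGen K r t) = y r t := by
  set f : FreeGroup (Fin D.nroots × K) →* Γ := FreeGroup.lift fun p => y p.1 p.2
  have hf : ∀ r < P.nroots, ∀ t, f (D.stX r t) = y r t := by
    intro r hr t
    have hr' : r < D.nroots := h.okD.nroots ▸ hr
    simp [f, ChevalleyDatum.stX, hr']
  have hrel : ∀ g ∈ D.steinbergRelsAB K, f g = 1 := by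
    intro g hg
    rcases hg with ⟨r, t, u, hr, rfl⟩ | ⟨r, s, t, u, hr, hs, hsr, hsn, rfl⟩ <;> rw [h.okD.nroots] at hr
    · rw [map_mul, map_mul, map_inv, mul_inv_eq_one, hf r hr, hf r hr, hf r hr]
      exact hy.add r (by simp [okAll, hr]) t u
    · rw [h.okD.nroots] at hs
      rw [h.okD.neg_eq hr] at hsn
      rw [map_mul, map_inv, mul_inv_eq_one, map_commWord h _ hr hs, map_mul, map_mul, map_mul, map_inv,
        map_inv, hf r hr, hf s hs, hy.comm r s (cOk_iff.2 ⟨by simp [okAll, hr, hs], hsr, hsn⟩) t u]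
      refine congrArg List.prod (List.map_congr_left fun c hc => ?_)
      exact (hf _ (h.okD.cterms_lt hr hs c hc) _).symm
  refine ⟨PresentedGroup.toGroup hrel, fun r hr t => ?_⟩
  rw [← hf r hr t]
  rfl

/-- Lifts into central extensions are unique. -/
theorem lift_unique (hperf : commutator (D.SteinbergCover K) = ⊤) {G₁ E : Type*} [Group G₁] [Group E]
    {π₁ : E →* G₁} (hc : π₁.ker ≤ Subgroup.center E) {τ τ' : D.SteinbergCover K →* E}
    (e : π₁.comp τ = π₁.comp τ') : τ = τ' := by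
  have he : ∀ g, π₁ (τ g) = π₁ (τ' g) := fun g => DFunLike.congr_fun e g
  have hle : commutator (D.SteinbergCover K) ≤ τ.eqLocus τ' := by
    rw [commutator_def, Subgroup.commutator_le]
    intro a _ b _
    show τ ⁅a, b⁆ = τ' ⁅a, b⁆
    rw [map_commutatorElement, map_commutatorElement]
    have := cm_congr hc (a := (τ a)⁻¹) (a' := (τ' a)⁻¹) (b := (τ b)⁻¹) (b' := (τ' b)⁻¹)
      (by rw [map_inv, map_inv, he]) (by rw [map_inv, map_inv, he])
    simpa [cm, commutatorElement_def] using this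
  exact MonoidHom.ext fun g => hle (hperf ▸ Subgroup.mem_top g)

/-- Splitting central extensions of the presented group gives unique lifts into central extensions. -/
theorem exists_unique_lift_of_split (hperf : commutator (D.SteinbergCover K) = ⊤) {G₁ E : Type*} [Group G₁]
    [Group E] (π₁ : E →* G₁) (hπ : Function.Surjective π₁) (hc : π₁.ker ≤ Subgroup.center E)
    (σ : D.SteinbergCover K →* G₁)
    (hsplit : ∀ (Γ : Subgroup (D.SteinbergCover K × E)) (p : Γ →* D.SteinbergCover K), Function.Surjective p →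
      p.ker ≤ Subgroup.center Γ →
      ∃ y : ℕ → K → Γ, Rel P (okAll P) y ∧ ∀ r < P.nroots, ∀ t, p (y r t) = D.scGen K r t) :
    ∃! τ : D.SteinbergCover K →* E, π₁.comp τ = σ := by
  set Γ : Subgroup (D.SteinbergCover K × E) :=
    (σ.comp (MonoidHom.fst _ _)).eqLocus (π₁.comp (MonoidHom.snd _ _))
  set p : Γ →* D.SteinbergCover K := (MonoidHom.fst _ _).comp Γ.subtype
  have hp : Function.Surjective p := fun g => by
    obtain ⟨e, he⟩ := hπ (σ g)
    exact ⟨⟨(g, e), he.symm⟩, rfl⟩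
  have hpc : p.ker ≤ Subgroup.center Γ := by
    rintro ⟨⟨g, e⟩, hge⟩ hk
    obtain rfl : g = 1 := hk
    have he : σ 1 = π₁ e := hge
    have hcen := hc (show π₁ e = 1 by rw [← he, map_one])
    rw [Subgroup.mem_center_iff]
    rintro ⟨⟨a, b⟩, hab⟩
    apply Subtype.ext
    exact Prod.ext (by simp) (Subgroup.mem_center_iff.1 hcen b)
  obtain ⟨y, hy, hyl⟩ := hsplit Γ p hp hpc
  obtain ⟨ψ, hψ⟩ := exists_hom_of_rel h hy
  have hid : ∀ g, p (ψ g) = g := by
    intro g
    have := (cov_Sc (K := K) h).gen ((p.comp ψ).eqLocus (MonoidHom.id _)) fun r hr t => by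
      show p (ψ (D.scGen K r t)) = D.scGen K r t
      rw [hψ r hr, hyl r hr]
    exact (this ▸ Subgroup.mem_top g : g ∈ (p.comp ψ).eqLocus (MonoidHom.id _))
  have key : π₁.comp ((MonoidHom.snd _ _).comp (Γ.subtype.comp ψ)) = σ := by
    refine MonoidHom.ext fun g => ?_
    show π₁ (ψ g).1.2 = σ g
    conv_rhs => rw [← hid g]
    exact ((ψ g).2 : σ (ψ g).1.1 = π₁ (ψ g).1.2).symm
  exact ⟨_, key, fun τ hτ => lift_unique h hperf hc (hτ.trans key.symm)⟩

/-- Universality. -/
theorem exists_unique_lift (hck : ckGen P = true) (hperf : commutator (D.SteinbergCover K) = ⊤)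
    (h5 : ∃ s : Finset K, 4 < s.card) {G₁ E : Type*} [Group G₁] [Group E]
    (π₁ : E →* G₁) (hπ : Function.Surjective π₁) (hc : π₁.ker ≤ Subgroup.center E)
    (σ : D.SteinbergCover K →* G₁) : ∃! τ : D.SteinbergCover K →* E, π₁.comp τ = σ := by
  refine exists_unique_lift_of_split h hperf π₁ hπ hc σ fun Γ p hp hpc => ?_
  have hmap : (commutator Γ).map p = ⊤ := by
    rw [commutator_def, Subgroup.map_commutator, ← MonoidHom.range_eq_map, MonoidHom.range_eq_top.2 hp,
      ← commutator_def, hperf]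
  have hlift : ∀ (r : ℕ) (t : K), ∃ z ∈ commutator Γ, p z = D.scGen K r t := fun r t =>
    Subgroup.mem_map.1 (hmap ▸ Subgroup.mem_top _)
  choose ξ hξc hξ using hlift
  have G : GX (P := P) (D.scGen K) (thSc K h) p ξ := ⟨⟨cov_Sc h, hpc, hξ⟩, hp, hξc, h5, hck⟩
  exact exists_rel G

end Main

end Cfsg.Agent.Chev.CT
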