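/-
The map from the group presented by (R1), (R2) onto the Chevalley group.
-/
import Cfsg.Agent.Lib.CurtisTits.Present

set_option autoImplicit false

namespace Cfsg.Agent.Chev.CT

open Cfsg.Agent.Chev Cfsg.Lie

variable {D : ChevalleyDatum} {P : Pk} {K : Type*} [Field K] (h : Full D P)
include h

theorem thSc_range : (thSc K h).range = D.group K := by
  refine le_antisymm ?_ (h.okD.group_le fun r hr t => ⟨_, thSc_gen h hr t⟩)
  rw [MonoidHom.range_eq_map, ← (cov_Sc (K := K) h).gen
    ((D.group K).comap (thSc K h)) fun r hr t => ?_]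
  · exact Subgroup.map_comap_le _ _
  · rw [Subgroup.mem_comap, thSc_gen h hr]; exact h.okD.mem_group_of_xG r t

/-- The projection is a central extension. -/
theorem exists_cover_proj : ∃ θ : D.SteinbergCover K →* ↥(D.group K), Function.Surjective θ ∧
    θ.ker ≤ Subgroup.center (D.SteinbergCover K) ∧
    ∀ (r : ℕ) (t : K), r < D.nroots →
      ((θ (D.scGen K r t) : GL D.Idx K) : Matrix D.Idx D.Idx K) = D.x K r t := by
  refine ⟨(thSc K h).codRestrict (D.group K) fun g => thSc_range (K := K) h ▸ ⟨g, rfl⟩, fun g => ?_,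
    fun g hg => ?_, fun r t hr => ?_⟩
  · have : (g : GL D.Idx K) ∈ (thSc K h).range := by rw [thSc_range h]; exact g.2
    obtain ⟨a, ha⟩ := this
    exact ⟨a, Subtype.ext ha⟩
  · rw [MonoidHom.mem_ker, ← Subtype.val_inj] at hg
    exact (ker_spec (cov_Sc h) hg).2
  · show (thSc K h (D.scGen K r t) : Matrix D.Idx D.Idx K) = _
    rw [thSc_gen h (h.okD.nroots ▸ hr), h.okD.coe_xG]

end Cfsg.Agent.Chev.CT
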