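/-
Kernel checks for minuscule representations of E6 and E7.
-/
import Cfsg.Agent.Lib.Chev.Comm

set_option autoImplicit false

namespace Cfsg.Agent.Chev.CT

open Cfsg.Agent.Chev

/-- A signed partial map on weights, one per root: byte `v` is `0` or `2 w + [negative] + 1`. -/
structure MinData where
  dim : ℕ
  tab : List ℕ

/-- The packed row of a root. -/
def MinData.row (M : MinData) (r : ℕ) : ℕ := M.tab.getD r 0

/-- The image of a weight. -/
def appR (row v : ℕ) : Option (ℕ × ℤ) :=
  match (row >>> (8 * v)) &&& 255 with
  | 0 => none
  | b + 1 => some (b >>> 1, bif Nat.beq (b &&& 1) 0 then 1 else -1)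

/-- Composition: `R` after `S`. -/
def app2 (R S v : ℕ) : Option (ℕ × ℤ) :=
  match appR S v with
  | none => none
  | some (w, e) => match appR R w with
    | none => none
    | some (z, f) => some (z, e * f)

/-- Composition of three. -/
def app3 (R S T v : ℕ) : Option (ℕ × ℤ) :=
  match appR T v with
  | none => none
  | some (w, e) => match app2 R S w with
    | none => none
    | some (z, f) => some (z, e * f)

/-- Coefficient at `w`. -/
def ocf (o : Option (ℕ × ℤ)) (w : ℕ) : ℤ :=
  match o with
  | none => 0
  | some (z, e) => bif Nat.beq z w then e else 0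

/-- The targets of a value. -/
def otg (o : Option (ℕ × ℤ)) : List ℕ :=
  match o with
  | none => []
  | some (z, _) => [z]

/-- A pair satisfies the commutator formula at one weight. -/
def ckCommAt (R S Q : ℕ) (c : ℤ) (v : ℕ) : Bool :=
  (app3 R S R v).isNone &&
    let a := app2 S R v
    let b := app2 R S v
    let q := appR Q v
    (otg a ++ otg b ++ otg q).all fun w => decide (ocf a w - ocf b w = -(c * ocf q w))

variable (P : Pk) (M : MinData)

/-- The conditions at a pair of roots. -/
def ckMinP (r s : ℕ) : Bool :=
  bif Nat.beq s r || Nat.beq s (P.ng r) then true else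
  match P.cterms r s with
  | [] => (List.range M.dim).all (ckCommAt (M.row r) (M.row s) 0 0)
  | [(q, c, 1, 1)] => (List.range M.dim).all (ckCommAt (M.row r) (M.row s) (M.row q) c)
  | _ => false

/-- The conditions at one root. -/
def ckMinR (r : ℕ) : Bool :=
  ((List.range M.dim).all fun v =>
    (app2 (M.row r) (M.row r) v).isNone && (otg (appR (M.row r) v)).all fun w => Nat.blt w M.dim) &&
  P.allRoots.all fun s => ckMinP P M r s

/-- The weight of `v` at the fundamental root `i`. -/
def wtM (i v : ℕ) : ℤ :=
  bif (app2 (M.row (P.sim i)) (M.row (P.ng (P.sim i))) v).isSome then 1 else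
  bif (app2 (M.row (P.ng (P.sim i))) (M.row (P.sim i)) v).isSome then -1 else 0

/-- The conditions at the torus. -/
def ckMinT : Bool :=
  (List.range P.rank).all fun i => (List.range M.dim).all fun v =>
    let R := M.row (P.sim i)
    let S := M.row (P.ng (P.sim i))
    let a := app2 R S v
    let b := app2 S R v
    (match a with | none => true | some (w, e) => Nat.beq w v && decide (e = 1) && b.isNone) &&
    (match b with | none => true | some (w, e) => Nat.beq w v && decide (e = 1)) &&
    decide (app3 R S R v = appR R v) && decide (app3 S R S v = appR S v)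

/-- Some weights generate all integer vectors. -/
def ckMinW (sel : List ℕ) (inv : List (List ℤ)) : Bool :=
  sel.all (fun v => Nat.blt v M.dim) &&
  (List.range P.rank).all fun m => (List.range P.rank).all fun j =>
    decide (((List.range P.rank).map fun a => (inv.getD m []).getD a 0 * wtM P M j (sel.getD a 0)).sum =
      if j = m then 1 else 0)

/-- The description of the centre by the characters at the fundamental roots. -/
def ckMinZ (d m0 : ℕ) (ev : List ℕ) (cf : List (List ℤ)) (dcol : List ℤ) : Bool :=
  Nat.blt m0 P.rank && Nat.beq (ev.getD m0 0) 1 &&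
  ((List.range P.rank).all fun m => (List.range P.rank).all fun j =>
    decide (((List.range P.rank).map fun c => (cf.getD m []).getD c 0 * P.A j (P.sim c)).sum =
      (if j = m then 1 else 0) - (if j = m0 then (ev.getD m 0 : ℤ) else 0))) &&
  ((List.range P.rank).all fun j =>
    decide (((List.range P.rank).map fun c => dcol.getD c 0 * P.A j (P.sim c)).sum = if j = m0 then (d : ℤ) else 0)) &&
  ((List.range P.rank).all fun c =>
    decide ((((List.range P.rank).map fun j => P.A j (P.sim c) * (ev.getD j 0 : ℤ)).sum) % (d : ℤ) = 0))

end Cfsg.Agent.Chev.CT
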