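/-
The centre of Steinberg's group over a finite field, from a faithful representation of its torus.
-/
import Cfsg.Agent.Lib.CurtisTits.MinCheck
import Cfsg.Agent.Lib.CurtisTits.Present

set_option autoImplicit false
set_option linter.unusedSectionVars false
set_option linter.unusedSimpArgs false
set_option maxHeartbeats 1000000

namespace Cfsg.Agent.Chev.CT

open Cfsg.Agent.Chev Cfsg.Lie

variable {D : ChevalleyDatum} {P : Pk} {K : Type*} [Field K]

theorem ocf_cast {n : ℕ} (o : Option (ℕ × ℤ)) (w : Fin n) :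
    (ocf o w : K) = match o with | none => 0 | some (z, e) => if z = (w : ℕ) then (e : K) else 0 := by
  rcases o with _ | ⟨z, e⟩
  · simp [ocf]
  · by_cases h : z = (w : ℕ) <;> simp [ocf, nbeq, h]

theorem appR_zero (v : ℕ) : appR 0 v = none := by simp [appR]

/-- The matrix of a packed row. -/
def matR (K : Type*) [Field K] (n row : ℕ) : Matrix (Fin n) (Fin n) K :=
  Matrix.of fun w v => (ocf (appR row v) w : K)

theorem matR_zero (n : ℕ) : matR K n 0 = 0 := by
  ext w v; simp [matR, appR_zero, ocf]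

theorem matR_mul {n R S : ℕ} (hS : ∀ v < n, ∀ w ∈ otg (appR S v), w < n) (w v : Fin n) :
    (matR K n R * matR K n S) w v = (ocf (app2 R S v) w : K) := by
  rw [Matrix.mul_apply]
  have h := hS v v.2
  rcases e : appR S v with _ | ⟨z, f⟩
  · simp [matR, app2, e, ocf]
  rw [e] at h
  have hz : z < n := h z (by simp [otg])
  rw [Finset.sum_eq_single (⟨z, hz⟩ : Fin n)]
  · simp only [matR, Matrix.of_apply, app2, e]
    rcases e2 : appR R z with _ | ⟨z', f'⟩
    · simp [ocf]
    · by_cases h' : z' = (w : ℕ) <;> simp [ocf, nbeq, h', mul_comm]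
  · intro b _ hb
    have : ¬ z = (b : ℕ) := fun e' => hb (Fin.ext e'.symm)
    simp [matR, e, ocf, nbeq, this]
  · simp

theorem matR_mul3 {n R S T : ℕ} (hS : ∀ v < n, ∀ w ∈ otg (appR S v), w < n)
    (hT : ∀ v < n, ∀ w ∈ otg (appR T v), w < n) (w v : Fin n) :
    (matR K n R * matR K n S * matR K n T) w v = (ocf (app3 R S T v) w : K) := by
  rw [Matrix.mul_apply]
  have h := hT v v.2
  rcases e : appR T v with _ | ⟨z, f⟩
  · simp [matR, app3, e, ocf]
  rw [e] at h
  have hz : z < n := h z (by simp [otg])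
  rw [Finset.sum_eq_single (⟨z, hz⟩ : Fin n)]
  · rw [matR_mul hS]
    simp only [matR, Matrix.of_apply, app3, e]
    rcases e2 : app2 R S z with _ | ⟨z', f'⟩
    · simp [ocf]
    · by_cases h' : z' = (w : ℕ) <;> simp [ocf, nbeq, h', mul_comm]
  · intro b _ hb
    have : ¬ z = (b : ℕ) := fun e' => hb (Fin.ext e'.symm)
    simp [matR, e, ocf, nbeq, this]
  · simp

/-- The checks hold. -/
structure MinOk (P : Pk) (M : MinData) : Prop where
  root : ∀ r < P.nroots, ckMinR P M r = true
  tor : ckMinT P M = true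

/-- The root matrix. -/
def mM (K : Type*) [Field K] (M : MinData) (r : ℕ) : Matrix (Fin M.dim) (Fin M.dim) K :=
  matR K M.dim (M.row r)

section Rep

variable {M : MinData} (hM : MinOk P M)
include hM

theorem min_lt {r : ℕ} (hr : r < P.nroots) : ∀ v < M.dim, ∀ w ∈ otg (appR (M.row r) v), w < M.dim := by
  intro v hv w hw
  have h := hM.root r hr
  simp only [ckMinR, Bool.and_eq_true, List.all_eq_true, List.mem_range, Nat.blt_eq] at h
  exact (h.1 v hv).2 w hw

theorem mM_sq {r : ℕ} (hr : r < P.nroots) : mM K M r * mM K M r = 0 := by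
  ext w v
  rw [mM, matR_mul (min_lt hM hr)]
  have h := hM.root r hr
  simp only [ckMinR, Bool.and_eq_true, List.all_eq_true, List.mem_range, Option.isNone_iff_eq_none] at h
  simp [(h.1 v v.2).1, ocf]

theorem ckCommAt_spec {n R S Q : ℕ} {c : ℤ} (h : ∀ v < n, ckCommAt R S Q c v = true)
    (hR : ∀ v < n, ∀ w ∈ otg (appR R v), w < n) (hS : ∀ v < n, ∀ w ∈ otg (appR S v), w < n) :
    matR K n R * matR K n S * matR K n R = 0 ∧
      matR K n S * matR K n R = matR K n R * matR K n S + (-(c : K)) • matR K n Q := by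
  constructor
  · ext w v
    have h' := h v v.2
    simp only [ckCommAt, Bool.and_eq_true, Option.isNone_iff_eq_none] at h'
    rw [matR_mul3 hS hR, h'.1]
    simp [ocf]
  · ext w v
    have h' := h v v.2
    simp only [ckCommAt, Bool.and_eq_true, List.all_eq_true, decide_eq_true_eq, List.mem_append] at h'
    rw [Matrix.add_apply, matR_mul hR, matR_mul hS, Matrix.smul_apply]
    show _ = _ + (-(c : K)) * (ocf (appR Q v) w : K)
    have e : ocf (app2 S R v) w - ocf (app2 R S v) w = -(c * ocf (appR Q v) w) := by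
      by_cases hw : ((w : ℕ) ∈ otg (app2 S R v) ∨ (w : ℕ) ∈ otg (app2 R S v)) ∨ (w : ℕ) ∈ otg (appR Q v)
      · exact h'.2 w hw
      · simp only [not_or] at hw
        have hz : ∀ o : Option (ℕ × ℤ), (w : ℕ) ∉ otg o → ocf o w = 0 := by
          rintro (_ | ⟨z, f⟩) ho
          · rfl
          · simp only [otg, List.mem_singleton] at ho
            have : ¬ z = (w : ℕ) := fun e => ho e.symm
            simp [ocf, nbeq, this]
        rw [hz _ hw.1.1, hz _ hw.1.2, hz _ hw.2]; simp
    have e' := congrArg (fun z : ℤ => (z : K)) e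
    push_cast at e'
    linear_combination e'

theorem pair_spec {r s : ℕ} (hr : r < P.nroots) (hs : s < P.nroots) (hsr : s ≠ r) (hsn : s ≠ P.ng r) :
    mM K M r * mM K M s * mM K M r = 0 ∧
    ((P.cterms r s = [] ∧ mM K M s * mM K M r = mM K M r * mM K M s) ∨
      ∃ q c, P.cterms r s = [(q, c, 1, 1)] ∧ mM K M s * mM K M r = mM K M r * mM K M s + (-(c : K)) • mM K M q) := by
  have h := hM.root r hr
  simp only [ckMinR, Bool.and_eq_true, List.all_eq_true, Pk.mem_allRoots] at h
  have h' := h.2 s hs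
  have e0 : (Nat.beq s r || Nat.beq s (P.ng r)) = false := by simp [nbeq, hsr, hsn]
  rw [ckMinP, e0, cond_false] at h'
  split at h'
  · next heq =>
    simp only [List.all_eq_true, List.mem_range] at h'
    obtain ⟨h1, h2⟩ := ckCommAt_spec (K := K) hM h' (min_lt hM hr) (min_lt hM hs)
    refine ⟨h1, Or.inl ⟨heq, ?_⟩⟩
    rw [matR_zero, smul_zero, add_zero] at h2
    exact h2
  · next q c heq =>
    simp only [List.all_eq_true, List.mem_range] at h'
    obtain ⟨h1, h2⟩ := ckCommAt_spec (K := K) hM h' (min_lt hM hr) (min_lt hM hs)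
    exact ⟨h1, Or.inr ⟨q, c, heq, h2⟩⟩
  · simp at h'

/-- The root element as a unit. -/
def mY (t : K) {r : ℕ} (hr : r < P.nroots) : GL (Fin M.dim) K :=
  ⟨1 + t • mM K M r, 1 + (-t) • mM K M r,
    by simp [add_mul, mul_add, smul_mul_assoc, mul_smul_comm, mM_sq hM hr],
    by simp [add_mul, mul_add, smul_mul_assoc, mul_smul_comm, mM_sq hM hr]⟩

/-- The root elements, total. -/
def mX (r : ℕ) (t : K) : GL (Fin M.dim) K := if hr : r < P.nroots then mY hM t hr else 1

theorem mX_val {r : ℕ} (hr : r < P.nroots) (t : K) :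
    ((mX hM r t : GL (Fin M.dim) K) : Matrix (Fin M.dim) (Fin M.dim) K) = 1 + t • mM K M r := by
  simp [mX, hr, mY]

theorem mX_inv {r : ℕ} (hr : r < P.nroots) (t : K) :
    (((mX hM r t)⁻¹ : GL (Fin M.dim) K) : Matrix (Fin M.dim) (Fin M.dim) K) = 1 + (-t) • mM K M r := by
  simp [mX, hr, mY]

theorem mX_rel (h : Full D P) : Rel P (okAll P) (mX (K := K) hM) := by
  refine ⟨fun r hr t u => ?_, fun r s hc t u => ?_⟩
  · have hr : r < P.nroots := by simpa [okAll] using hr
    apply Units.ext
    rw [Units.val_mul, mX_val hM hr, mX_val hM hr, mX_val hM hr]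
    simp only [add_mul, mul_add, one_mul, mul_one, smul_mul_assoc, mul_smul_comm, mM_sq hM hr, smul_zero, add_zero]
    module
  · obtain ⟨h2, hsr, hsn⟩ := cOk_iff.1 hc
    obtain ⟨hr, hs⟩ : r < P.nroots ∧ s < P.nroots := by simpa [okAll] using h2
    have hrn : r ≠ P.ng s := fun e => hsn (by rw [e, Ok.ng_ng hs])
    obtain ⟨hRSR, hform⟩ := pair_spec (K := K) hM hr hs hsr hsn
    have hSRS := (pair_spec (K := K) hM hs hr hsr.symm hrn).1
    set R := mM K M r
    set S := mM K M s
    have hRR : R * R = 0 := mM_sq hM hr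
    have hSS : S * S = 0 := mM_sq hM hs
    apply Units.ext
    rw [Units.val_mul, Units.val_mul, Units.val_mul, mX_inv hM hs, mX_inv hM hr, mX_val hM hs, mX_val hM hr]
    have z1 : ∀ X, R * (R * X) = 0 := fun X => by rw [← mul_assoc, hRR, zero_mul]
    have z2 : ∀ X, S * (S * X) = 0 := fun X => by rw [← mul_assoc, hSS, zero_mul]
    have z3 : R * (S * R) = 0 := by rw [← mul_assoc, hRSR]
    have z4 : S * (R * S) = 0 := by rw [← mul_assoc, hSRS]
    have z5 : ∀ X, R * (S * (R * X)) = 0 := fun X => by rw [← mul_assoc, ← mul_assoc, hRSR, zero_mul]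
    have z6 : ∀ X, S * (R * (S * X)) = 0 := fun X => by rw [← mul_assoc, ← mul_assoc, hSRS, zero_mul]
    have hl : (1 + (-u) • S) * (1 + (-t) • R) * (1 + u • S) * (1 + t • R) = 1 + (t * u) • (S * R - R * S) := by
      simp only [add_mul, mul_add, one_mul, mul_one, smul_mul_assoc, mul_smul_comm, mul_assoc, smul_smul,
        hRR, hSS, z1, z2, z3, z4, z5, z6, mul_zero, zero_mul, smul_zero, add_zero, zero_add]
      module
    rw [hl]
    rcases hform with ⟨hct, hcomm⟩ | ⟨q, c, hct, hcomm⟩
    · rw [rhsW, hct, hcomm, sub_self, smul_zero, add_zero]; simp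
    · have hq : q < P.nroots := h.okD.cterms_lt hr hs (q, c, 1, 1) (by rw [hct]; simp)
      rw [rhsW, hct, hcomm, add_sub_cancel_left]
      simp only [List.map_cons, List.map_nil, List.prod_cons, List.prod_nil, mul_one, pow_one, mX_val hM hq,
        smul_smul]
      congr 2
      ring

/-- The value at the torus. -/
theorem mX_hEl (h : Full D P) {i : ℕ} (hi : i < P.rank) {t : K} (ht : t ≠ 0) :
    ((hEl P (mX hM) (P.sim i) t : GL (Fin M.dim) K) : Matrix (Fin M.dim) (Fin M.dim) K) =
      Matrix.diagonal fun v : Fin M.dim => t ^ wtM P M i v := by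
  have hr : P.sim i < P.nroots := h.okD.sim_lt hi
  have hn : P.ng (P.sim i) < P.nroots := Ok.ng_lt hr
  have hT := hM.tor
  simp only [ckMinT, List.all_eq_true, List.mem_range, Bool.and_eq_true, decide_eq_true_eq] at hT
  set R := mM K M (P.sim i) with hRdef
  set S := mM K M (P.ng (P.sim i)) with hSdef
  have hRR : R * R = 0 := mM_sq hM hr
  have hSS : S * S = 0 := mM_sq hM hn
  have hRSR : R * S * R = R := by
    ext w v
    rw [hRdef, hSdef, mM, mM, matR_mul3 (min_lt hM hn) (min_lt hM hr), (hT i hi v v.2).1.2]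
    rfl
  have hSRS : S * R * S = S := by
    ext w v
    rw [hRdef, hSdef, mM, mM, matR_mul3 (min_lt hM hr) (min_lt hM hn), (hT i hi v v.2).2]
    rfl
  have z1 : ∀ X, R * (R * X) = 0 := fun X => by rw [← mul_assoc, hRR, zero_mul]
  have z2 : ∀ X, S * (S * X) = 0 := fun X => by rw [← mul_assoc, hSS, zero_mul]
  have z3 : R * (S * R) = R := by rw [← mul_assoc, hRSR]
  have z4 : S * (R * S) = S := by rw [← mul_assoc, hSRS]
  have z5 : ∀ X, R * (S * (R * X)) = R * X := fun X => by rw [← mul_assoc, ← mul_assoc, hRSR]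
  have z6 : ∀ X, S * (R * (S * X)) = S * X := fun X => by rw [← mul_assoc, ← mul_assoc, hSRS]
  have hnv : ∀ a : K, a ≠ 0 → ((nEl P (mX hM) (P.sim i) a : GL (Fin M.dim) K) : Matrix _ _ K) =
      1 - R * S - S * R + a • R - a⁻¹ • S := by
    intro a ha
    rw [nEl, Units.val_mul, Units.val_mul, mX_val hM hr, mX_val hM hn]
    simp only [← hRdef, ← hSdef, add_mul, mul_add, one_mul, mul_one, smul_mul_assoc, mul_smul_comm, mul_assoc,
      smul_smul, hRR, z3, smul_zero, add_zero, neg_mul, mul_neg, neg_smul, inv_mul_cancel₀ ha,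
      mul_inv_cancel₀ ha, one_smul]
    match_scalars <;> field_simp <;> ring
  have hprod : ((hEl P (mX hM) (P.sim i) t : GL (Fin M.dim) K) : Matrix _ _ K) =
      1 + (t - 1) • (R * S) + (t⁻¹ - 1) • (S * R) := by
    rw [hEl, Units.val_mul, hnv t ht, hnv (-1) (neg_ne_zero.2 one_ne_zero), inv_neg, inv_one]
    simp only [sub_eq_add_neg, add_mul, mul_add, neg_mul, mul_neg, neg_neg, one_mul, mul_one, smul_mul_assoc,
      mul_smul_comm, mul_assoc, smul_smul, hRR, hSS, z1, z2, z3, z4, z5, z6, mul_zero, zero_mul, smul_zero, add_zero, zero_add,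
      neg_zero, neg_smul, one_smul]
    module
  rw [hprod]
  ext w v
  have hA := matR_mul (K := K) (R := M.row (P.sim i)) (min_lt hM hn) w v
  have hB := matR_mul (K := K) (R := M.row (P.ng (P.sim i))) (min_lt hM hr) w v
  simp only [Matrix.add_apply, Matrix.smul_apply, smul_eq_mul, hRdef, hSdef, mM]
  rw [hA, hB]
  obtain ⟨⟨⟨ha, hb⟩, -⟩, -⟩ := hT i hi v v.2
  unfold wtM
  rcases ea : app2 (M.row (P.sim i)) (M.row (P.ng (P.sim i))) v with _ | ⟨z, e⟩ <;>
  rcases eb : app2 (M.row (P.ng (P.sim i))) (M.row (P.sim i)) v with _ | ⟨z', e'⟩ <;>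
  rw [ea, eb] at ha <;> rw [eb] at hb <;>
  simp only [Option.isNone_none, Option.isNone_some, Bool.and_eq_true, nbeq, decide_eq_true_eq,
    Bool.false_eq_true, and_false] at ha hb
  · by_cases hwv : w = v <;> simp [ocf, ea, eb, hwv, Matrix.one_apply, Matrix.diagonal_apply]
  · obtain ⟨rfl, rfl⟩ := hb
    by_cases hwv : w = v
    · subst hwv; simp [ocf, nbeq, ea, eb]
    · have : ¬ (v : ℕ) = (w : ℕ) := fun e => hwv (Fin.ext e.symm)
      simp [ocf, nbeq, Matrix.one_apply, hwv, this, Matrix.diagonal_apply]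
  · obtain ⟨⟨rfl, rfl⟩, -⟩ := ha
    by_cases hwv : w = v
    · subst hwv; simp [ocf, nbeq, ea, eb]
    · have : ¬ (v : ℕ) = (w : ℕ) := fun e => hwv (Fin.ext e.symm)
      simp [ocf, nbeq, Matrix.one_apply, hwv, this, Matrix.diagonal_apply]

end Rep

theorem exists_rep [Finite K] (h : Full D P) {M : MinData} (hM : MinOk P M) :
    ∃ ρ : D.SteinbergGroup K →* GL (Fin M.dim) K, ∀ r < P.nroots, ∀ t, ρ (D.stGen K r t) = mX hM r t := by
  set y := mX (K := K) hM
  have hy := mX_rel (K := K) hM h
  set f : FreeGroup (Fin D.nroots × K) →* GL (Fin M.dim) K := FreeGroup.lift fun p => y p.1 p.2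
  have hf : ∀ r < P.nroots, ∀ t, f (D.stX r t) = y r t := by
    intro r hr t
    have hr' : r < D.nroots := h.okD.nroots ▸ hr
    simp [f, ChevalleyDatum.stX, hr']
  have hrel : ∀ g ∈ D.steinbergRelsAB K, f g = 1 := by
    intro g hg
    rcases hg with ⟨r, t, u, hr, rfl⟩ | ⟨r, s, t, u, hr, hs, hsr, hsn, rfl⟩ <;> rw [h.okD.nroots] at hr
    · rw [map_mul, map_mul, map_inv, mul_inv_eq_one, hf r hr, hf r hr, hf r hr]
      exact hy.add r (by simp [okAll, hr]) t u
    · rw [h.okD.nroots] at hs
      rw [h.okD.neg_eq hr] at hsn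
      rw [map_mul, map_inv, mul_inv_eq_one, map_commWord h _ hr hs, map_mul, map_mul, map_mul, map_inv,
        map_inv, hf r hr, hf s hs, hy.comm r s (cOk_iff.2 ⟨by simp [okAll, hr, hs], hsr, hsn⟩) t u]
      refine congrArg List.prod (List.map_congr_left fun c hc => ?_)
      exact (hf _ (h.okD.cterms_lt hr hs c hc) _).symm
  obtain ⟨e, he⟩ := exists_sc_iso (K := K) h
  refine ⟨(PresentedGroup.toGroup hrel).comp e.symm.toMonoidHom, fun r hr t => ?_⟩
  rw [MonoidHom.comp_apply, MulEquiv.coe_toMonoidHom, ← he, e.symm_apply_apply, ← hf r hr]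
  rfl

theorem map_hEl {G H : Type*} [Group G] [Group H] (ρ : G →* H) (x : ℕ → K → G) (y : ℕ → K → H) {r : ℕ}
    (h1 : ∀ t, ρ (x r t) = y r t) (h2 : ∀ t, ρ (x (P.ng r) t) = y (P.ng r) t) (t : K) :
    ρ (hEl P x r t) = hEl P y r t := by
  simp [hEl, nEl, map_mul, h1, h2]

theorem x_param_eq {C : Type*} [Group C] {x : ℕ → K → C} {θ : C →* GL D.Idx K} (H : Cov D P x θ) {r : ℕ}
    (hr : r < P.nroots) {a b : K} (e : x r a = x r b) : a = b := by
  have e' := congrArg θ e
  rw [H.img r hr, H.img r hr] at e'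
  exact H.okD.xG_inj_param hr e'

theorem sum_range_list (n : ℕ) (f : ℕ → ℤ) :
    ((List.range n).map f).sum = ∑ i : Fin n, f i := by
  rw [← List.sum_toFinset _ List.nodup_range, List.toFinset_range, Finset.sum_range]

/-- The centre of Steinberg's group. -/
theorem card_center [Finite K] (h : Full D P) {M : MinData} (hM : MinOk P M) {sel : List ℕ} {inv : List (List ℤ)}
    (hW : ckMinW P M sel inv = true) (hlen : sel.length = P.rank) {d m0 : ℕ} {ev : List ℕ} {cf : List (List ℤ)} {dcol : List ℤ}
    (hZ : ckMinZ P d m0 ev cf dcol = true) :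
    Nat.card (Subgroup.center (D.SteinbergGroup K)) = Nat.gcd d (Nat.card Kˣ) := by
  classical
  have H := cov_St (K := K) h
  obtain ⟨ρ, hρ⟩ := exists_rep (K := K) h hM
  obtain ⟨f, hrange, himg, hsing⟩ := exists_torHom (K := K) h
  simp only [ckMinW, Bool.and_eq_true, List.all_eq_true, List.mem_range, decide_eq_true_eq, Nat.blt_eq] at hW
  simp only [ckMinZ, Bool.and_eq_true, List.all_eq_true, List.mem_range, decide_eq_true_eq, Nat.blt_eq, nbeq] at hZ
  obtain ⟨⟨⟨⟨hm0, hev0⟩, hcf⟩, hdcol⟩, hev⟩ := hZ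
  -- the image of the torus is diagonal
  have hdiag : ∀ c : Fin P.rank → Kˣ, ((ρ (f c) : GL (Fin M.dim) K) : Matrix _ _ K) =
      Matrix.diagonal fun v : Fin M.dim => ∏ i : Fin P.rank, (c i : K) ^ wtM P M i v := by
    intro c
    let d : Fin P.rank → Kˣ →* (Fin M.dim → K) := fun i =>
      { toFun := fun t v => (t : K) ^ wtM P M i v
        map_one' := by funext v; simp
        map_mul' := fun a b => by funext v; simp [mul_zpow] }
    let g : (Fin P.rank → Kˣ) →* Matrix (Fin M.dim) (Fin M.dim) K :=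
      { toFun := fun c => Matrix.diagonal fun v : Fin M.dim => ∏ i : Fin P.rank, (c i : K) ^ wtM P M i v
        map_one' := by simp
        map_mul' := fun a b => by
          rw [Matrix.diagonal_mul_diagonal]; congr 1; funext v
          rw [← Finset.prod_mul_distrib]; simp [mul_zpow] }
    have e : (Units.coeHom _).comp (ρ.comp f) = g := by
      refine MonoidHom.pi_ext fun i t => ?_
      show (ρ (f (Pi.mulSingle i t))).val = _
      have hp := h.okD.sim_lt i.isLt
      rw [hsing, map_hEl ρ _ (mX hM) (fun t => hρ _ hp t) (fun t => hρ _ (Ok.ng_lt hp) t),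
        mX_hEl hM h i.isLt t.ne_zero]
      show _ = Matrix.diagonal fun v : Fin M.dim =>
        ∏ j : Fin P.rank, ((Pi.mulSingle i t : Fin P.rank → Kˣ) j : K) ^ wtM P M j v
      congr 1; funext v
      rw [Finset.prod_eq_single i (fun j _ hj => by simp [Pi.mulSingle_eq_of_ne hj]) (by simp),
        Pi.mulSingle_eq_same]
    exact DFunLike.congr_fun e c
  have hinj : Function.Injective f := by
    refine (injective_iff_map_eq_one f).2 fun c hc => ?_
    have hd := hdiag c
    rw [hc, map_one, Units.val_one, ← Matrix.diagonal_one] at hd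
    have hv := fun v => congrFun (Matrix.diagonal_injective hd) v
    funext m
    apply Units.ext
    have e1 : ∏ a : Fin P.rank, (∏ j : Fin P.rank, (c j : K) ^ wtM P M j (sel.getD a 0)) ^
        ((inv.getD m []).getD a 0) = 1 := by
      refine Finset.prod_eq_one fun a _ => ?_
      have hs : sel.getD a 0 < M.dim := by
        rw [List.getD_eq_getElem _ _ (by omega)]
        exact hW.1 _ (List.getElem_mem _)
      rw [← hv ⟨_, hs⟩]
      simp
    simp only [← Finset.prod_zpow, ← zpow_mul] at e1
    rw [Finset.prod_comm] at e1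
    have hj : ∀ j : Fin P.rank, ∏ a : Fin P.rank,
        (c j : K) ^ (wtM P M j (sel.getD a 0) * (inv.getD m []).getD a 0) =
          (c j : K) ^ (if (j : ℕ) = m then 1 else 0 : ℤ) := by
      intro j
      rw [← hW.2 m m.2 j j.2, sum_range_list, prod_zpow (c j).ne_zero]
      simp only [mul_comm]
    simp only [hj] at e1
    rw [Finset.prod_eq_single m (fun j _ hne => by rw [if_neg (fun e' => hne (Fin.ext e')), zpow_zero])
      (fun hn => absurd (Finset.mem_univ m) hn), if_pos rfl, zpow_one] at e1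
    simpa using e1
  -- characters at the fundamental roots
  have hchi : ∀ (c : Fin P.rank → Kˣ) (k : ℕ), k < P.rank → ∀ u,
      f c * D.stGen K (P.sim k) u * (f c)⁻¹ =
        D.stGen K (P.sim k) ((∏ j : Fin P.rank, (c j : K) ^ P.A j (P.sim k)) * u) := by
    intro c k hk u
    have hp := h.okD.sim_lt hk
    have hmem : f c ∈ torC P (D.stGen K) := by
      rw [← Finset.univ_prod_mulSingle c]
      refine Subgroup.mem_comap.1 (prod_mem (S := Subgroup.comap f (torC P (D.stGen K))) fun i _ => ?_)
      rw [Subgroup.mem_comap, hsing]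
      exact hEl_mem_torC i.isLt (c i).ne_zero
    obtain ⟨a, -, ha, -⟩ := tor_scalar H hmem _ hp
    rw [ha]
    congr 1
    have e := h.okD.hHom_xG c hp (1 : K)
    rw [← himg, MonoidHom.comp_apply, ← thSt_gen h hp, ← map_inv, ← map_mul, ← map_mul, ha,
      thSt_gen h hp] at e
    have := h.okD.xG_inj_param hp e
    simp only [mul_one] at this
    rw [this]; rfl
  have hcen : ∀ c, f c ∈ Subgroup.center (D.SteinbergGroup K) ↔
      ∀ k : Fin P.rank, ∏ j : Fin P.rank, (c j : K) ^ P.A j (P.sim k) = 1 := by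
    intro c
    constructor
    · intro hc k
      have e := hchi c k k.2 (1 : K)
      rw [← Subgroup.mem_center_iff.1 hc, mul_inv_cancel_right, mul_one] at e
      exact (x_param_eq H (h.okD.sim_lt k.isLt) e).symm
    · intro hk
      have hmem : f c ∈ torC P (D.stGen K) := by
        rw [← Finset.univ_prod_mulSingle c]
        refine Subgroup.mem_comap.1 (prod_mem (S := Subgroup.comap f (torC P (D.stGen K))) fun i _ => ?_)
        rw [Subgroup.mem_comap, hsing]
        exact hEl_mem_torC i.isLt (c i).ne_zero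
      have hsim : ∀ k < P.rank, (∀ u, Commute (f c) (D.stGen K (P.sim k) u)) ∧
          ∀ u, Commute (f c) (D.stGen K (P.ng (P.sim k)) u) := by
        intro k hk'
        have hp := h.okD.sim_lt hk'
        obtain ⟨a, -, ha, ha'⟩ := tor_scalar H hmem _ hp
        have e := hchi c k hk' (1 : K)
        rw [hk ⟨k, hk'⟩, one_mul, ha, mul_one] at e
        have a1 : a = 1 := x_param_eq H hp e
        subst a1
        exact ⟨fun u => mul_inv_eq_iff_eq_mul.1 (by rw [ha, one_mul]),
          fun u => mul_inv_eq_iff_eq_mul.1 (by rw [ha', inv_one, one_mul])⟩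
      have hall : ∀ r < P.nroots, ∀ u, Commute (f c) (D.stGen K r u) := by
        refine h.okD.root_induction (Q := fun r => ∀ u, Commute (f c) (D.stGen K r u))
          (fun k hk' => (hsim k hk').1) fun i hi r hr IH u => ?_
        have hn : Commute (f c) (nS P (D.stGen K) i) := by
          obtain ⟨a1, a2⟩ := hsim i hi
          exact ((a1 _).mul_right (a2 _)).mul_right (a1 _)
        have e := up_all H hi hr ((P.eta i r : K) * u)
        rw [← mul_assoc, show (P.eta i r : K) * (P.eta i r : K) = 1 from cast_sq (eta_sq _ _), one_mul] at e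
        rw [← e]
        exact (hn.mul_right (IH _)).mul_right hn.inv_right
      rw [Subgroup.mem_center_iff]
      have htop := H.gen (Subgroup.centralizer {f c}) fun r hr u =>
        Subgroup.mem_centralizer_singleton_iff.2 (hall r hr u).symm
      intro g
      exact (Subgroup.mem_centralizer_singleton_iff.1 (htop ▸ Subgroup.mem_top g))
  -- the equivalence
  let ι : (powMonoidHom d : Kˣ →* Kˣ).ker → Subgroup.center (D.SteinbergGroup K) := fun z =>
    ⟨f fun j => (z : Kˣ) ^ ev.getD j 0, (hcen _).2 fun k => by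
      have hz : (z : Kˣ) ^ d = 1 := z.2
      have := hev k k.2
      rw [sum_range_list] at this
      obtain ⟨q, hq⟩ := Int.dvd_of_emod_eq_zero this
      have e : ∀ j : Fin P.rank, (((z : Kˣ) ^ ev.getD j 0 : Kˣ) : K) ^ P.A j (P.sim k) =
          ((z : Kˣ) : K) ^ (P.A j (P.sim k) * (ev.getD j 0 : ℤ)) := fun j => by
        rw [Units.val_pow_eq_pow_val, ← zpow_natCast, ← zpow_mul, mul_comm]
      simp only [e]
      rw [prod_zpow (z : Kˣ).ne_zero, hq, zpow_mul, zpow_natCast, ← Units.val_pow_eq_pow_val, hz,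
        Units.val_one, one_zpow]⟩
  have hbij : Function.Bijective ι := by
    constructor
    · intro z z' e
      have := congrFun (hinj (congrArg Subtype.val e)) ⟨m0, hm0⟩
      simp only [hev0, pow_one] at this
      exact Subtype.ext this
    · rintro ⟨g, hg⟩
      have hker := ker_spec H (center_le_ker H hg)
      obtain ⟨c, rfl⟩ := hrange hker.1
      have hk := (hcen c).1 hg
      have key : ∀ (x : List ℤ), ∏ j : Fin P.rank,
          (c j : K) ^ ((List.range P.rank).map fun k => x.getD k 0 * P.A j (P.sim k)).sum = 1 := by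
        intro x
        have e1 : ∏ k : Fin P.rank, (∏ j : Fin P.rank, (c j : K) ^ P.A j (P.sim k)) ^ (x.getD k 0) = 1 :=
          Finset.prod_eq_one fun k _ => by rw [hk k, one_zpow]
        simp only [← Finset.prod_zpow, ← zpow_mul] at e1
        rw [Finset.prod_comm] at e1
        rw [← e1]
        refine Finset.prod_congr rfl fun j _ => ?_
        rw [sum_range_list, prod_zpow (c j).ne_zero]
        simp only [mul_comm]
      have hd : (c ⟨m0, hm0⟩) ^ d = 1 := by
        have e := key dcol
        simp only [fun j : Fin P.rank => hdcol j j.2] at e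
        rw [Finset.prod_eq_single (⟨m0, hm0⟩ : Fin P.rank)
          (fun j _ hne => by rw [if_neg (fun e' => hne (Fin.ext e')), zpow_zero]) (by simp), if_pos rfl,
          zpow_natCast] at e
        exact Units.ext (by rw [Units.val_pow_eq_pow_val, e]; rfl)
      refine ⟨⟨c ⟨m0, hm0⟩, hd⟩, Subtype.ext (congrArg f (funext fun m => ?_))⟩
      have e := key (cf.getD m [])
      simp only [fun j : Fin P.rank => hcf m m.2 j j.2, zpow_sub₀ (Units.ne_zero _), Finset.prod_div_distrib] at e
      rw [Finset.prod_eq_single m (fun j _ hne => by rw [if_neg (fun e' => hne (Fin.ext e')), zpow_zero]) (by simp),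
        Finset.prod_eq_single (⟨m0, hm0⟩ : Fin P.rank)
          (fun j _ hne => by rw [if_neg (fun e' => hne (Fin.ext e')), zpow_zero]) (by simp),
        if_pos rfl, if_pos rfl, zpow_one, zpow_natCast, div_eq_one_iff_eq (pow_ne_zero _ (Units.ne_zero _))] at e
      exact Units.ext (by rw [Units.val_pow_eq_pow_val]; exact e.symm)
  rw [← Nat.card_eq_of_bijective ι hbij, IsCyclic.card_powMonoidHom_ker, Nat.gcd_comm]

end Cfsg.Agent.Chev.CT
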