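/- Kernel checks for the minuscule representation of E6, part 0. -/
import Cfsg.Agent.Lib.CurtisTits.MinDataE6
import Cfsg.Agent.Lib.Chev.Data.E6

set_option autoImplicit false
set_option Elab.async false

namespace Cfsg.Agent.Chev.CT.MinE6

open Cfsg.Agent.Chev

theorem part0c0 : ((List.range 18).all fun r => ckMinR Cfsg.Agent.Chev.E6.pk md (0 + r)) = true := by
  decide +kernel

theorem part0c1 : ((List.range 18).all fun r => ckMinR Cfsg.Agent.Chev.E6.pk md (18 + r)) = true := by
  decide +kernel

theorem part0c2 : ((List.range 18).all fun r => ckMinR Cfsg.Agent.Chev.E6.pk md (36 + r)) = true := by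
  decide +kernel

theorem part0c3 : ((List.range 18).all fun r => ckMinR Cfsg.Agent.Chev.E6.pk md (54 + r)) = true := by
  decide +kernel

theorem part0 : ((List.range 72).all fun r => ckMinR Cfsg.Agent.Chev.E6.pk md (0 + r)) = true := by
  rw [List.all_eq_true]
  intro r hr
  have hr : r < 72 := List.mem_range.1 hr
  by_cases h0 : r < 18
  · have := List.all_eq_true.1 part0c0 (r - 0) (List.mem_range.2 (by omega))
    rwa [show 0 + (r - 0) = 0 + r by omega] at this
  by_cases h1 : r < 36
  · have := List.all_eq_true.1 part0c1 (r - 18) (List.mem_range.2 (by omega))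
    rwa [show 18 + (r - 18) = 0 + r by omega] at this
  by_cases h2 : r < 54
  · have := List.all_eq_true.1 part0c2 (r - 36) (List.mem_range.2 (by omega))
    rwa [show 36 + (r - 36) = 0 + r by omega] at this
  by_cases h3 : r < 72
  · have := List.all_eq_true.1 part0c3 (r - 54) (List.mem_range.2 (by omega))
    rwa [show 54 + (r - 54) = 0 + r by omega] at this
  omega

end Cfsg.Agent.Chev.CT.MinE6
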