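/- Kernel checks for the minuscule representation of E6. -/
import Cfsg.Agent.Lib.CurtisTits.MinCheckE60

set_option autoImplicit false
set_option Elab.async false

namespace Cfsg.Agent.Chev.CT.MinE6

open Cfsg.Agent.Chev

theorem rootOk : ∀ r < 72, ckMinR Cfsg.Agent.Chev.E6.pk md r = true := by
  intro r hr
  by_cases h0 : r < 72
  · have := List.all_eq_true.1 part0 (r - 0) (List.mem_range.2 (by omega))
    rwa [show 0 + (r - 0) = r by omega] at this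
  omega

theorem torOk : ckMinT Cfsg.Agent.Chev.E6.pk md = true := by decide +kernel

theorem wtOk : ckMinW Cfsg.Agent.Chev.E6.pk md [2, 3, 4, 8, 18, 24] [[0, 0, 1, 0, 1, -1], [0, 1, 0, 0, 0, -1], [-1, 1, 1, 0, 0, -2], [0, 1, 1, 0, 0, -2], [0, 1, 1, 0, 0, -1], [1, 0, 0, 1, 0, 0]] = true := by decide +kernel

theorem zOk : ckMinZ Cfsg.Agent.Chev.E6.pk 3 0 [1, 0, 2, 0, 1, 2] [[0, 0, 0, 0, 0, 0], [1, 2, 2, 3, 2, 1], [-1, 0, 0, 0, 0, 0], [2, 3, 4, 6, 4, 2], [0, 1, 1, 2, 2, 1], [-2, -1, -2, -2, -1, 0]] [4, 3, 5, 6, 4, 2] = true := by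
  decide +kernel

end Cfsg.Agent.Chev.CT.MinE6
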