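/- Kernel checks for the minuscule representation of E7, part 0. -/
import Cfsg.Agent.Lib.CurtisTits.MinDataE7
import Cfsg.Agent.Lib.Chev.Data.E7

set_option autoImplicit false
set_option Elab.async false

namespace Cfsg.Agent.Chev.CT.MinE7

open Cfsg.Agent.Chev

theorem part0c0 : ((List.range 6).all fun r => ckMinR Cfsg.Agent.Chev.E7.pk md (0 + r)) = true := by
  decide +kernel

theorem part0c1 : ((List.range 6).all fun r => ckMinR Cfsg.Agent.Chev.E7.pk md (6 + r)) = true := by
  decide +kernel

theorem part0c2 : ((List.range 6).all fun r => ckMinR Cfsg.Agent.Chev.E7.pk md (12 + r)) = true := by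
  decide +kernel

theorem part0c3 : ((List.range 6).all fun r => ckMinR Cfsg.Agent.Chev.E7.pk md (18 + r)) = true := by
  decide +kernel

theorem part0c4 : ((List.range 6).all fun r => ckMinR Cfsg.Agent.Chev.E7.pk md (24 + r)) = true := by
  decide +kernel

theorem part0c5 : ((List.range 6).all fun r => ckMinR Cfsg.Agent.Chev.E7.pk md (30 + r)) = true := by
  decide +kernel

theorem part0c6 : ((List.range 6).all fun r => ckMinR Cfsg.Agent.Chev.E7.pk md (36 + r)) = true := by
  decide +kernel

theorem part0 : ((List.range 42).all fun r => ckMinR Cfsg.Agent.Chev.E7.pk md (0 + r)) = true := by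
  rw [List.all_eq_true]
  intro r hr
  have hr : r < 42 := List.mem_range.1 hr
  by_cases h0 : r < 6
  · have := List.all_eq_true.1 part0c0 (r - 0) (List.mem_range.2 (by omega))
    rwa [show 0 + (r - 0) = 0 + r by omega] at this
  by_cases h1 : r < 12
  · have := List.all_eq_true.1 part0c1 (r - 6) (List.mem_range.2 (by omega))
    rwa [show 6 + (r - 6) = 0 + r by omega] at this
  by_cases h2 : r < 18
  · have := List.all_eq_true.1 part0c2 (r - 12) (List.mem_range.2 (by omega))
    rwa [show 12 + (r - 12) = 0 + r by omega] at this
  by_cases h3 : r < 24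
  · have := List.all_eq_true.1 part0c3 (r - 18) (List.mem_range.2 (by omega))
    rwa [show 18 + (r - 18) = 0 + r by omega] at this
  by_cases h4 : r < 30
  · have := List.all_eq_true.1 part0c4 (r - 24) (List.mem_range.2 (by omega))
    rwa [show 24 + (r - 24) = 0 + r by omega] at this
  by_cases h5 : r < 36
  · have := List.all_eq_true.1 part0c5 (r - 30) (List.mem_range.2 (by omega))
    rwa [show 30 + (r - 30) = 0 + r by omega] at this
  by_cases h6 : r < 42
  · have := List.all_eq_true.1 part0c6 (r - 36) (List.mem_range.2 (by omega))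
    rwa [show 36 + (r - 36) = 0 + r by omega] at this
  omega

end Cfsg.Agent.Chev.CT.MinE7
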