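/- Kernel checks for the minuscule representation of E7, part 1. -/
import Cfsg.Agent.Lib.CurtisTits.MinDataE7
import Cfsg.Agent.Lib.Chev.Data.E7

set_option autoImplicit false
set_option Elab.async false

namespace Cfsg.Agent.Chev.CT.MinE7

open Cfsg.Agent.Chev

theorem part1c0 : ((List.range 6).all fun r => ckMinR Cfsg.Agent.Chev.E7.pk md (42 + r)) = true := by
  decide +kernel

theorem part1c1 : ((List.range 6).all fun r => ckMinR Cfsg.Agent.Chev.E7.pk md (48 + r)) = true := by
  decide +kernel

theorem part1c2 : ((List.range 6).all fun r => ckMinR Cfsg.Agent.Chev.E7.pk md (54 + r)) = true := by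
  decide +kernel

theorem part1c3 : ((List.range 6).all fun r => ckMinR Cfsg.Agent.Chev.E7.pk md (60 + r)) = true := by
  decide +kernel

theorem part1c4 : ((List.range 6).all fun r => ckMinR Cfsg.Agent.Chev.E7.pk md (66 + r)) = true := by
  decide +kernel

theorem part1c5 : ((List.range 6).all fun r => ckMinR Cfsg.Agent.Chev.E7.pk md (72 + r)) = true := by
  decide +kernel

theorem part1c6 : ((List.range 6).all fun r => ckMinR Cfsg.Agent.Chev.E7.pk md (78 + r)) = true := by
  decide +kernel

theorem part1 : ((List.range 42).all fun r => ckMinR Cfsg.Agent.Chev.E7.pk md (42 + r)) = true := by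
  rw [List.all_eq_true]
  intro r hr
  have hr : r < 42 := List.mem_range.1 hr
  by_cases h0 : r < 6
  · have := List.all_eq_true.1 part1c0 (r - 0) (List.mem_range.2 (by omega))
    rwa [show 42 + (r - 0) = 42 + r by omega] at this
  by_cases h1 : r < 12
  · have := List.all_eq_true.1 part1c1 (r - 6) (List.mem_range.2 (by omega))
    rwa [show 48 + (r - 6) = 42 + r by omega] at this
  by_cases h2 : r < 18
  · have := List.all_eq_true.1 part1c2 (r - 12) (List.mem_range.2 (by omega))
    rwa [show 54 + (r - 12) = 42 + r by omega] at this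
  by_cases h3 : r < 24
  · have := List.all_eq_true.1 part1c3 (r - 18) (List.mem_range.2 (by omega))
    rwa [show 60 + (r - 18) = 42 + r by omega] at this
  by_cases h4 : r < 30
  · have := List.all_eq_true.1 part1c4 (r - 24) (List.mem_range.2 (by omega))
    rwa [show 66 + (r - 24) = 42 + r by omega] at this
  by_cases h5 : r < 36
  · have := List.all_eq_true.1 part1c5 (r - 30) (List.mem_range.2 (by omega))
    rwa [show 72 + (r - 30) = 42 + r by omega] at this
  by_cases h6 : r < 42
  · have := List.all_eq_true.1 part1c6 (r - 36) (List.mem_range.2 (by omega))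
    rwa [show 78 + (r - 36) = 42 + r by omega] at this
  omega

end Cfsg.Agent.Chev.CT.MinE7
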