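/- Kernel checks for the minuscule representation of E7. -/
import Cfsg.Agent.Lib.CurtisTits.MinCheckE70
import Cfsg.Agent.Lib.CurtisTits.MinCheckE71
import Cfsg.Agent.Lib.CurtisTits.MinCheckE72

set_option autoImplicit false
set_option Elab.async false

namespace Cfsg.Agent.Chev.CT.MinE7

open Cfsg.Agent.Chev

theorem rootOk : ∀ r < 126, ckMinR Cfsg.Agent.Chev.E7.pk md r = true := by
  intro r hr
  by_cases h0 : r < 42
  · have := List.all_eq_true.1 part0 (r - 0) (List.mem_range.2 (by omega))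
    rwa [show 0 + (r - 0) = r by omega] at this
  by_cases h1 : r < 84
  · have := List.all_eq_true.1 part1 (r - 42) (List.mem_range.2 (by omega))
    rwa [show 42 + (r - 42) = r by omega] at this
  by_cases h2 : r < 126
  · have := List.all_eq_true.1 part2 (r - 84) (List.mem_range.2 (by omega))
    rwa [show 84 + (r - 84) = r by omega] at this
  omega

theorem torOk : ckMinT Cfsg.Agent.Chev.E7.pk md = true := by decide +kernel

theorem wtOk : ckMinW Cfsg.Agent.Chev.E7.pk md [12, 19, 27, 32, 42, 45, 54] [[1, -1, 0, -1, 0, 0, -1], [1, -1, 0, -2, 0, 1, -2], [0, -1, -1, -2, 1, 0, -3], [1, -2, -1, -3, 0, 1, -4], [0, -1, -1, -2, 0, 0, -3], [0, 0, -1, -1, 0, 0, -2], [0, 0, -1, -1, 0, 0, -1]] = true := by decide +kernel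

theorem zOk : ckMinZ Cfsg.Agent.Chev.E7.pk 2 1 [0, 1, 0, 0, 1, 0, 1] [[2, 2, 3, 4, 3, 2, 1], [0, 0, 0, 0, 0, 0, 0], [3, 4, 6, 8, 6, 4, 2], [4, 6, 8, 12, 9, 6, 3], [1, 1, 2, 3, 3, 2, 1], [2, 3, 4, 6, 5, 4, 2], [-1, -2, -2, -3, -2, -1, 0]] [4, 7, 8, 12, 9, 6, 3] = true := by
  decide +kernel

end Cfsg.Agent.Chev.CT.MinE7
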