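/-
Schur multipliers of Chevalley groups from the splitting of central extensions of the presented group.
-/
import Cfsg.Agent.Lib.CurtisTits.UniGenMain
import Cfsg.Agent.Lib.CurtisTits.UniExt
import Cfsg.Agent.Lib.CurtisTits.CoverMap
import Cfsg.Prelude.Def_KGroupFacts

set_option autoImplicit false
set_option linter.unusedSectionVars false
set_option maxHeartbeats 1000000

namespace Cfsg.Agent.Chev.CT

open Cfsg.Agent.Chev Cfsg.Lie

universe u v

/-- A perfect central extension into which every stem extension lifts computes the multiplier. -/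
theorem hasSchur_of_cover {G C : Type u} [Group G] [Group C] [Finite C] (θ : C →* G)
    (hθ : Function.Surjective θ) (hz : θ.ker ≤ Subgroup.center C) (hperf : commutator C = ⊤)
    (hlift : ∀ (Γ : Type u) [Group Γ] [Finite Γ] (σ : Γ →* G), Function.Surjective σ →
      σ.ker ≤ Subgroup.center Γ → ∃ τ : C →* Γ, σ.comp τ = θ)
    {A : Type v} [CommGroup A] (e : θ.ker ≃* A) : HasSchurMultiplier G A := by
  refine ⟨⟨C, inferInstance, inferInstance, θ, ⟨hθ, hz, by rw [hperf]; exact le_top⟩, ⟨e⟩⟩, fun Γ _ _ σ hσ => ?_⟩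
  obtain ⟨hsur, hcen, hcom⟩ := hσ
  obtain ⟨τ, hτ⟩ := hlift Γ σ hsur hcen
  have hτ' : ∀ g, σ (τ g) = θ g := fun g => DFunLike.congr_fun hτ g
  have hsup : ∀ a : Γ, ∃ c : C, σ a = σ (τ c) := fun a => by
    obtain ⟨c, hc⟩ := hθ (σ a)
    exact ⟨c, by rw [hτ', hc]⟩
  have hle : commutator Γ ≤ τ.range := by
    rw [commutator_def, Subgroup.commutator_le]
    intro a _ b _
    obtain ⟨c, hc⟩ := hsup a
    obtain ⟨d, hd⟩ := hsup b
    refine ⟨c * d * c⁻¹ * d⁻¹, ?_⟩
    have := cm_congr hcen (a := a⁻¹) (a' := (τ c)⁻¹) (b := b⁻¹) (b' := (τ d)⁻¹)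
      (by rw [map_inv, map_inv, hc]) (by rw [map_inv, map_inv, hd])
    simpa [cm, commutatorElement_def] using this.symm
  let f : θ.ker →* σ.ker := (τ.comp θ.ker.subtype).codRestrict σ.ker fun c => by
    show σ (τ (c : C)) = 1
    rw [hτ']
    exact MonoidHom.mem_ker.1 c.2
  refine ⟨f.comp e.symm.toMonoidHom, fun z => ?_⟩
  obtain ⟨c, hc⟩ := hle (hcom z.2)
  have hcK : θ c = 1 := by rw [← hτ', hc]; exact MonoidHom.mem_ker.1 z.2
  exact ⟨e ⟨c, hcK⟩, Subtype.ext (by simp [f, hc])⟩

theorem cyclic_mulEquiv {A : Type*} [Group A] [Finite A] {d : ℕ} (h : Nat.card A = d)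
    (hd : d = 1 ∨ d.Prime) : Nonempty (A ≃* Multiplicative (ZMod d)) := by
  haveI : IsCyclic A := by
    rcases hd with rfl | hd
    · haveI : Subsingleton A := (Nat.card_eq_one_iff_unique.1 h).1
      infer_instance
    · haveI : Fact d.Prime := ⟨hd⟩
      exact isCyclic_of_prime_card h
  subst h
  exact ⟨(zmodCyclicMulEquiv ‹IsCyclic A›).symm⟩

variable {D : ChevalleyDatum} {P : Pk} {K : Type u} [Field K] [Finite K] (h : Full D P)
include h

/-- The multiplier of the Chevalley group is the centre of the presented group. -/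
theorem schur_chev (hperf : commutator (D.SteinbergCover K) = ⊤)
    (hlift : ∀ (E : Type u) [Group E] (π₁ : E →* D.group K), Function.Surjective π₁ →
      π₁.ker ≤ Subgroup.center E → ∀ σ : D.SteinbergCover K →* D.group K, ∃! τ, π₁.comp τ = σ)
    {d : ℕ} (hd : d = 1 ∨ d.Prime) (hcard : Nat.card (Subgroup.center (D.SteinbergGroup K)) = d) :
    HasCyclicSchurMultiplier ↥(D.group K) d := by
  obtain ⟨θ, hsur, hker, -⟩ := exists_cover_proj (K := K) h
  obtain ⟨i, -⟩ := exists_sc_iso (K := K) h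
  haveI := finite_St (K := K) h
  haveI : Finite (D.SteinbergCover K) := Finite.of_equiv _ i.symm.toEquiv
  have hk : θ.ker = Subgroup.center (D.SteinbergCover K) := by
    refine le_antisymm hker fun z hz => ?_
    have : θ z ∈ Subgroup.center (D.group K) := Subgroup.mem_center_iff.2 fun g => by
      obtain ⟨a, rfl⟩ := hsur g
      rw [← map_mul, ← map_mul, Subgroup.mem_center_iff.1 hz a]
    rw [group_center_bot h] at this
    exact this
  have hc : Nat.card θ.ker = d := by
    rw [hk, ← hcard]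
    exact Nat.card_congr (Subgroup.centerCongr i).toEquiv
  obtain ⟨e⟩ := cyclic_mulEquiv hc hd
  exact hasSchur_of_cover θ hsur hker hperf (fun Γ _ _ σ hσ hσc => (hlift Γ σ hσ hσc θ).exists) e

/-- The simply laced splitting gives lifts. -/
theorem lift_simplyLaced (hperf : commutator (D.SteinbergCover K) = ⊤) {orth : Bool}
    (h3 : orth = true → ∃ a : K, a ≠ 0 ∧ a ≠ 1) (hck : ckUni P orth = true) (hl : ckLink P = true)
    (E : Type u) [Group E] (π₁ : E →* D.group K) (hπ : Function.Surjective π₁)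
    (hc : π₁.ker ≤ Subgroup.center E) (σ : D.SteinbergCover K →* D.group K) : ∃! τ, π₁.comp τ = σ := by
  refine exists_unique_lift_of_split h hperf π₁ hπ hc σ fun Γ p hp hpc => ?_
  choose ξ hξ using fun (r : ℕ) (t : K) => hp (D.scGen K r t)
  exact exists_split (⟨cov_Sc h, hpc, hξ⟩ : ExtData (P := P) (D.scGen K) (thSc K h) p ξ) hp h3 hck hl

/-- The general splitting gives lifts. -/
theorem lift_big (hg : ckGen P = true) (hperf : commutator (D.SteinbergCover K) = ⊤)
    (h5 : ∃ s : Finset K, 4 < s.card)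
    (E : Type u) [Group E] (π₁ : E →* D.group K) (hπ : Function.Surjective π₁)
    (hc : π₁.ker ≤ Subgroup.center E) (σ : D.SteinbergCover K →* D.group K) : ∃! τ, π₁.comp τ = σ :=
  exists_unique_lift h hg hperf h5 π₁ hπ hc σ

end Cfsg.Agent.Chev.CT
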