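/-
Kernel checks for the splitting of central extensions in type B2.
-/
import Cfsg.Agent.Lib.CurtisTits.UniCheck

set_option autoImplicit false

namespace Cfsg.Agent.Chev.CT

open Cfsg.Agent.Chev

variable (P : Pk)

/-- Exponent of a root on the torus element given by two exponents. -/
def exv (e : ℤ × ℤ) (r : ℕ) : ℤ := e.1 * P.A 0 r + e.2 * P.A 1 r

/-- The torus elements used. -/
def eList : List (ℤ × ℤ) := [(1, 0), (0, 1), (1, 1), (1, -1), (1, 2)]

/-- Long roots. -/
def isL (r : ℕ) : Bool := decide (P.A 0 r % 2 = 0) && decide (P.A 1 r % 2 = 0)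

/-- A torus element moving `r` by the given exponent and fixing `s`. -/
def movT (r s k : ℕ) : Bool :=
  eList.any fun e => Nat.beq (exv P e r).natAbs k && decide (exv P e s = 0)

/-- A torus element moving `r`. -/
def movR (r k : ℕ) : Bool := eList.any fun e => Nat.beq (exv P e r).natAbs k

/-- The commutator of two roots lies in the given pair of root groups. -/
def tgts (r s p q : ℕ) : Bool :=
  !(Nat.beq s r) && !(Nat.beq s (P.ng r)) && (P.cterms r s).all fun c => Nat.beq c.1 p || Nat.beq c.1 q

/-- Two orthogonal short roots and their sum. -/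
def tupS (r s q : ℕ) : Bool :=
  !(isL P r) && !(isL P s) && isL P q && tgts P r s q q && tgts P s r q q &&
  (match P.cterms r s with
    | [a] => Nat.beq a.1 q && Nat.beq a.2.1.natAbs 2 && decide (a.2.2 = (1, 1))
    | _ => false) &&
  cmG P r q && cmG P s q && movT P r s 2

/-- Two roots forming a base, with their sum `p` and the other combination `q`. -/
def tupF (l s p q : ℕ) : Bool :=
  isL P l && !(isL P s) && !(isL P p) && isL P q && tgts P l s p q && tgts P s l p q &&
  (match P.cterms l s with
    | [a, b] => Nat.beq a.1 p && Nat.beq b.1 q && decide (a.2.1 * a.2.1 = 1) && decide (b.2.1 * b.2.1 = 1) &&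
        decide (a.2.2 = (1, 1)) && decide (b.2.2 = (1, 2))
    | _ => false) &&
  cmG P l p && cmG P l q && cmG P s q && cmG P p q && tgts P p s q q && movT P l s 2 && movR P s 1 &&
  !(Nat.beq q l) && tupS P s p q

/-- Pairs of short roots with the given sum. -/
def ssL (q : ℕ) : List (ℕ × ℕ) :=
  (P.allRoots.flatMap fun a => P.allRoots.map fun b => (a, b)).filter fun p => tupS P p.1 p.2 q

/-- The conditions on a pair. -/
def ckB2P (r s : ℕ) : Bool :=
  bif Nat.beq s r || Nat.beq s (P.ng r) then true else
  bif cmG P r s then cmG P s r &&
    (bif isL P r then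
      (bif isL P s then movT P s r 2 &&
        P.allRoots.any (fun a => P.allRoots.any fun b => tupS P a b r && cmG P s a && tgts P s b a r)
       else movT P s r 1)
     else isL P s && movT P r s 1)
  else
    P.allRoots.any fun q => tupS P r s q || P.allRoots.any fun p => tupF P r s p q || tupF P s r p q

/-- The conditions on a root. -/
def ckB2R (r : ℕ) : Bool :=
  bif isL P r then
    movR P r 2 &&
    (P.allRoots.any fun l => P.allRoots.any fun s => P.allRoots.any fun p => tupF P l s p r) &&
    (match ssL P r with
      | h :: l => l.all fun p => decide (p = h) || decide (p = (h.2, h.1))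
      | [] => false)
  else
    movR P r 1 &&
    (P.allRoots.any fun l => P.allRoots.any fun s => P.allRoots.any fun q => tupF P l s r q)

/-- All conditions. -/
def ckB2 : Bool := Nat.beq P.rank 2 && P.allRoots.all fun r => ckB2R P r && P.allRoots.all fun s => ckB2P P r s

end Cfsg.Agent.Chev.CT
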