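/-
Central extensions of Steinberg's group of type B2 over a field of more than two elements split.
-/
import Cfsg.Agent.Lib.CurtisTits.UniExt
import Cfsg.Agent.Lib.CurtisTits.UniB2Check

set_option autoImplicit false
set_option linter.unusedSectionVars false
set_option linter.unusedVariables false
set_option maxHeartbeats 1000000

namespace Cfsg.Agent.Chev.CT

open Cfsg.Agent.Chev Cfsg.Lie

/-- An element of the torus acting on each root group by a scalar. -/
def TorEl {K : Type*} [Field K] {C Γ : Type*} [Group C] [Group Γ] (P : Pk) (x : ℕ → K → C) (σ : Γ →* C)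
    (g : Γ) (χ : ℕ → K) : Prop :=
  σ g ∈ torC P x ∧ ∀ r < P.nroots, ∀ v, σ g * x r v * (σ g)⁻¹ = x r (χ r * v)

/-- A function with translation rule and invariance under a multiplier is trivial. -/
theorem kill_one {K Γ : Type*} [Field K] [Group Γ] {F : K → Γ} (hadd : ∀ a b, F (a + b) = F b * F a) {d : K}
    (hd : d ≠ 1) (hinv : ∀ t, F (d * t) = F t) (t : K) : F t = 1 := by
  have h := hadd t (t / (d - 1))
  rw [show t + t / (d - 1) = d * (t / (d - 1)) by have := sub_ne_zero.2 hd; field_simp; ring, hinv] at h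
  exact left_eq_mul.1 h

/-- In a group where elements are `0, 1, -1`, a commutator rule. -/
theorem F3_one {K Γ : Type*} [Field K] [Group Γ] (h2 : (2 : K) ≠ 0) (h3 : ∀ t : K, t = 0 ∨ t = 1 ∨ t = -1)
    {f : K → Γ} (hadd : ∀ a b, f (a + b) = f a * f b) (h1 : f 1 = f (-1)) (t : K) : f t = 1 := by
  have h0 : f 0 = 1 := by have := hadd 0 0; rw [add_zero] at this; exact left_eq_mul.1 this
  have hn : f 1 * f (-1) = 1 := by rw [← hadd, add_neg_cancel, h0]
  rw [← h1] at hn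
  have hone : f 1 = 1 := by
    rcases h3 (1 + 1) with h | h | h
    · exact absurd (by rw [← one_add_one_eq_two, h] : (2 : K) = 0) h2
    · exact absurd (by simpa using h : (1 : K) = 0) one_ne_zero
    · have e := hadd 1 1
      rw [h, ← h1, hn] at e
      exact e
  rcases h3 t with rfl | rfl | rfl
  · exact h0
  · exact hone
  · rw [← h1, hone]

section B2

variable {D : ChevalleyDatum} {P : Pk} {K : Type*} [Field K] {C : Type*} [Group C]
  {x : ℕ → K → C} {θ : C →* GL D.Idx K} {Γ : Type*} [Group Γ] {σ : Γ →* C} {ξ : ℕ → K → Γ}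
  (E : ExtData (P := P) x θ σ ξ) (hσ : Function.Surjective σ) (hrk : P.rank = 2)
  (hcom : ∀ g ∈ torC P x, ∀ h ∈ torC P x, g * h = h * g)
include E hσ hrk hcom

theorem exists_torEl (e : ℤ × ℤ) {c : K} (hc : c ≠ 0) :
    ∃ g : Γ, TorEl P x σ g (fun r => c ^ exv P e r) := by
  obtain ⟨g, hg⟩ := hσ (hEl P x (P.sim 0) (c ^ e.1) * hEl P x (P.sim 1) (c ^ e.2))
  refine ⟨g, ?_, fun r hr v => ?_⟩
  · rw [hg]
    exact mul_mem (hEl_mem_torC (by omega) (zpow_ne_zero _ hc)) (hEl_mem_torC (by omega) (zpow_ne_zero _ hc))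
  · rw [hg, mul_inv_rev, show ∀ a b y : C, a * b * y * (b⁻¹ * a⁻¹) = a * (b * y * b⁻¹) * a⁻¹ from
      fun a b y => by group, h_conj E.cov (by omega) (zpow_ne_zero _ hc) hr,
      h_conj E.cov (by omega) (zpow_ne_zero _ hc) hr, ← mul_assoc, ← zpow_mul, ← zpow_mul, ← zpow_add₀ hc]
    rfl

theorem Fc_conj_torEl {g : Γ} {χ : ℕ → K} (hg : TorEl P x σ g χ) {r s : ℕ} (hr : r < P.nroots) (hs : s < P.nroots)
    (t u : K) : g * Fc ξ r s t u * g⁻¹ = Fc ξ r s (χ r * t) (χ s * u) := by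
  rw [show g * Fc ξ r s t u * g⁻¹ = cm (g * ξ s u * g⁻¹) (g * ξ r t * g⁻¹) by unfold Fc cm; group]
  refine cm_congr E.central ?_ ?_
  · rw [map_mul, map_mul, map_inv, E.lift, E.lift, hg.2 s hs]
  · rw [map_mul, map_mul, map_inv, E.lift, E.lift, hg.2 r hr]

theorem Fc_one_comm {r s : ℕ} (h : ∀ t u, Fc ξ r s t u = 1) (t u : K) : Commute (ξ s u) (ξ r t) :=
  cm_one_iff.1 (h t u)

/-- A torus element moving one root and fixing the other kills the commutator. -/
theorem kill_mov {r s : ℕ} (hr : r < P.nroots) (hs : s < P.nroots) (hrs : cmG P r s = true) {e : ℤ × ℤ}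
    {c : K} (hc : c ≠ 0) (h1 : c ^ exv P e r ≠ 1) (h2 : c ^ exv P e s = 1) (t u : K) : Fc ξ r s t u = 1 := by
  refine kill_one (F := fun t => Fc ξ r s t u) (fun a b => Fc_add_left E hr
    (Subgroup.mem_center_iff.1 (Fc_central E hr hs hrs a u) _).symm) h1 (fun a => ?_) t
  obtain ⟨g, hg⟩ := exists_torEl E hσ hrk hcom e hc
  show Fc ξ r s (c ^ exv P e r * a) u = Fc ξ r s a u
  have h := Fc_conj_torEl E hσ hrk hcom hg hr hs a u
  simp only [h2, one_mul] at h
  rw [← h, Subgroup.mem_center_iff.1 (Fc_central E hr hs hrs a u) g, mul_inv_cancel_right]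

theorem movT_spec {r s k : ℕ} (h : movT P r s k = true) :
    ∃ e, (exv P e r = k ∨ exv P e r = -k) ∧ exv P e s = 0 := by
  simp only [movT, List.any_eq_true, Bool.and_eq_true, nbeq, decide_eq_true_eq] at h
  obtain ⟨e, -, h1, h2⟩ := h
  exact ⟨e, Int.natAbs_eq_iff.1 h1, h2⟩

theorem zpow_ne_one_of {c : K} {k : ℕ} (hk : c ^ k ≠ 1) {z : ℤ} (hz : z = k ∨ z = -k) : c ^ z ≠ 1 := by
  rcases hz with rfl | rfl
  · rwa [zpow_natCast]
  · rwa [zpow_neg, zpow_natCast, inv_ne_one]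

theorem kill_movT {r s k : ℕ} (hr : r < P.nroots) (hs : s < P.nroots) (hrs : cmG P r s = true)
    (hm : movT P r s k = true) {c : K} (hc : c ≠ 0) (hk : c ^ k ≠ 1) (t u : K) : Fc ξ r s t u = 1 := by
  obtain ⟨e, h1, h2⟩ := movT_spec E hσ hrk hcom hm
  exact kill_mov E hσ hrk hcom hr hs hrs hc (zpow_ne_one_of E hσ hrk hcom hk h1) (by rw [h2, zpow_zero]) t u

/-- Products of two root elements. -/
def Two (x : ℕ → K → C) (p q : ℕ) (g : C) : Prop := ∃ a b, g = x p a * x q b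

theorem cmG_comm {p q : ℕ} (hp : p < P.nroots) (hq : q < P.nroots) (h : cmG P p q = true) (a b : K) :
    Commute (x p a) (x q b) := cmG_spec E hp hq h a b

theorem tgts_spec {r s p q : ℕ} (hr : r < P.nroots) (hs : s < P.nroots) (hp : p < P.nroots) (hq : q < P.nroots)
    (hpq : cmG P p q = true) (h : tgts P r s p q = true) :
    s ≠ r ∧ s ≠ P.ng r ∧ (∀ t u, σ (Fc ξ r s t u) = rhsW P x r s t u) ∧
      ∀ t u : K, ∃ a b, rhsW P x r s t u = x p a * x q b := by
  simp only [tgts, Bool.and_eq_true, Bool.not_eq_true', nbeq, decide_eq_false_iff_not, List.all_eq_true,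
    Bool.or_eq_true, decide_eq_true_eq] at h
  obtain ⟨⟨h1, h2⟩, h3⟩ := h
  refine ⟨h1, h2, fun t u => ?_, fun t u => ?_⟩
  · simp only [Fc, cm, map_mul, map_inv, E.lift]
    exact commC E.cov hr hs h1 h2 t u
  rw [rhsW]
  generalize P.cterms r s = L at h3
  induction L with
  | nil => exact ⟨0, 0, by simp [x_zeroC E.cov hp, x_zeroC E.cov hq]⟩
  | cons c l ih =>
    obtain ⟨a, b, e⟩ := ih fun c hc => h3 c (List.mem_cons_of_mem _ hc)
    rw [List.map_cons, List.prod_cons, e]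
    set w : K := (c.2.1 : K) * (-t) ^ c.2.2.1 * u ^ c.2.2.2
    rcases h3 c List.mem_cons_self with hc | hc <;> rw [hc]
    · exact ⟨w + a, b, by rw [← mul_assoc, x_addC E.cov hp]⟩
    · refine ⟨a, w + b, ?_⟩
      rw [← mul_assoc, ← (cmG_comm E hσ hrk hcom hp hq hpq a w).eq, mul_assoc, x_addC E.cov hq]

theorem x_sep {p q : ℕ} (hp : p < P.nroots) (hq : q < P.nroots) (hpq : p ≠ q) {a b : K}
    (e : x p a = x q b) : a = 0 ∧ b = 0 := by
  have e' := congrArg θ e
  rw [E.cov.img p hp, E.cov.img q hq] at e'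
  have ha : a = 0 := by
    by_contra ha
    exact hpq (E.cov.okD.xG_index_inj hp hq ha e')
  subst ha
  refine ⟨rfl, (x_param_inj E hq ?_).symm⟩
  rw [x_zeroC E.cov hq, ← e, x_zeroC E.cov hp]

theorem two_inj {p q : ℕ} (hp : p < P.nroots) (hq : q < P.nroots) (hpq : p ≠ q) {a b a' b' : K}
    (e : x p a * x q b = x p a' * x q b') : a = a' ∧ b = b' := by
  have e1 : x p (-a' + a) = x q (b' + -b) := by
    rw [← x_addC E.cov hp, ← x_addC E.cov hq, ← x_invC E.cov hp, ← x_invC E.cov hq, inv_mul_eq_iff_eq_mul,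
      ← mul_assoc, eq_mul_inv_iff_mul_eq]
    exact e
  obtain ⟨h1, h2⟩ := x_sep E hσ hrk hcom hp hq hpq e1
  exact ⟨by linear_combination h1, by linear_combination -h2⟩

/-- A conjugation argument. -/
theorem conj_kill {z R : Γ} (h : R⁻¹ * z * R = z) {z' : Γ} (e : σ z = σ z') : cm z' R = 1 := by
  rw [← cm_congr E.central (b := R) e rfl, cm_one_iff]
  calc z * R = R * (R⁻¹ * z * R) := by group
    _ = _ := by rw [h]

theorem fix_of_one {r s : ℕ} (h : ∀ t u, Fc ξ r s t u = 1) (t u : K) :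
    (ξ r t)⁻¹ * ξ s u * ξ r t = ξ s u := by
  rw [conj_eq_mul_cm, show cm (ξ s u) (ξ r t) = Fc ξ r s t u from rfl, h, mul_one]

theorem cmG_ne {r s : ℕ} (hr : r < P.nroots) (h : cmG P r s = true) : s ≠ P.ng r := by
  simp only [cmG, Bool.or_eq_true, Bool.and_eq_true, Bool.not_eq_true', nbeq, decide_eq_true_eq,
    decide_eq_false_iff_not] at h
  rcases h with rfl | ⟨⟨hn, -⟩, -⟩
  · exact fun h => E.cov.okD.ng_ne hr h.symm
  · exact hn

variable (hck : ckB2 P = true) (h3 : ∃ c : K, c ≠ 0 ∧ c ≠ 1)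
include hck h3

theorem b2R {r : ℕ} (hr : r < P.nroots) : ckB2R P r = true := by
  simp only [ckB2, Bool.and_eq_true, List.all_eq_true, Pk.mem_allRoots] at hck
  exact (hck.2 r hr).1

theorem b2P {r s : ℕ} (hr : r < P.nroots) (hs : s < P.nroots) (h1 : s ≠ r) (h2 : s ≠ P.ng r) :
    (cmG P r s = true ∧ cmG P s r = true ∧
      ((isL P r = true ∧ isL P s = false ∧ movT P s r 1 = true) ∨
       (isL P r = false ∧ isL P s = true ∧ movT P r s 1 = true) ∨
       (isL P r = true ∧ isL P s = true ∧ movT P s r 2 = true ∧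
          ∃ a < P.nroots, ∃ b < P.nroots, tupS P a b r = true ∧ cmG P s a = true ∧ tgts P s b a r = true))) ∨
    (cmG P r s = false ∧ ∃ q < P.nroots,
      tupS P r s q = true ∨ ∃ p < P.nroots, tupF P r s p q = true ∨ tupF P s r p q = true) := by
  simp only [ckB2, Bool.and_eq_true, List.all_eq_true, Pk.mem_allRoots] at hck
  have h := (hck.2 r hr).2 s hs
  have e0 : (Nat.beq s r || Nat.beq s (P.ng r)) = false := by simp [nbeq, h1, h2]
  rw [ckB2P, e0, cond_false] at h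
  cases hg : cmG P r s <;> rw [hg] at h
  · right
    simp only [cond_false, List.any_eq_true, Pk.mem_allRoots, Bool.or_eq_true] at h
    refine ⟨rfl, ?_⟩
    obtain ⟨q, hq, h⟩ := h
    refine ⟨q, hq, h.imp id ?_⟩
    rintro ⟨p, hp, h⟩
    exact ⟨p, hp, h⟩
  · left
    simp only [cond_true, Bool.and_eq_true] at h
    refine ⟨rfl, h.1, ?_⟩
    cases hL : isL P r <;> cases hL' : isL P s <;> rw [hL, hL'] at h <;>
      simp only [cond_false, cond_true, Bool.false_and, Bool.true_and, Bool.false_eq_true, and_false,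
        Bool.and_eq_true, List.any_eq_true, Pk.mem_allRoots] at h
    · exact Or.inr (Or.inl ⟨rfl, rfl, h.2⟩)
    · exact Or.inl ⟨rfl, rfl, h.2⟩
    · obtain ⟨-, hm, a, ha, b, hb, ⟨hab, hsa⟩, htg⟩ := h
      exact Or.inr (Or.inr ⟨rfl, rfl, hm, a, ha, b, hb, hab, hsa, htg⟩)

/-- Long and short commuting roots. -/
theorem kill_LS {r s : ℕ} (hr : r < P.nroots) (hs : s < P.nroots) (hne : isL P r ≠ isL P s)
    (hrs : cmG P r s = true) (t u : K) : Fc ξ r s t u = 1 := by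
  obtain ⟨c, hc, hc1⟩ := h3
  have hc1' : c ^ 1 ≠ 1 := by rwa [pow_one]
  rcases b2P E hσ hrk hcom hck ⟨c, hc, hc1⟩ hr hs (fun e => hne (by rw [e])) (cmG_ne E hσ hrk hcom hr hrs)
    with ⟨-, hsr, ⟨-, -, hm⟩ | ⟨-, -, hm⟩ | ⟨a, b, -⟩⟩ | ⟨hf, -⟩
  · rw [Fc_symm E s r u t, kill_movT E hσ hrk hcom hs hr hsr hm hc hc1', inv_one]
  · exact kill_movT E hσ hrk hcom hr hs hrs hm hc hc1' t u
  · exact absurd (a.trans b.symm) hne
  · rw [hrs] at hf; exact absurd hf (by simp)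

/-- With three elements a root element is a power of one. -/
theorem kill_same3 (hF : ∀ t : K, t = 0 ∨ t = 1 ∨ t = -1) {r : ℕ} (hr : r < P.nroots) (t u : K) :
    Fc ξ r r t u = 1 := by
  have hpow : ∀ v : K, ∃ n : ℤ, σ (ξ r v) = σ (ξ r 1 ^ n) := by
    intro v
    rcases hF v with rfl | rfl | rfl
    · exact ⟨0, by rw [zpow_zero, map_one, E.lift, x_zeroC E.cov hr]⟩
    · exact ⟨1, by rw [zpow_one]⟩
    · exact ⟨-1, by rw [zpow_neg_one, map_inv, E.lift, E.lift, x_invC E.cov hr]⟩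
  obtain ⟨n, hn⟩ := hpow t
  obtain ⟨m, hm⟩ := hpow u
  rw [Fc, cm_congr E.central hm hn, cm_one_iff]
  exact (Commute.zpow_zpow_self _ _ _).eq

theorem tupF_spec {l s p q : ℕ} (h : tupF P l s p q = true) :
    (isL P l = true ∧ isL P s = false ∧ isL P p = false ∧ isL P q = true) ∧
      tgts P l s p q = true ∧ tgts P s l p q = true ∧
      (∃ c₁ c₂ : ℤ, c₁ * c₁ = 1 ∧ c₂ * c₂ = 1 ∧ P.cterms l s = [(p, c₁, 1, 1), (q, c₂, 1, 2)]) ∧
      cmG P l p = true ∧ cmG P l q = true ∧ cmG P s q = true ∧ cmG P p q = true ∧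
      tgts P p s q q = true ∧ movT P l s 2 = true ∧ movR P s 1 = true ∧ q ≠ l ∧ tupS P s p q = true := by
  simp only [tupF, Bool.and_eq_true, Bool.not_eq_true'] at h
  obtain ⟨⟨⟨⟨⟨⟨⟨⟨⟨⟨⟨⟨⟨⟨⟨a1, a2⟩, a3⟩, a4⟩, a5⟩, a6⟩, a7⟩, a8⟩, a9⟩, a10⟩, a11⟩, a12⟩, a13⟩, a14⟩, a15⟩, a16⟩ := h
  refine ⟨⟨a1, a2, a3, a4⟩, a5, a6, ?_, a8, a9, a10, a11, a12, a13, a14,
    by simpa [nbeq] using a15, a16⟩
  split at a7
  · next a b heq =>
    simp only [Bool.and_eq_true, nbeq, decide_eq_true_eq] at a7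
    obtain ⟨⟨⟨⟨⟨e1, e2⟩, e3⟩, e4⟩, e5⟩, e6⟩ := a7
    refine ⟨a.2.1, b.2.1, e3, e4, ?_⟩
    rw [heq]
    obtain ⟨a1', a2', a3'⟩ := a
    obtain ⟨b1', b2', b3'⟩ := b
    simp only at e1 e2 e5 e6
    rw [e1, e2, e5, e6]
  · simp at a7

theorem tupS_spec {r s q : ℕ} (h : tupS P r s q = true) :
    (isL P r = false ∧ isL P s = false ∧ isL P q = true) ∧
      tgts P r s q q = true ∧ tgts P s r q q = true ∧
      (∃ c : ℤ, c.natAbs = 2 ∧ P.cterms r s = [(q, c, 1, 1)]) ∧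
      cmG P r q = true ∧ cmG P s q = true ∧ movT P r s 2 = true := by
  simp only [tupS, Bool.and_eq_true, Bool.not_eq_true'] at h
  obtain ⟨⟨⟨⟨⟨⟨⟨⟨a1, a2⟩, a3⟩, a4⟩, a5⟩, a6⟩, a7⟩, a8⟩, a9⟩ := h
  refine ⟨⟨a1, a2, a3⟩, a4, a5, ?_, a7, a8, a9⟩
  split at a6
  · next a heq =>
    simp only [Bool.and_eq_true, nbeq, decide_eq_true_eq] at a6
    obtain ⟨⟨e1, e2⟩, e3⟩ := a6
    refine ⟨a.2.1, e2, ?_⟩
    rw [heq]
    obtain ⟨a1', a2', a3'⟩ := a
    simp only at e1 e3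
    rw [e1, e3]
  · simp at a6

theorem cmG_refl (q : ℕ) : cmG P q q = true := by simp [cmG, nbeq]

theorem ne_of_isL {a b : ℕ} (ha : isL P a = false) (hb : isL P b = true) : a ≠ b := by
  rintro rfl
  rw [ha] at hb
  exact absurd hb (by simp)

variable (h4 : (∃ c : K, c ≠ 0 ∧ c ^ 2 ≠ 1) ∨ ((2 : K) ≠ 0 ∧ ∀ t : K, t = 0 ∨ t = 1 ∨ t = -1))
include h4

/-- Commuting distinct long roots. -/
theorem kill_LL {r s : ℕ} (hr : r < P.nroots) (hs : s < P.nroots) (hne : s ≠ r) (hLr : isL P r = true)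
    (hLs : isL P s = true) (hrs : cmG P r s = true) (t u : K) : Fc ξ r s t u = 1 := by
  rcases b2P E hσ hrk hcom hck h3 hr hs hne (cmG_ne E hσ hrk hcom hr hrs)
    with ⟨-, hsr, ⟨-, e, -⟩ | ⟨e, -, -⟩ | ⟨-, -, hm, a, ha, b, hb, hab, hsa, htg⟩⟩ | ⟨hf, -⟩
  · rw [hLs] at e; exact absurd e (by simp)
  · rw [hLr] at e; exact absurd e (by simp)
  swap
  · rw [hrs] at hf; exact absurd hf (by simp)
  rcases h4 with ⟨c, hc, hc2⟩ | ⟨h2, hF⟩
  · rw [Fc_symm E s r u t, kill_movT E hσ hrk hcom hs hr hsr hm hc hc2, inv_one]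
  obtain ⟨⟨hLa, hLb, -⟩, habt, -, ⟨C₀, hC, hct⟩, har, hbr, -⟩ := tupS_spec E hσ hrk hcom hck h3 hab
  have hne' := ne_of_isL E hσ hrk hcom hck h3 hLa hLr
  have hC0 : (C₀ : K) ≠ 0 := by
    rcases Int.natAbs_eq_iff.1 hC with rfl | rfl <;> simpa using h2
  obtain ⟨-, -, hσab, -⟩ := tgts_spec E hσ hrk hcom ha hb hr hr (cmG_refl E hσ hrk hcom hck h3 r) habt
  have hσF : ∀ t u, σ (Fc ξ a b t u) = x r ((C₀ : K) * -t * u) := by
    intro t u
    rw [hσab, rhsW, hct]
    simp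
  obtain ⟨-, -, hσsb, hform⟩ := tgts_spec E hσ hrk hcom hs hb ha hr har htg
  -- the short root commutes with the second long root
  have ksa : ∀ t u, Fc ξ s a t u = 1 := kill_LS E hσ hrk hcom hck h3 hs ha (by rw [hLs, hLa]; simp) hsa
  have kar : ∀ t u, Fc ξ a r t u = 1 := kill_LS E hσ hrk hcom hck h3 ha hr (by rw [hLr, hLa]; simp) har
  have kaa := fun t u => kill_same3 E hσ hrk hcom hck h3 hF ha t u
  have krr := fun t u => kill_same3 E hσ hrk hcom hck h3 hF hr t u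
  set t₀ : K := -(t / (C₀ : K))
  set R := ξ s u
  set z := Fc ξ a b t₀ 1
  have hz : σ z = σ (ξ r t) := by
    rw [hσF, E.lift]; congr 1; simp only [t₀, neg_neg, mul_one]; rw [mul_div_cancel₀ _ hC0]
  obtain ⟨w₁, w₂, hw⟩ := hform u 1
  have hW : σ (cm (ξ b 1) R) = σ (ξ a w₁ * ξ r w₂) := by
    rw [map_mul, E.lift, E.lift, ← hw, ← hσsb]; rfl
  have h1 : R⁻¹ * z * R = z := by
    show R⁻¹ * cm (ξ b 1) (ξ a t₀) * R = _
    rw [conj_cm, fix_of_one E hσ hrk hcom ksa, conj_eq_mul_cm, cm_congr E.central (a' := ξ b 1 * (ξ a w₁ * ξ r w₂))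
      (b' := ξ a t₀) (by rw [map_mul, map_mul, hW]) rfl, cm_mul_left]
    have cW : Commute (ξ a w₁ * ξ r w₂) (ξ a t₀) :=
      Commute.mul_left (Fc_one_comm E hσ hrk hcom kaa _ _) (Fc_one_comm E hσ hrk hcom kar _ _)
    rw [cm_one_iff.2 cW.eq, mul_one]
    show _ * z * _ = z
    have cz : cm z (ξ a w₁ * ξ r w₂) = 1 := by
      rw [cm_congr E.central (b := ξ a w₁ * ξ r w₂) hz rfl, cm_one_iff]
      exact (Commute.mul_right (Fc_one_comm E hσ hrk hcom kar _ _) (Fc_one_comm E hσ hrk hcom krr _ _)).eq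
    rw [mul_assoc, cm_one_iff.1 cz, inv_mul_cancel_left]
  rw [Fc_symm E s r u t, show Fc ξ s r u t = cm (ξ r t) (ξ s u) from rfl, conj_kill E hσ hrk hcom h1 hz, inv_one]

/-- Equal long roots. -/
theorem kill_qq {q : ℕ} (hq : q < P.nroots) (hLq : isL P q = true) (t u : K) : Fc ξ q q t u = 1 := by
  have h := b2R E hσ hrk hcom hck h3 hq
  rw [ckB2R, hLq, cond_true] at h
  simp only [Bool.and_eq_true, List.any_eq_true, Pk.mem_allRoots] at h
  obtain ⟨⟨-, l, hl, s, hs, p, hp, hT⟩, -⟩ := h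
  obtain ⟨⟨hLl, hLs, hLp, -⟩, htg, -, ⟨c₁, c₂, hc1, hc2, hct⟩, hlp, hlq, hsq, hpq, -, -, -, hlq', -⟩ :=
    tupF_spec E hσ hrk hcom hck h3 hT
  obtain ⟨-, -, hσls, -⟩ := tgts_spec E hσ hrk hcom hl hs hp hq hpq htg
  have klq : ∀ t u, Fc ξ q l t u = 1 := fun t u => by
    rw [Fc_symm E l q u t, kill_LL E hσ hrk hcom hck h3 h4 hl hq hlq' hLl hLq hlq, inv_one]
  have ksq : ∀ t u, Fc ξ q s t u = 1 := fun t u => by
    rw [Fc_symm E s q u t, kill_LS E hσ hrk hcom hck h3 hs hq (by rw [hLs, hLq]; simp) hsq, inv_one]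
  have kpq : ∀ t u, Fc ξ q p t u = 1 := fun t u => by
    rw [Fc_symm E p q u t, kill_LS E hσ hrk hcom hck h3 hp hq (by rw [hLp, hLq]; simp) hpq, inv_one]
  set t₀ : K := -((c₂ : K) * u)
  set R := ξ q t
  set z := Fc ξ l s t₀ 1
  have hz : σ z = σ (ξ p ((c₁ : K) * -t₀) * ξ q u) := by
    rw [hσls, rhsW, hct, map_mul, E.lift, E.lift]
    simp only [List.map_cons, List.map_nil, List.prod_cons, List.prod_nil, mul_one, pow_one, one_pow, t₀, neg_neg]
    rw [cancel_sq hc2]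
  have h1 : R⁻¹ * z * R = z := by
    show R⁻¹ * cm (ξ s 1) (ξ l t₀) * R = _
    rw [conj_cm, fix_of_one E hσ hrk hcom ksq, fix_of_one E hσ hrk hcom klq]
    rfl
  have h2 := conj_kill E hσ hrk hcom h1 hz
  rw [cm_mul_left, show cm (ξ p ((c₁ : K) * -t₀)) R = 1 from kpq _ _, mul_one, inv_mul_cancel, one_mul] at h2
  exact h2

/-- Equal short roots. -/
theorem kill_pp {p : ℕ} (hp : p < P.nroots) (hLp : isL P p = false) (t u : K) : Fc ξ p p t u = 1 := by
  have h := b2R E hσ hrk hcom hck h3 hp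
  rw [ckB2R, hLp, cond_false] at h
  simp only [Bool.and_eq_true, List.any_eq_true, Pk.mem_allRoots] at h
  obtain ⟨-, l, hl, s, hs, q, hq, hT⟩ := h
  obtain ⟨⟨hLl, hLs, -, hLq⟩, htg, -, ⟨c₁, c₂, hc1, hc2, hct⟩, hlp, hlq, hsq, hpq, hps, -, -, hlq', -⟩ :=
    tupF_spec E hσ hrk hcom hck h3 hT
  obtain ⟨-, -, hσls, -⟩ := tgts_spec E hσ hrk hcom hl hs hp hq hpq htg
  obtain ⟨-, -, hσps, hform⟩ := tgts_spec E hσ hrk hcom hp hs hq hq (cmG_refl E hσ hrk hcom hck h3 q) hps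
  have klp : ∀ t u, Fc ξ p l t u = 1 := fun t u => by
    rw [Fc_symm E l p u t, kill_LS E hσ hrk hcom hck h3 hl hp (by rw [hLl, hLp]; simp) hlp, inv_one]
  have klq : ∀ t u, Fc ξ l q t u = 1 := kill_LL E hσ hrk hcom hck h3 h4 hl hq hlq' hLl hLq hlq
  have kpq : ∀ t u, Fc ξ p q t u = 1 := kill_LS E hσ hrk hcom hck h3 hp hq (by rw [hLp, hLq]; simp) hpq
  set t₀ : K := -((c₁ : K) * u)
  set R := ξ p t
  set z := Fc ξ l s t₀ 1
  have hz : σ z = σ (ξ p u * ξ q ((c₂ : K) * -t₀)) := by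
    rw [hσls, rhsW, hct, map_mul, E.lift, E.lift]
    simp only [List.map_cons, List.map_nil, List.prod_cons, List.prod_nil, mul_one, pow_one, one_pow, t₀, neg_neg]
    rw [cancel_sq hc1]
  obtain ⟨w₁, w₂, hw⟩ := hform t 1
  set W := ξ q (w₁ + w₂)
  have hW : σ (cm (ξ s 1) R) = σ W := by
    rw [E.lift, ← x_addC E.cov hq, ← hw, ← hσps]; rfl
  have h1 : R⁻¹ * z * R = z := by
    show R⁻¹ * cm (ξ s 1) (ξ l t₀) * R = _
    rw [conj_cm, fix_of_one E hσ hrk hcom klp, conj_eq_mul_cm, cm_congr E.central (a' := ξ s 1 * W)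
      (b' := ξ l t₀) (by rw [map_mul, map_mul, hW]) rfl, cm_mul_left,
      show cm W (ξ l t₀) = 1 from klq _ _, mul_one]
    show W⁻¹ * z * W = z
    have cz : cm z W = 1 := by
      rw [cm_congr E.central (b := W) hz rfl, cm_one_iff]
      refine (Commute.mul_left ?_ ?_).eq
      · exact (Fc_one_comm E hσ hrk hcom kpq _ _).symm
      · exact Fc_one_comm E hσ hrk hcom (fun t u => kill_qq E hσ hrk hcom hck h3 h4 hq hLq t u) _ _
    rw [mul_assoc, cm_one_iff.1 cz, inv_mul_cancel_left]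
  have h2 := conj_kill E hσ hrk hcom h1 hz
  rw [cm_mul_left, show cm (ξ q ((c₂ : K) * -t₀)) R = 1 from kpq _ _, mul_one] at h2
  have h5 := congrArg (fun g => ξ q ((c₂ : K) * -t₀) * g * (ξ q ((c₂ : K) * -t₀))⁻¹) h2
  simpa [mul_assoc, Fc] using h5

/-- All commuting pairs. -/
theorem kill_all {r s : ℕ} (hr : r < P.nroots) (hs : s < P.nroots) (hrs : cmG P r s = true) (t u : K) :
    Fc ξ r s t u = 1 := by
  by_cases hne : s = r
  · subst hne
    cases hL : isL P s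
    · exact kill_pp E hσ hrk hcom hck h3 h4 hr hL t u
    · exact kill_qq E hσ hrk hcom hck h3 h4 hr hL t u
  by_cases hLL : isL P r = isL P s
  · cases hL : isL P r
    · rcases b2P E hσ hrk hcom hck h3 hr hs hne (cmG_ne E hσ hrk hcom hr hrs)
        with ⟨-, -, ⟨e, -⟩ | ⟨-, e, -⟩ | ⟨e, -⟩⟩ | ⟨hf, -⟩
      · rw [hL] at e; exact absurd e (by simp)
      · rw [← hLL, hL] at e; exact absurd e (by simp)
      · rw [hL] at e; exact absurd e (by simp)
      · rw [hrs] at hf; exact absurd hf (by simp)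
    · exact kill_LL E hσ hrk hcom hck h3 h4 hr hs hne hL (hLL ▸ hL) hrs t u
  · exact kill_LS E hσ hrk hcom hck h3 hr hs hLL hrs t u

/-- The canonical lift, from a moving torus element. -/
theorem exists_Z {r : ℕ} (hr : r < P.nroots) {g : Γ} {χ : ℕ → K} (hg : TorEl P x σ g χ) (h1 : χ r ≠ 1)
    (h0 : χ r ≠ 0) :
    ∃ Z : K → Γ, (∀ t, σ (Z t) = x r t) ∧ (∀ t t', Z (t + t') = Z t * Z t') ∧
      ∀ g' χ', TorEl P x σ g' χ' → ∀ t, g' * Z t * g'⁻¹ = Z (χ' r * t) := by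
  set k : K := (1 - (χ r)⁻¹)⁻¹
  have hk : (1 : K) - (χ r)⁻¹ ≠ 0 := sub_ne_zero.2 fun e => h1 (inv_eq_one.1 e.symm)
  set Z : K → Γ := fun t => cm g (ξ r (k * t))
  have hlift : ∀ t, σ (Z t) = x r t := by
    intro t
    have e : (σ g)⁻¹ * x r (-(k * t)) * σ g = x r ((χ r)⁻¹ * -(k * t)) := by
      have := hg.2 r hr ((χ r)⁻¹ * -(k * t))
      rw [mul_inv_cancel_left₀ h0] at this
      rw [← this]; group
    simp only [Z, cm, map_mul, map_inv, E.lift, x_invC E.cov hr, e, x_addC E.cov hr]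
    congr 1
    show _ = t
    simp only [k]
    field_simp
    ring
  refine ⟨Z, hlift, fun t t' => ?_, fun g' χ' hg' t => ?_⟩
  · show cm g (ξ r (k * (t + t'))) = _
    rw [cm_congr E.central (a := g) rfl (show σ (ξ r (k * (t + t'))) = σ (ξ r (k * t') * ξ r (k * t)) by
      rw [map_mul, E.lift, E.lift, E.lift, x_addC E.cov hr]; congr 1; ring), cm_mul_right]
    have hc : cm (Z t') (ξ r (k * t)) = 1 := by
      rw [cm_congr E.central (a' := ξ r t') (b' := ξ r (k * t)) (by rw [hlift, E.lift]) rfl]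
      exact kill_all E hσ hrk hcom hck h3 h4 hr hr (cmG_refl E hσ hrk hcom hck h3 r) _ _
    show cm g (ξ r (k * t)) * ((ξ r (k * t))⁻¹ * Z t' * ξ r (k * t)) = _
    rw [mul_assoc _ (Z t'), cm_one_iff.1 hc, inv_mul_cancel_left]
  · show g' * cm g (ξ r (k * t)) * g'⁻¹ = cm g (ξ r (k * (χ' r * t)))
    rw [show g' * cm g (ξ r (k * t)) * g'⁻¹ = cm (g' * g * g'⁻¹) (g' * ξ r (k * t) * g'⁻¹) by unfold cm; group]
    refine cm_congr E.central ?_ ?_
    · rw [map_mul, map_mul, map_inv, hcom _ hg'.1 _ hg.1, mul_inv_cancel_right]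
    · rw [map_mul, map_mul, map_inv, E.lift, E.lift, hg'.2 r hr]; congr 1; ring

omit h4 in
theorem biadd {r s : ℕ} (hr : r < P.nroots) (hs : s < P.nroots)
    (hcr : ∀ t u v, Commute (Fc ξ r s t u) (ξ r v)) (hcs : ∀ t u v, Commute (Fc ξ r s t u) (ξ s v))
    (hcc : ∀ t u t' u', Commute (Fc ξ r s t u) (Fc ξ r s t' u')) :
    (∀ t t' u, Fc ξ r s (t + t') u = Fc ξ r s t u * Fc ξ r s t' u) ∧
      ∀ t u u', Fc ξ r s t (u + u') = Fc ξ r s t u * Fc ξ r s t u' := by
  refine ⟨fun t t' u => by rw [Fc_add_left E hr (hcr _ _ _), (hcc _ _ _ _).eq], fun t u u' => ?_⟩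
  apply inv_injective
  rw [← Fc_symm E r s t (u + u'), Fc_add_left E hs (t := u) (t' := u') (u := t) ?_, mul_inv_rev,
    Fc_symm E r s t u, Fc_symm E r s t u']
  rw [Fc_symm E r s t u]
  exact (hcs _ _ _).inv_left

theorem long_even {r : ℕ} (h : isL P r = true) (e : ℤ × ℤ) : Even (exv P e r) := by
  simp only [isL, Bool.and_eq_true, decide_eq_true_eq] at h
  exact ((Int.even_iff.2 h.1).mul_left _).add ((Int.even_iff.2 h.2).mul_left _)

theorem pm_zpow_even (hF : ∀ t : K, t = 0 ∨ t = 1 ∨ t = -1) {c : K} (hc : c ≠ 0) {n : ℤ} (hn : Even n) :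
    c ^ n = 1 := by
  rcases hF c with rfl | rfl | rfl
  · exact absurd rfl hc
  · exact one_zpow n
  · exact hn.neg_one_zpow

/-- The properties of the lift of one root group. -/
def LiftR (P : Pk) (x : ℕ → K → C) (σ : Γ →* C) (ξ : ℕ → K → Γ) (r : ℕ) (Z : K → Γ) : Prop :=
  (∀ t, σ (Z t) = x r t) ∧ (∀ t t', Z (t + t') = Z t * Z t') ∧
    (∀ e c, c ≠ (0 : K) → ∀ g, TorEl P x σ g (fun r => c ^ exv P e r) → ∀ t,
      g * Z t * g⁻¹ = Z (c ^ exv P e r * t)) ∧
    ((∀ t : K, t = 0 ∨ t = 1 ∨ t = -1) → ∀ a < P.nroots, ∀ b < P.nroots,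
      tupS P a b r = true → ∀ t u, ∃ w, Fc ξ a b t u = Z w)

theorem exists_lift {r : ℕ} (hr : r < P.nroots) : ∃ Z, LiftR P x σ ξ r Z := by
  have hR := b2R E hσ hrk hcom hck h3 hr
  have hmov : ∀ k, movR P r k = true → ∀ c : K, c ≠ 0 → c ^ k ≠ 1 →
      ∃ Z : K → Γ, (∀ t, σ (Z t) = x r t) ∧ (∀ t t', Z (t + t') = Z t * Z t') ∧
        ∀ g' χ', TorEl P x σ g' χ' → ∀ t, g' * Z t * g'⁻¹ = Z (χ' r * t) := by
    intro k hk c hc hck'
    simp only [movR, List.any_eq_true, nbeq, decide_eq_true_eq] at hk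
    obtain ⟨e, -, he⟩ := hk
    obtain ⟨g, hg⟩ := exists_torEl E hσ hrk hcom e hc
    exact exists_Z E hσ hrk hcom hck h3 h4 hr hg
      (zpow_ne_one_of E hσ hrk hcom hck' (Int.natAbs_eq_iff.1 he)) (zpow_ne_zero _ hc)
  rw [ckB2R] at hR
  cases hL : isL P r <;> rw [hL] at hR
  · simp only [cond_false, Bool.and_eq_true] at hR
    obtain ⟨c, hc, hc1⟩ := h3
    obtain ⟨Z, h1, h2, h5⟩ := hmov 1 hR.1 c hc (by rwa [pow_one])
    refine ⟨Z, h1, h2, fun e c _ g hg t => h5 g _ hg t, fun _ a _ b _ hab => ?_⟩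
    have := (tupS_spec E hσ hrk hcom hck ⟨c, hc, hc1⟩ hab).1.2.2
    rw [hL] at this; exact absurd this (by simp)
  simp only [cond_true, Bool.and_eq_true] at hR
  obtain ⟨⟨hm, -⟩, hss⟩ := hR
  rcases h4 with ⟨c, hc, hc2⟩ | ⟨h2, hF⟩
  · obtain ⟨Z, h1, h2, h5⟩ := hmov 2 hm c hc hc2
    refine ⟨Z, h1, h2, fun e c _ g hg t => h5 g _ hg t, fun hF => ?_⟩
    exfalso
    rcases hF c with rfl | rfl | rfl
    · exact hc rfl
    · exact hc2 (one_pow 2)
    · exact hc2 neg_one_sq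
  rcases hd : ssL P r with _ | ⟨⟨a, b⟩, l⟩ <;> rw [hd] at hss
  · simp at hss
  simp only [List.all_eq_true, decide_eq_true_eq, Bool.or_eq_true] at hss
  have hmem : (a, b) ∈ ssL P r := by rw [hd]; exact List.mem_cons_self
  simp only [ssL, List.mem_filter, List.mem_flatMap, List.mem_map, Pk.mem_allRoots, Prod.mk.injEq] at hmem
  obtain ⟨⟨a', ha, b', hb, rfl, rfl⟩, hab⟩ := hmem
  obtain ⟨-, habt, -, ⟨C₀, hC, hct⟩, har, hbr, -⟩ := tupS_spec E hσ hrk hcom hck h3 hab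
  have hC0 : (C₀ : K) ≠ 0 := by
    rcases Int.natAbs_eq_iff.1 hC with rfl | rfl <;> simpa using h2
  obtain ⟨-, -, hσab, -⟩ := tgts_spec E hσ hrk hcom ha hb hr hr (cmG_refl E hσ hrk hcom hck h3 r) habt
  have hσF : ∀ t u, σ (Fc ξ a' b' t u) = x r ((C₀ : K) * -t * u) := by
    intro t u
    rw [hσab, rhsW, hct]
    simp
  have kall := @kill_all D P K _ C _ x θ Γ _ σ ξ E hσ hrk hcom hck h3 (Or.inr ⟨h2, hF⟩)
  have hcr : ∀ k, k < P.nroots → cmG P k r = true → ∀ t u v, Commute (Fc ξ a' b' t u) (ξ k v) := by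
    intro k hk hkr t u v
    refine cm_one_iff.1 ?_
    rw [cm_congr E.central (a' := ξ r ((C₀ : K) * -t * u)) (b' := ξ k v) (by rw [hσF, E.lift]) rfl]
    exact kall hk hr hkr _ _
  obtain ⟨hl', hr'⟩ := biadd E hσ hrk hcom hck h3 ha hb (hcr a' ha har) (hcr b' hb hbr) fun t u t' u' => by
    refine cm_one_iff.1 ?_
    rw [cm_congr E.central (a' := ξ r ((C₀ : K) * -t * u)) (b' := ξ r ((C₀ : K) * -t' * u'))
      (by rw [hσF, E.lift]) (by rw [hσF, E.lift])]
    exact kall hr hr (cmG_refl E hσ hrk hcom hck h3 r) _ _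
  have hl0 : ∀ u, Fc ξ a' b' 0 u = 1 := fun u => by
    have := hl' 0 0 u; rw [add_zero] at this; exact left_eq_mul.1 this
  have hr0 : ∀ t, Fc ξ a' b' t 0 = 1 := fun t => by
    have := hr' t 0 0; rw [add_zero] at this; exact left_eq_mul.1 this
  have hnl : ∀ t u, Fc ξ a' b' (-t) u = (Fc ξ a' b' t u)⁻¹ := fun t u => by
    rw [eq_inv_iff_mul_eq_one, ← hl', neg_add_cancel, hl0]
  have hnr : ∀ t u, Fc ξ a' b' t (-u) = (Fc ξ a' b' t u)⁻¹ := fun t u => by
    rw [eq_inv_iff_mul_eq_one, ← hr', neg_add_cancel, hr0]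
  have hprod : ∀ t u, Fc ξ a' b' t u = Fc ξ a' b' (t * u) 1 := by
    intro t u
    rcases hF u with rfl | rfl | rfl
    · rw [mul_zero, hr0, hl0]
    · rw [mul_one]
    · rw [mul_neg_one, hnl, hnr]
  set Z : K → Γ := fun z => Fc ξ a' b' (-(z / (C₀ : K))) 1
  have hadd : ∀ t t', Z (t + t') = Z t * Z t' := fun t t' => by
    simp only [Z]; rw [← hl']; congr 1; ring
  refine ⟨Z, fun t => ?_, hadd, fun e c hc g hg t => ?_, fun _ p hp q hq hpq t u => ?_⟩
  · show σ (Fc ξ a' b' _ 1) = _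
    rw [hσF, neg_neg, mul_one, mul_div_cancel₀ _ hC0]
  · have h1 : c ^ exv P e r = 1 := pm_zpow_even E hσ hrk hcom hck h3 (Or.inr ⟨h2, hF⟩) hF hc
      (long_even E hσ hrk hcom hck h3 (Or.inr ⟨h2, hF⟩) hL e)
    have h5 := congrArg σ (Fc_conj_torEl E hσ hrk hcom hg ha hb (1 : K) 1)
    rw [map_mul, map_mul, map_inv, hσF, hσF, hg.2 r hr] at h5
    have h6 := x_param_inj E hr h5
    simp only [h1, one_mul, mul_one] at h6
    have hχ : c ^ exv P e a' * c ^ exv P e b' = 1 :=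
      mul_left_cancel₀ (neg_ne_zero.2 hC0) (by linear_combination -h6)
    show g * Fc ξ a' b' (-(t / (C₀ : K))) 1 * g⁻¹ = Fc ξ a' b' _ 1
    rw [Fc_conj_torEl E hσ hrk hcom hg ha hb, hprod]
    congr 1
    rw [h1]
    linear_combination -(t / (C₀ : K)) * hχ
  · have hp' : (p, q) ∈ ssL P r := by
      simp only [ssL, List.mem_filter, List.mem_flatMap, List.mem_map, Pk.mem_allRoots, Prod.mk.injEq]
      exact ⟨⟨p, hp, q, hq, rfl, rfl⟩, hpq⟩
    have hval : ∀ t u, Fc ξ a' b' t u = Z (-(t * u * (C₀ : K))) := fun t u => by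
      rw [hprod]; simp only [Z]; congr 1; field_simp
    rw [hd, List.mem_cons] at hp'
    rcases hp'.imp id (fun h => hss _ h) with e | e | e
    · obtain ⟨rfl, rfl⟩ := Prod.mk.injEq .. ▸ e
      exact ⟨_, hval t u⟩
    · obtain ⟨rfl, rfl⟩ := Prod.mk.injEq .. ▸ e
      exact ⟨_, hval t u⟩
    · obtain ⟨e1, e2⟩ := Prod.mk.injEq .. ▸ e
      rw [e1, e2]
      refine ⟨-(-(u * t * (C₀ : K))), ?_⟩
      have hZ0 : Z 0 = 1 := by have := hadd 0 0; rw [add_zero] at this; exact left_eq_mul.1 this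
      rw [Fc_symm E a' b' u t, hval, inv_eq_iff_mul_eq_one, ← hadd, add_neg_cancel, hZ0]

/-- The lifts satisfying (R1), (R2). -/
theorem exists_split_B2 :
    ∃ y : ℕ → K → Γ, Rel P (okAll P) y ∧ ∀ r < P.nroots, ∀ t, σ (y r t) = x r t := by
  have kall := @kill_all D P K _ C _ x θ Γ _ σ ξ E hσ hrk hcom hck h3 h4
  have hex : ∀ r, ∃ Z : K → Γ, r < P.nroots → LiftR P x σ ξ r Z := by
    intro r
    by_cases hr : r < P.nroots
    · obtain ⟨Z, hZ⟩ := exists_lift E hσ hrk hcom hck h3 h4 hr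
      exact ⟨Z, fun _ => hZ⟩
    · exact ⟨fun _ => 1, fun h => absurd h hr⟩
  choose y hy using hex
  have hy0 : ∀ r < P.nroots, y r 0 = 1 := fun r hr => by
    have := (hy r hr).2.1 0 0; rw [add_zero] at this; exact left_eq_mul.1 this
  have hyn : ∀ r < P.nroots, ∀ t, (y r t)⁻¹ = y r (-t) := fun r hr t => by
    rw [inv_eq_iff_mul_eq_one, ← (hy r hr).2.1, add_neg_cancel, hy0 r hr]
  have hcmy : ∀ p q, p < P.nroots → q < P.nroots → cmG P p q = true → ∀ a b,
      Commute (y p a) (y q b) := by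
    intro p q hp hq hpq a b
    refine (cm_one_iff.1 ?_ : Commute (y q b) (y p a)).symm
    rw [cm_congr E.central (a' := ξ q b) (b' := ξ p a) (by rw [(hy q hq).1, E.lift]) (by rw [(hy p hp).1, E.lift])]
    exact kall hp hq hpq a b
  -- products of two lifts
  have two_mul' : ∀ p q, p < P.nroots → q < P.nroots → cmG P p q = true → ∀ a b a' b',
      y p a * y q b * (y p a' * y q b') = y p (a + a') * y q (b + b') := by
    intro p q hp hq hpq a b a' b'
    rw [(hy p hp).2.1, (hy q hq).2.1, mul_assoc (y p a) (y p a'), ← mul_assoc (y p a'),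
      (hcmy p q hp hq hpq a' b).eq]
    group
  have two_eq : ∀ p q, p < P.nroots → q < P.nroots → p ≠ q → ∀ {a b a' b' : K} {g g' : Γ},
      g = y p a * y q b → g' = y p a' * y q b' → σ g = σ g' → g = g' := by
    intro p q hp hq hne a b a' b' g g' hg hg' e
    subst hg; subst hg'
    rw [map_mul, map_mul, (hy p hp).1, (hy q hq).1, (hy p hp).1, (hy q hq).1] at e
    obtain ⟨rfl, rfl⟩ := two_inj E hσ hrk hcom hp hq hne e
    rfl
  have hWT : ∀ r s p q, r < P.nroots → s < P.nroots → p < P.nroots → q < P.nroots → cmG P p q = true →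
      tgts P r s p q = true → ∀ t u, (∃ a b, rhsW P y r s t u = y p a * y q b) ∧
        σ (rhsW P y r s t u) = σ (Fc ξ r s t u) := by
    intro r s p q hr hs hp hq hpq h t u
    obtain ⟨-, -, hσF, -⟩ := tgts_spec E hσ hrk hcom hr hs hp hq hpq h
    simp only [tgts, Bool.and_eq_true, nbeq, List.all_eq_true, Bool.or_eq_true, decide_eq_true_eq] at h
    have h5 := h.2
    rw [hσF, rhsW, rhsW, map_list_prod, List.map_map]
    refine ⟨?_, congrArg List.prod (List.map_congr_left fun c hc => ?_)⟩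
    · clear hσF h
      generalize P.cterms r s = L at h5
      induction L with
      | nil => exact ⟨0, 0, by simp [hy0 p hp, hy0 q hq]⟩
      | cons c l ih =>
        obtain ⟨a, b, e⟩ := ih fun c hc => h5 c (List.mem_cons_of_mem _ hc)
        rw [List.map_cons, List.prod_cons, e]
        set w : K := (c.2.1 : K) * (-t) ^ c.2.2.1 * u ^ c.2.2.2
        rcases h5 c List.mem_cons_self with hc | hc <;> rw [hc]
        · exact ⟨w + a, b, by rw [(hy p hp).2.1, mul_assoc]⟩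
        · exact ⟨a, w + b, by
            rw [← mul_assoc, ← (hcmy p q hp hq hpq a w).eq, mul_assoc, (hy q hq).2.1]⟩
    · rcases h5 c hc with e | e <;> simp only [Function.comp, e]
      · exact (hy p hp).1 _
      · exact (hy q hq).1 _
  -- the defect is killed
  have key : ∀ r s p q, r < P.nroots → s < P.nroots → p < P.nroots → q < P.nroots → p ≠ q →
      cmG P p q = true → tgts P r s p q = true → cmG P r p = true → cmG P r q = true →
      movT P r s 2 = true →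
      ((∀ t : K, t = 0 ∨ t = 1 ∨ t = -1) → ∀ t u, ∃ a b, Fc ξ r s t u = y p a * y q b) ∨
        (isL P r = true ∧ movR P s 1 = true ∧ cmG P s q = true ∧ tupS P s p q = true) →
      ∀ t u, ∃ a b, Fc ξ r s t u = y p a * y q b := by
    intro r s p q hr hs hp hq hne hpq htg hrp hrq hm halt t u
    have hW := hWT r s p q hr hs hp hq hpq htg
    set W : K → K → Γ := fun t u => rhsW P y r s t u
    set d : K → K → Γ := fun t u => Fc ξ r s t u * (W t u)⁻¹
    have hd : ∀ t u, d t u ∈ Subgroup.center Γ := fun t u => E.central (by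
      rw [MonoidHom.mem_ker, map_mul, map_inv, (hW t u).2, mul_inv_cancel])
    have hF : ∀ t u, Fc ξ r s t u = d t u * W t u := fun t u => by simp [d]
    have dσ : ∀ t u, σ (d t u) = 1 := fun t u => by
      simp only [d]; rw [map_mul, map_inv, (hW t u).2, mul_inv_cancel]
    suffices hgoal : d t u = 1 by
      obtain ⟨a, b, e⟩ := (hW t u).1
      exact ⟨a, b, by rw [hF, hgoal, one_mul]; exact e⟩
    have hdadd : ∀ t t' u, d (t + t') u = d t' u * d t u := by
      intro t t' u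
      have hcF : Commute (Fc ξ r s t u) (ξ r t') := by
        obtain ⟨a, b, e⟩ := (hW t u).1
        refine cm_one_iff.1 ?_
        rw [cm_congr E.central (a' := ξ p a * ξ q b) (b' := ξ r t') ?_ rfl, cm_one_iff]
        · exact (Commute.mul_left (cm_one_iff.1 (kall hr hp hrp _ _)) (cm_one_iff.1 (kall hr hq hrq _ _))).eq
        · rw [← (hW t u).2, e, map_mul, map_mul, (hy p hp).1, (hy q hq).1, E.lift, E.lift]
      have h1 := Fc_add_left E hr hcF
      rw [hF, hF t', hF t] at h1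
      have hWW : W t' u * W t u = W (t + t') u := by
        obtain ⟨a, b, e⟩ := (hW t u).1
        obtain ⟨a', b', e'⟩ := (hW t' u).1
        obtain ⟨a'', b'', e''⟩ := (hW (t + t') u).1
        refine two_eq p q hp hq hne (show W t' u * W t u = _ by
          show rhsW P y r s t' u * rhsW P y r s t u = _
          rw [e, e', two_mul' p q hp hq hpq]) e'' ?_
        rw [map_mul, (hW t' u).2, (hW t u).2, (hW (t + t') u).2, Fc_add_left E hr hcF, map_mul]
      rw [show d t' u * W t' u * (d t u * W t u) = d t' u * d t u * (W t' u * W t u) by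
        rw [mul_assoc, ← mul_assoc (W t' u), Subgroup.mem_center_iff.1 (hd t u) (W t' u)]; group, hWW] at h1
      exact mul_right_cancel h1
    have hinv : ∀ e c, c ≠ (0 : K) → ∀ t u,
        d (c ^ exv P e r * t) (c ^ exv P e s * u) = d t u := by
      intro e c hc t u
      obtain ⟨g, hg⟩ := exists_torEl E hσ hrk hcom e hc
      have h1 := Fc_conj_torEl E hσ hrk hcom hg hr hs t u
      rw [hF, hF (c ^ exv P e r * t),
        show g * (d t u * W t u) * g⁻¹ = (g * d t u * g⁻¹) * (g * W t u * g⁻¹) by group,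
        Subgroup.mem_center_iff.1 (hd t u) g, mul_inv_cancel_right] at h1
      obtain ⟨a, b, e'⟩ := (hW t u).1
      obtain ⟨a'', b'', e''⟩ := (hW (c ^ exv P e r * t) (c ^ exv P e s * u)).1
      have h2 : g * W t u * g⁻¹ = W (c ^ exv P e r * t) (c ^ exv P e s * u) := by
        refine two_eq p q hp hq hne (show g * rhsW P y r s t u * g⁻¹ = _ by
          rw [e', show g * (y p a * y q b) * g⁻¹ = (g * y p a * g⁻¹) * (g * y q b * g⁻¹) by group,
            (hy p hp).2.2.1 e c hc g hg, (hy q hq).2.2.1 e c hc g hg]) e'' ?_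
        have h5 := congrArg σ h1
        rwa [map_mul, map_mul σ (d _ _) (W _ _), dσ, dσ, one_mul, one_mul] at h5
      rw [h2] at h1
      exact (mul_right_cancel h1).symm
    rcases h4 with ⟨c, hc, hc2⟩ | ⟨h2, hF3⟩
    · obtain ⟨e, he, he0⟩ := movT_spec E hσ hrk hcom hm
      refine kill_one (F := fun t => d t u) (fun a b => hdadd a b u)
        (zpow_ne_one_of E hσ hrk hcom hc2 he) (fun a => ?_) t
      have := hinv e c hc a u
      rwa [he0, zpow_zero, one_mul] at this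
    rcases halt with halt | ⟨hLr, hsm, hsq, hsp⟩
    · obtain ⟨a, b, e⟩ := halt hF3 t u
      obtain ⟨a', b', e'⟩ := (hW t u).1
      simp only [d]
      rw [mul_inv_eq_one]
      exact two_eq p q hp hq hne e e' (hW t u).2.symm
    refine F3_one h2 hF3 (f := fun u => d t u) (fun v v' => ?_) ?_ u
    · show d t (v + v') = d t v * d t v'
      have h1 : Fc ξ r s t (v + v') =
          ((ξ s v')⁻¹ * Fc ξ r s t v * ξ s v') * Fc ξ r s t v' := by
        show cm (ξ s (v + v')) (ξ r t) = _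
        rw [cm_congr E.central (lift_add E hs v v') rfl, cm_mul_left]
        rfl
      obtain ⟨a, b, e⟩ := (hW t v).1
      obtain ⟨a', b', e'⟩ := (hW t v').1
      obtain ⟨a'', b'', e''⟩ := (hW t (v + v')).1
      obtain ⟨w, hw⟩ := (hy q hq).2.2.2 hF3 s hs p hp hsp v' a
      have hfix : (ξ s v')⁻¹ * (y p a * y q b) * ξ s v' = y p a * y q (w + b) := by
        have e1 : cm (y p a) (ξ s v') = y q w := by
          rw [← hw]; exact cm_congr E.central (by rw [(hy p hp).1, E.lift]) rfl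
        have e2 : cm (y q b) (ξ s v') = 1 := by
          rw [cm_congr E.central (a' := ξ q b) (b' := ξ s v') (by rw [(hy q hq).1, E.lift]) rfl]
          exact kall hs hq hsq _ _
        rw [conj_eq_mul_cm, cm_mul_left, e1, e2, mul_one, mul_assoc (y p a), ← mul_assoc (y q b),
          ← mul_assoc (y q b), mul_inv_cancel, one_mul, (hy q hq).2.1]
      rw [hF t (v + v'), hF t v, hF t v',
        show (ξ s v')⁻¹ * (d t v * W t v) * ξ s v' = ((ξ s v')⁻¹ * d t v * ξ s v') * ((ξ s v')⁻¹ * W t v * ξ s v')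
          by group, center_conj (hd t v)] at h1
      change d t (v + v') * W t (v + v') = d t v * ((ξ s v')⁻¹ * rhsW P y r s t v * ξ s v') * (d t v' * rhsW P y r s t v') at h1
      rw [e, hfix, e', show ∀ A B : Γ, d t v * A * (d t v' * B) = d t v * d t v' * (A * B) from fun A B => by
        rw [mul_assoc, ← mul_assoc A, Subgroup.mem_center_iff.1 (hd t v') A]; group,
        two_mul' p q hp hq hpq] at h1
      have h5 := congrArg σ h1
      rw [map_mul, map_mul σ (d t v * d t v'), map_mul σ (d t v), dσ, dσ, dσ, one_mul, one_mul, one_mul] at h5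
      rw [two_eq p q hp hq hne (g := W t (v + v')) e'' rfl h5] at h1
      exact mul_right_cancel h1
    · simp only [movR, List.any_eq_true, nbeq, decide_eq_true_eq] at hsm
      obtain ⟨e, -, he⟩ := hsm
      have := hinv e (-1) (neg_ne_zero.2 one_ne_zero) t 1
      rw [(long_even E hσ hrk hcom hck h3 (Or.inr ⟨h2, hF3⟩) hLr e).neg_one_zpow, one_mul, mul_one] at this
      show d t 1 = d t (-1)
      rw [← this]
      congr 1
      rcases Int.natAbs_eq_iff.1 he with e1 | e1 <;> rw [e1] <;> norm_num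
  refine ⟨y, ⟨fun r hr t u => ?_, fun r s hc t u => ?_⟩, fun r hr t => (hy r hr).1 t⟩
  · exact ((hy r (by simpa [okAll] using hr)).2.1 t u).symm
  · obtain ⟨h2, hsr, hsn⟩ := cOk_iff.1 hc
    obtain ⟨hr, hs⟩ : r < P.nroots ∧ s < P.nroots := by simpa [okAll] using h2
    show cm (y s u) (y r t) = _
    rw [cm_congr E.central (a' := ξ s u) (b' := ξ r t) (by rw [(hy s hs).1, E.lift]) (by rw [(hy r hr).1, E.lift]),
      show cm (ξ s u) (ξ r t) = Fc ξ r s t u from rfl]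
    rcases b2P E hσ hrk hcom hck h3 hr hs hsr hsn with ⟨hg, hg', -⟩ | ⟨-, q, hq, h | ⟨p, hp, h | h⟩⟩
    · rw [kall hr hs hg, rhsW]
      simp only [cmG, Bool.or_eq_true, Bool.and_eq_true, Bool.not_eq_true', nbeq, decide_eq_true_eq,
        decide_eq_false_iff_not] at hg
      rcases hg with rfl | ⟨⟨-, h1⟩, h2⟩
      · exact absurd rfl hsr
      · rw [cterms_nil E h1 h2]; rfl
    · obtain ⟨⟨hLr, -, hLq⟩, htg, -, -, hrq, -, hm⟩ := tupS_spec E hσ hrk hcom hck h3 h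
      have hne := ne_of_isL E hσ hrk hcom hck h3 hLr hLq
      have htg' : tgts P r s r q = true := by
        simp only [tgts, Bool.and_eq_true, List.all_eq_true, Bool.or_eq_true] at htg ⊢
        exact ⟨htg.1, fun c hc => Or.inr ((htg.2 c hc).elim id id)⟩
      obtain ⟨a, b, e⟩ := key r s r q hr hs hr hq hne hrq htg' (cmG_refl E hσ hrk hcom hck h3 r) hrq hm
        (Or.inl fun hF3 t u => by
          obtain ⟨w, hw⟩ := (hy q hq).2.2.2 hF3 r hr s hs h t u
          exact ⟨0, w, by rw [hy0 r hr, one_mul, hw]⟩) t u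
      obtain ⟨⟨a', b', e'⟩, eσ⟩ := hWT r s r q hr hs hr hq hrq htg' t u
      exact two_eq r q hr hq hne e e' eσ.symm
    · obtain ⟨⟨hLr, -, hLp, hLq⟩, htg, -, -, hrp, hrq, hsq, hpq, -, hm, hsm, -, hsp⟩ :=
        tupF_spec E hσ hrk hcom hck h3 h
      have hne := ne_of_isL E hσ hrk hcom hck h3 hLp hLq
      obtain ⟨a, b, e⟩ := key r s p q hr hs hp hq hne hpq htg hrp hrq hm
        (Or.inr ⟨hLr, hsm, hsq, hsp⟩) t u
      obtain ⟨⟨a', b', e'⟩, eσ⟩ := hWT r s p q hr hs hp hq hpq htg t u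
      exact two_eq p q hp hq hne e e' eσ.symm
    · obtain ⟨⟨hLs, -, hLp, hLq⟩, htg, htg', -, hsp', hsq', hrq, hpq, -, hm, hrm, -, hrp⟩ :=
        tupF_spec E hσ hrk hcom hck h3 h
      have hne := ne_of_isL E hσ hrk hcom hck h3 hLp hLq
      obtain ⟨a, b, e⟩ := key s r p q hs hr hp hq hne hpq htg hsp' hsq' hm
        (Or.inr ⟨hLs, hrm, hrq, hrp⟩) u t
      obtain ⟨⟨a', b', e'⟩, eσ⟩ := hWT r s p q hr hs hp hq hpq htg' t u
      refine two_eq p q hp hq hne (?_ : _ = y p (-a) * y q (-b)) e' eσ.symm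
      rw [Fc_symm E s r u t, e, mul_inv_rev, hyn q hq, hyn p hp, (hcmy p q hp hq hpq _ _).eq]

end B2

/-- Central extensions with kernel in the commutator subgroup are trivial, type B2. -/
theorem ker_eq_bot_B2 {D : ChevalleyDatum} {P : Pk} {K : Type*} [Field K] [Finite K] (h : Full D P)
    (hck : ckB2 P = true) (h3 : ∃ c : K, c ≠ 0 ∧ c ≠ 1)
    {Γ : Type*} [Group Γ] {σ : Γ →* D.SteinbergGroup K} (hσ : Function.Surjective σ)
    (hz : σ.ker ≤ Subgroup.center Γ) (hc : σ.ker ≤ commutator Γ) : σ.ker = ⊥ := by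
  choose ξ hξ using fun (r : ℕ) (t : K) => hσ (D.stGen K r t)
  have E : ExtData (P := P) (D.stGen K) (thSt K h) σ ξ := ⟨cov_St h, hz, hξ⟩
  have hrk : P.rank = 2 := by
    simp only [ckB2, Bool.and_eq_true, nbeq, decide_eq_true_eq] at hck; exact hck.1
  obtain ⟨f, hf, -, -⟩ := exists_torHom (K := K) h
  have hcom : ∀ g ∈ torC P (D.stGen K), ∀ g' ∈ torC P (D.stGen K), g * g' = g' * g := by
    intro g hg g' hg'
    obtain ⟨a, rfl⟩ := hf hg
    obtain ⟨b, rfl⟩ := hf hg'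
    rw [← map_mul, ← map_mul, mul_comm]
  have h4 : (∃ c : K, c ≠ 0 ∧ c ^ 2 ≠ 1) ∨ ((2 : K) ≠ 0 ∧ ∀ t : K, t = 0 ∨ t = 1 ∨ t = -1) := by
    by_cases h' : ∃ c : K, c ≠ 0 ∧ c ^ 2 ≠ 1
    · exact Or.inl h'
    push Not at h'
    have hF : ∀ t : K, t = 0 ∨ t = 1 ∨ t = -1 := fun t => by
      by_cases ht : t = 0
      · exact Or.inl ht
      · exact Or.inr (sq_eq_one_iff.1 (h' t ht))
    refine Or.inr ⟨fun h2 => ?_, hF⟩
    obtain ⟨c, hc0, hc1⟩ := h3
    have hneg : (-1 : K) = 1 := by linear_combination -h2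
    rcases hF c with e | e | e
    · exact hc0 e
    · exact hc1 e
    · exact hc1 (e.trans hneg)
  obtain ⟨y, hy, hyl⟩ := exists_split_B2 E hσ hrk hcom hck h3 h4
  obtain ⟨ψ, hψ⟩ := exists_section h σ hy hyl
  exact ker_eq_bot_of_section hz hc hψ

end Cfsg.Agent.Chev.CT
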