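/- Kernel checks for central extensions, type B2. -/
import Cfsg.Agent.Lib.CurtisTits.UniB2Check
import Cfsg.Agent.Lib.Chev.Data.B2

set_option autoImplicit false
set_option Elab.async false

namespace Cfsg.Agent.Chev.CT.UniB2

open Cfsg.Agent.Chev

theorem ok : ckB2 Cfsg.Agent.Chev.B2.pk = true := by decide +kernel

end Cfsg.Agent.Chev.CT.UniB2
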