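/- Kernel checks for central extensions, type D4. -/
import Cfsg.Agent.Lib.CurtisTits.UniCheck
import Cfsg.Agent.Lib.Chev.Data.D4

set_option autoImplicit false
set_option Elab.async false

namespace Cfsg.Agent.Chev.CT.UniD4

open Cfsg.Agent.Chev

theorem uni_ok : ckUni Cfsg.Agent.Chev.D4.pk true = true := by decide +kernel

theorem link_ok : ckLink Cfsg.Agent.Chev.D4.pk = true := by decide +kernel

end Cfsg.Agent.Chev.CT.UniD4
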