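/- Kernel checks for central extensions, type E7. -/
import Cfsg.Agent.Lib.CurtisTits.UniCheck
import Cfsg.Agent.Lib.Chev.Data.E7

set_option autoImplicit false
set_option Elab.async false

namespace Cfsg.Agent.Chev.CT.UniE7

open Cfsg.Agent.Chev

theorem uniA0 : ((List.range 21).all fun r => ckUniR Cfsg.Agent.Chev.E7.pk false (0 + r)) = true := by
  decide +kernel

theorem uniA1 : ((List.range 21).all fun r => ckUniR Cfsg.Agent.Chev.E7.pk false (21 + r)) = true := by
  decide +kernel

theorem uniA2 : ((List.range 21).all fun r => ckUniR Cfsg.Agent.Chev.E7.pk false (42 + r)) = true := by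
  decide +kernel

theorem uniA : ((List.range 63).all fun r => ckUniR Cfsg.Agent.Chev.E7.pk false r) = true := by
  rw [List.all_eq_true]
  intro r hr
  have hr : r < 63 := List.mem_range.1 hr
  by_cases h0 : r < 21
  · have := List.all_eq_true.1 uniA0 (r - 0) (List.mem_range.2 (by omega))
    rwa [show 0 + (r - 0) = r by omega] at this
  by_cases h1 : r < 42
  · have := List.all_eq_true.1 uniA1 (r - 21) (List.mem_range.2 (by omega))
    rwa [show 21 + (r - 21) = r by omega] at this
  by_cases h2 : r < 63
  · have := List.all_eq_true.1 uniA2 (r - 42) (List.mem_range.2 (by omega))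
    rwa [show 42 + (r - 42) = r by omega] at this
  omega

end Cfsg.Agent.Chev.CT.UniE7
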