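/- Kernel checks for central extensions, type E7. -/
import Cfsg.Agent.Lib.CurtisTits.UniCheck
import Cfsg.Agent.Lib.Chev.Data.E7

set_option autoImplicit false
set_option Elab.async false

namespace Cfsg.Agent.Chev.CT.UniE7

open Cfsg.Agent.Chev

/-- `ckLink` at one root of E7. -/
def linkR (m : ℕ) : Bool :=
  let P := Cfsg.Agent.Chev.E7.pk
  !((decL P m).isEmpty) && decide (cRounds P m 6 ((decL P m).take 1) = decL P m) &&
    ((decL P m).all fun p => cmG P p.1 m) &&
    ((decL P m).all fun p => (decL P m).any fun q => Nat.beq q.1 p.2 && Nat.beq q.2 p.1) &&
    (((decL P m).take 1).all fun p => (decL P m).any fun q => hEdge P m p.1 p.2 q || hEdge P m q.1 q.2 p)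

theorem link0 : ((List.range 14).all fun r => linkR (0 + r)) = true := by decide +kernel

theorem link1 : ((List.range 14).all fun r => linkR (14 + r)) = true := by decide +kernel

theorem link2 : ((List.range 14).all fun r => linkR (28 + r)) = true := by decide +kernel

theorem link3 : ((List.range 14).all fun r => linkR (42 + r)) = true := by decide +kernel

theorem link4 : ((List.range 14).all fun r => linkR (56 + r)) = true := by decide +kernel

theorem link5 : ((List.range 14).all fun r => linkR (70 + r)) = true := by decide +kernel

theorem link6 : ((List.range 14).all fun r => linkR (84 + r)) = true := by decide +kernel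

theorem link7 : ((List.range 14).all fun r => linkR (98 + r)) = true := by decide +kernel

theorem link8 : ((List.range 14).all fun r => linkR (112 + r)) = true := by decide +kernel

theorem link_ok : ckLink Cfsg.Agent.Chev.E7.pk = true := by
  rw [show ckLink Cfsg.Agent.Chev.E7.pk = (List.range 126).all linkR from rfl, List.all_eq_true]
  intro r hr
  have hr : r < 126 := List.mem_range.1 hr
  by_cases h0 : r < 14
  · have := List.all_eq_true.1 link0 (r - 0) (List.mem_range.2 (by omega))
    rwa [show 0 + (r - 0) = r by omega] at this
  by_cases h1 : r < 28
  · have := List.all_eq_true.1 link1 (r - 14) (List.mem_range.2 (by omega))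
    rwa [show 14 + (r - 14) = r by omega] at this
  by_cases h2 : r < 42
  · have := List.all_eq_true.1 link2 (r - 28) (List.mem_range.2 (by omega))
    rwa [show 28 + (r - 28) = r by omega] at this
  by_cases h3 : r < 56
  · have := List.all_eq_true.1 link3 (r - 42) (List.mem_range.2 (by omega))
    rwa [show 42 + (r - 42) = r by omega] at this
  by_cases h4 : r < 70
  · have := List.all_eq_true.1 link4 (r - 56) (List.mem_range.2 (by omega))
    rwa [show 56 + (r - 56) = r by omega] at this
  by_cases h5 : r < 84
  · have := List.all_eq_true.1 link5 (r - 70) (List.mem_range.2 (by omega))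
    rwa [show 70 + (r - 70) = r by omega] at this
  by_cases h6 : r < 98
  · have := List.all_eq_true.1 link6 (r - 84) (List.mem_range.2 (by omega))
    rwa [show 84 + (r - 84) = r by omega] at this
  by_cases h7 : r < 112
  · have := List.all_eq_true.1 link7 (r - 98) (List.mem_range.2 (by omega))
    rwa [show 98 + (r - 98) = r by omega] at this
  by_cases h8 : r < 126
  · have := List.all_eq_true.1 link8 (r - 112) (List.mem_range.2 (by omega))
    rwa [show 112 + (r - 112) = r by omega] at this
  omega

end Cfsg.Agent.Chev.CT.UniE7
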