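/- Kernel checks for central extensions, type E7, collected. -/
import Cfsg.Agent.Lib.CurtisTits.UniCheckE7A
import Cfsg.Agent.Lib.CurtisTits.UniCheckE7B
import Cfsg.Agent.Lib.CurtisTits.UniCheckE7L
import Cfsg.Agent.Lib.CurtisTits.Cover

set_option autoImplicit false

namespace Cfsg.Agent.Chev.CT.UniE7

open Cfsg.Agent.Chev

theorem uni_ok : ckUni Cfsg.Agent.Chev.E7.pk false = true := by
  rw [ckUni, List.all_eq_true]
  intro r hr
  rw [Pk.mem_allRoots] at hr
  have hr : r < 126 := hr
  by_cases h : r < 63
  · exact List.all_eq_true.1 uniA r (List.mem_range.2 h)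
  · have := List.all_eq_true.1 uniB (r - 63) (List.mem_range.2 (by omega))
    rwa [show 63 + (r - 63) = r by omega] at this

end Cfsg.Agent.Chev.CT.UniE7
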