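/-
The Steinberg groups of types E6, E7, B2, D4 without proper finite stem extensions.
-/
import Cfsg.Agent.Lib.CurtisTits.UniB2
import Cfsg.Agent.Lib.CurtisTits.UniCheckB2
import Cfsg.Agent.Lib.CurtisTits.UniCheckD4
import Cfsg.Agent.Lib.CurtisTits.UniCheckE6
import Cfsg.Agent.Lib.CurtisTits.UniCheckE7
import Cfsg.Prelude.Def_KGroupFacts

set_option autoImplicit false

namespace Cfsg.Agent.Chev.CT

open Cfsg.Agent.Chev Cfsg.Lie

universe u

theorem schur_of_ker {D : ChevalleyDatum} {K : Type u} [Field K] (hfin : Finite (D.SteinbergGroup K))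
    (hbot : ∀ (Γ : Type u) [Group Γ] [Finite Γ] (σ : Γ →* D.SteinbergGroup K),
      IsStemExtension σ → σ.ker = ⊥) :
    HasCyclicSchurMultiplier (D.SteinbergGroup K) 1 := by
  have hid : (MonoidHom.id (D.SteinbergGroup K)).ker = ⊥ := by ext g; simp [MonoidHom.mem_ker]
  refine ⟨⟨D.SteinbergGroup K, inferInstance, hfin, MonoidHom.id _, ⟨fun g => ⟨g, rfl⟩, by rw [hid]; exact bot_le,
    by rw [hid]; exact bot_le⟩, ?_⟩, fun Γ _ _ σ hσ => ⟨1, fun g => ⟨1, ?_⟩⟩⟩
  · have : Subsingleton (MonoidHom.id (D.SteinbergGroup K)).ker := by rw [hid]; infer_instance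
    have : Unique (MonoidHom.id (D.SteinbergGroup K)).ker := uniqueOfSubsingleton 1
    have : Unique (Multiplicative (ZMod 1)) := uniqueOfSubsingleton 1
    exact ⟨MulEquiv.ofUnique⟩
  · have : Subsingleton σ.ker := by rw [hbot Γ σ hσ]; infer_instance
    exact Subsingleton.elim _ _

theorem exists_ne01 {K : Type*} [Field K] [Fintype K] (hK : Fintype.card K ≠ 2) : ∃ c : K, c ≠ 0 ∧ c ≠ 1 := by
  classical
  by_contra hc
  push Not at hc
  refine hK (le_antisymm ?_ Fintype.one_lt_card)
  refine (Finset.card_le_card (show (Finset.univ : Finset K) ⊆ {0, 1} from fun c _ => ?_)).trans Finset.card_le_two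
  simp only [Finset.mem_insert, Finset.mem_singleton]
  by_cases h : c = 0
  · exact Or.inl h
  · exact Or.inr (hc c h)

end Cfsg.Agent.Chev.CT
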