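/- Kernel checks for central extensions, type E8: definitions. -/
import Cfsg.Agent.Lib.CurtisTits.UniCheck
import Cfsg.Agent.Lib.Chev.Data.E8

set_option autoImplicit false

namespace Cfsg.Agent.Chev.CT.UniE8

open Cfsg.Agent.Chev

/-- `ckUniR` at one root of E8. -/
def uniR (r : ℕ) : Bool := ckUniR Cfsg.Agent.Chev.E8.pk false r

/-- `ckLink` at one root of E8. -/
def linkR (m : ℕ) : Bool :=
  let P := Cfsg.Agent.Chev.E8.pk
  !((decL P m).isEmpty) && decide (cRounds P m 6 ((decL P m).take 1) = decL P m) &&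
    ((decL P m).all fun p => cmG P p.1 m) &&
    ((decL P m).all fun p => (decL P m).any fun q => Nat.beq q.1 p.2 && Nat.beq q.2 p.1) &&
    (((decL P m).take 1).all fun p => (decL P m).any fun q => hEdge P m p.1 p.2 q || hEdge P m q.1 q.2 p)

end Cfsg.Agent.Chev.CT.UniE8
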