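/- Kernel checks for central extensions, type E8, chunk A0. -/
import Cfsg.Agent.Lib.CurtisTits.UniCheckE8Def

set_option autoImplicit false
set_option Elab.async false

namespace Cfsg.Agent.Chev.CT.UniE8

theorem A0_0 : ((List.range 5).all fun r => uniR (0 + r)) = true := by decide +kernel

theorem A0_1 : ((List.range 5).all fun r => uniR (5 + r)) = true := by decide +kernel

theorem A0_2 : ((List.range 5).all fun r => uniR (10 + r)) = true := by decide +kernel

theorem A0_3 : ((List.range 5).all fun r => uniR (15 + r)) = true := by decide +kernel

theorem A0_4 : ((List.range 5).all fun r => uniR (20 + r)) = true := by decide +kernel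

theorem A0_5 : ((List.range 5).all fun r => uniR (25 + r)) = true := by decide +kernel

theorem A0_ok (r : ℕ) (h1 : 0 ≤ r) (h2 : r < 30) : uniR r = true := by
  by_cases c0 : r < 5
  · have := List.all_eq_true.1 A0_0 (r - 0) (List.mem_range.2 (by omega))
    rwa [show 0 + (r - 0) = r by omega] at this
  by_cases c1 : r < 10
  · have := List.all_eq_true.1 A0_1 (r - 5) (List.mem_range.2 (by omega))
    rwa [show 5 + (r - 5) = r by omega] at this
  by_cases c2 : r < 15
  · have := List.all_eq_true.1 A0_2 (r - 10) (List.mem_range.2 (by omega))
    rwa [show 10 + (r - 10) = r by omega] at this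
  by_cases c3 : r < 20
  · have := List.all_eq_true.1 A0_3 (r - 15) (List.mem_range.2 (by omega))
    rwa [show 15 + (r - 15) = r by omega] at this
  by_cases c4 : r < 25
  · have := List.all_eq_true.1 A0_4 (r - 20) (List.mem_range.2 (by omega))
    rwa [show 20 + (r - 20) = r by omega] at this
  have := List.all_eq_true.1 A0_5 (r - 25) (List.mem_range.2 (by omega))
  rwa [show 25 + (r - 25) = r by omega] at this

end Cfsg.Agent.Chev.CT.UniE8
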