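/- Kernel checks for central extensions, type E8, chunk A1. -/
import Cfsg.Agent.Lib.CurtisTits.UniCheckE8Def

set_option autoImplicit false
set_option Elab.async false

namespace Cfsg.Agent.Chev.CT.UniE8

theorem A1_0 : ((List.range 5).all fun r => uniR (30 + r)) = true := by decide +kernel

theorem A1_1 : ((List.range 5).all fun r => uniR (35 + r)) = true := by decide +kernel

theorem A1_2 : ((List.range 5).all fun r => uniR (40 + r)) = true := by decide +kernel

theorem A1_3 : ((List.range 5).all fun r => uniR (45 + r)) = true := by decide +kernel

theorem A1_4 : ((List.range 5).all fun r => uniR (50 + r)) = true := by decide +kernel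

theorem A1_5 : ((List.range 5).all fun r => uniR (55 + r)) = true := by decide +kernel

theorem A1_ok (r : ℕ) (h1 : 30 ≤ r) (h2 : r < 60) : uniR r = true := by
  by_cases c0 : r < 35
  · have := List.all_eq_true.1 A1_0 (r - 30) (List.mem_range.2 (by omega))
    rwa [show 30 + (r - 30) = r by omega] at this
  by_cases c1 : r < 40
  · have := List.all_eq_true.1 A1_1 (r - 35) (List.mem_range.2 (by omega))
    rwa [show 35 + (r - 35) = r by omega] at this
  by_cases c2 : r < 45
  · have := List.all_eq_true.1 A1_2 (r - 40) (List.mem_range.2 (by omega))
    rwa [show 40 + (r - 40) = r by omega] at this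
  by_cases c3 : r < 50
  · have := List.all_eq_true.1 A1_3 (r - 45) (List.mem_range.2 (by omega))
    rwa [show 45 + (r - 45) = r by omega] at this
  by_cases c4 : r < 55
  · have := List.all_eq_true.1 A1_4 (r - 50) (List.mem_range.2 (by omega))
    rwa [show 50 + (r - 50) = r by omega] at this
  have := List.all_eq_true.1 A1_5 (r - 55) (List.mem_range.2 (by omega))
  rwa [show 55 + (r - 55) = r by omega] at this

end Cfsg.Agent.Chev.CT.UniE8
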