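/- Kernel checks for central extensions, type E8, chunk A2. -/
import Cfsg.Agent.Lib.CurtisTits.UniCheckE8Def

set_option autoImplicit false
set_option Elab.async false

namespace Cfsg.Agent.Chev.CT.UniE8

theorem A2_0 : ((List.range 5).all fun r => uniR (60 + r)) = true := by decide +kernel

theorem A2_1 : ((List.range 5).all fun r => uniR (65 + r)) = true := by decide +kernel

theorem A2_2 : ((List.range 5).all fun r => uniR (70 + r)) = true := by decide +kernel

theorem A2_3 : ((List.range 5).all fun r => uniR (75 + r)) = true := by decide +kernel

theorem A2_4 : ((List.range 5).all fun r => uniR (80 + r)) = true := by decide +kernel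

theorem A2_5 : ((List.range 5).all fun r => uniR (85 + r)) = true := by decide +kernel

theorem A2_ok (r : ℕ) (h1 : 60 ≤ r) (h2 : r < 90) : uniR r = true := by
  by_cases c0 : r < 65
  · have := List.all_eq_true.1 A2_0 (r - 60) (List.mem_range.2 (by omega))
    rwa [show 60 + (r - 60) = r by omega] at this
  by_cases c1 : r < 70
  · have := List.all_eq_true.1 A2_1 (r - 65) (List.mem_range.2 (by omega))
    rwa [show 65 + (r - 65) = r by omega] at this
  by_cases c2 : r < 75
  · have := List.all_eq_true.1 A2_2 (r - 70) (List.mem_range.2 (by omega))
    rwa [show 70 + (r - 70) = r by omega] at this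
  by_cases c3 : r < 80
  · have := List.all_eq_true.1 A2_3 (r - 75) (List.mem_range.2 (by omega))
    rwa [show 75 + (r - 75) = r by omega] at this
  by_cases c4 : r < 85
  · have := List.all_eq_true.1 A2_4 (r - 80) (List.mem_range.2 (by omega))
    rwa [show 80 + (r - 80) = r by omega] at this
  have := List.all_eq_true.1 A2_5 (r - 85) (List.mem_range.2 (by omega))
  rwa [show 85 + (r - 85) = r by omega] at this

end Cfsg.Agent.Chev.CT.UniE8
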