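/- Kernel checks for central extensions, type E8, chunk A3. -/
import Cfsg.Agent.Lib.CurtisTits.UniCheckE8Def

set_option autoImplicit false
set_option Elab.async false

namespace Cfsg.Agent.Chev.CT.UniE8

theorem A3_0 : ((List.range 5).all fun r => uniR (90 + r)) = true := by decide +kernel

theorem A3_1 : ((List.range 5).all fun r => uniR (95 + r)) = true := by decide +kernel

theorem A3_2 : ((List.range 5).all fun r => uniR (100 + r)) = true := by decide +kernel

theorem A3_3 : ((List.range 5).all fun r => uniR (105 + r)) = true := by decide +kernel

theorem A3_4 : ((List.range 5).all fun r => uniR (110 + r)) = true := by decide +kernel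

theorem A3_5 : ((List.range 5).all fun r => uniR (115 + r)) = true := by decide +kernel

theorem A3_ok (r : ℕ) (h1 : 90 ≤ r) (h2 : r < 120) : uniR r = true := by
  by_cases c0 : r < 95
  · have := List.all_eq_true.1 A3_0 (r - 90) (List.mem_range.2 (by omega))
    rwa [show 90 + (r - 90) = r by omega] at this
  by_cases c1 : r < 100
  · have := List.all_eq_true.1 A3_1 (r - 95) (List.mem_range.2 (by omega))
    rwa [show 95 + (r - 95) = r by omega] at this
  by_cases c2 : r < 105
  · have := List.all_eq_true.1 A3_2 (r - 100) (List.mem_range.2 (by omega))
    rwa [show 100 + (r - 100) = r by omega] at this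
  by_cases c3 : r < 110
  · have := List.all_eq_true.1 A3_3 (r - 105) (List.mem_range.2 (by omega))
    rwa [show 105 + (r - 105) = r by omega] at this
  by_cases c4 : r < 115
  · have := List.all_eq_true.1 A3_4 (r - 110) (List.mem_range.2 (by omega))
    rwa [show 110 + (r - 110) = r by omega] at this
  have := List.all_eq_true.1 A3_5 (r - 115) (List.mem_range.2 (by omega))
  rwa [show 115 + (r - 115) = r by omega] at this

end Cfsg.Agent.Chev.CT.UniE8
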