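/- Kernel checks for central extensions, type E8, chunk A4. -/
import Cfsg.Agent.Lib.CurtisTits.UniCheckE8Def

set_option autoImplicit false
set_option Elab.async false

namespace Cfsg.Agent.Chev.CT.UniE8

theorem A4_0 : ((List.range 5).all fun r => uniR (120 + r)) = true := by decide +kernel

theorem A4_1 : ((List.range 5).all fun r => uniR (125 + r)) = true := by decide +kernel

theorem A4_2 : ((List.range 5).all fun r => uniR (130 + r)) = true := by decide +kernel

theorem A4_3 : ((List.range 5).all fun r => uniR (135 + r)) = true := by decide +kernel

theorem A4_4 : ((List.range 5).all fun r => uniR (140 + r)) = true := by decide +kernel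

theorem A4_5 : ((List.range 5).all fun r => uniR (145 + r)) = true := by decide +kernel

theorem A4_ok (r : ℕ) (h1 : 120 ≤ r) (h2 : r < 150) : uniR r = true := by
  by_cases c0 : r < 125
  · have := List.all_eq_true.1 A4_0 (r - 120) (List.mem_range.2 (by omega))
    rwa [show 120 + (r - 120) = r by omega] at this
  by_cases c1 : r < 130
  · have := List.all_eq_true.1 A4_1 (r - 125) (List.mem_range.2 (by omega))
    rwa [show 125 + (r - 125) = r by omega] at this
  by_cases c2 : r < 135
  · have := List.all_eq_true.1 A4_2 (r - 130) (List.mem_range.2 (by omega))
    rwa [show 130 + (r - 130) = r by omega] at this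
  by_cases c3 : r < 140
  · have := List.all_eq_true.1 A4_3 (r - 135) (List.mem_range.2 (by omega))
    rwa [show 135 + (r - 135) = r by omega] at this
  by_cases c4 : r < 145
  · have := List.all_eq_true.1 A4_4 (r - 140) (List.mem_range.2 (by omega))
    rwa [show 140 + (r - 140) = r by omega] at this
  have := List.all_eq_true.1 A4_5 (r - 145) (List.mem_range.2 (by omega))
  rwa [show 145 + (r - 145) = r by omega] at this

end Cfsg.Agent.Chev.CT.UniE8
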