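/- Kernel checks for central extensions, type E8, chunk A5. -/
import Cfsg.Agent.Lib.CurtisTits.UniCheckE8Def

set_option autoImplicit false
set_option Elab.async false

namespace Cfsg.Agent.Chev.CT.UniE8

theorem A5_0 : ((List.range 5).all fun r => uniR (150 + r)) = true := by decide +kernel

theorem A5_1 : ((List.range 5).all fun r => uniR (155 + r)) = true := by decide +kernel

theorem A5_2 : ((List.range 5).all fun r => uniR (160 + r)) = true := by decide +kernel

theorem A5_3 : ((List.range 5).all fun r => uniR (165 + r)) = true := by decide +kernel

theorem A5_4 : ((List.range 5).all fun r => uniR (170 + r)) = true := by decide +kernel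

theorem A5_5 : ((List.range 5).all fun r => uniR (175 + r)) = true := by decide +kernel

theorem A5_ok (r : ℕ) (h1 : 150 ≤ r) (h2 : r < 180) : uniR r = true := by
  by_cases c0 : r < 155
  · have := List.all_eq_true.1 A5_0 (r - 150) (List.mem_range.2 (by omega))
    rwa [show 150 + (r - 150) = r by omega] at this
  by_cases c1 : r < 160
  · have := List.all_eq_true.1 A5_1 (r - 155) (List.mem_range.2 (by omega))
    rwa [show 155 + (r - 155) = r by omega] at this
  by_cases c2 : r < 165
  · have := List.all_eq_true.1 A5_2 (r - 160) (List.mem_range.2 (by omega))
    rwa [show 160 + (r - 160) = r by omega] at this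
  by_cases c3 : r < 170
  · have := List.all_eq_true.1 A5_3 (r - 165) (List.mem_range.2 (by omega))
    rwa [show 165 + (r - 165) = r by omega] at this
  by_cases c4 : r < 175
  · have := List.all_eq_true.1 A5_4 (r - 170) (List.mem_range.2 (by omega))
    rwa [show 170 + (r - 170) = r by omega] at this
  have := List.all_eq_true.1 A5_5 (r - 175) (List.mem_range.2 (by omega))
  rwa [show 175 + (r - 175) = r by omega] at this

end Cfsg.Agent.Chev.CT.UniE8
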