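/- Kernel checks for central extensions, type E8, chunk A6. -/
import Cfsg.Agent.Lib.CurtisTits.UniCheckE8Def

set_option autoImplicit false
set_option Elab.async false

namespace Cfsg.Agent.Chev.CT.UniE8

theorem A6_0 : ((List.range 5).all fun r => uniR (180 + r)) = true := by decide +kernel

theorem A6_1 : ((List.range 5).all fun r => uniR (185 + r)) = true := by decide +kernel

theorem A6_2 : ((List.range 5).all fun r => uniR (190 + r)) = true := by decide +kernel

theorem A6_3 : ((List.range 5).all fun r => uniR (195 + r)) = true := by decide +kernel

theorem A6_4 : ((List.range 5).all fun r => uniR (200 + r)) = true := by decide +kernel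

theorem A6_5 : ((List.range 5).all fun r => uniR (205 + r)) = true := by decide +kernel

theorem A6_ok (r : ℕ) (h1 : 180 ≤ r) (h2 : r < 210) : uniR r = true := by
  by_cases c0 : r < 185
  · have := List.all_eq_true.1 A6_0 (r - 180) (List.mem_range.2 (by omega))
    rwa [show 180 + (r - 180) = r by omega] at this
  by_cases c1 : r < 190
  · have := List.all_eq_true.1 A6_1 (r - 185) (List.mem_range.2 (by omega))
    rwa [show 185 + (r - 185) = r by omega] at this
  by_cases c2 : r < 195
  · have := List.all_eq_true.1 A6_2 (r - 190) (List.mem_range.2 (by omega))
    rwa [show 190 + (r - 190) = r by omega] at this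
  by_cases c3 : r < 200
  · have := List.all_eq_true.1 A6_3 (r - 195) (List.mem_range.2 (by omega))
    rwa [show 195 + (r - 195) = r by omega] at this
  by_cases c4 : r < 205
  · have := List.all_eq_true.1 A6_4 (r - 200) (List.mem_range.2 (by omega))
    rwa [show 200 + (r - 200) = r by omega] at this
  have := List.all_eq_true.1 A6_5 (r - 205) (List.mem_range.2 (by omega))
  rwa [show 205 + (r - 205) = r by omega] at this

end Cfsg.Agent.Chev.CT.UniE8
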