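/- Kernel checks for central extensions, type E8, chunk L3. -/
import Cfsg.Agent.Lib.CurtisTits.UniCheckE8Def

set_option autoImplicit false
set_option Elab.async false

namespace Cfsg.Agent.Chev.CT.UniE8

theorem L3_0 : ((List.range 10).all fun r => linkR (180 + r)) = true := by decide +kernel

theorem L3_1 : ((List.range 10).all fun r => linkR (190 + r)) = true := by decide +kernel

theorem L3_2 : ((List.range 10).all fun r => linkR (200 + r)) = true := by decide +kernel

theorem L3_3 : ((List.range 10).all fun r => linkR (210 + r)) = true := by decide +kernel

theorem L3_4 : ((List.range 10).all fun r => linkR (220 + r)) = true := by decide +kernel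

theorem L3_5 : ((List.range 10).all fun r => linkR (230 + r)) = true := by decide +kernel

theorem L3_ok (r : ℕ) (h1 : 180 ≤ r) (h2 : r < 240) : linkR r = true := by
  by_cases c0 : r < 190
  · have := List.all_eq_true.1 L3_0 (r - 180) (List.mem_range.2 (by omega))
    rwa [show 180 + (r - 180) = r by omega] at this
  by_cases c1 : r < 200
  · have := List.all_eq_true.1 L3_1 (r - 190) (List.mem_range.2 (by omega))
    rwa [show 190 + (r - 190) = r by omega] at this
  by_cases c2 : r < 210
  · have := List.all_eq_true.1 L3_2 (r - 200) (List.mem_range.2 (by omega))
    rwa [show 200 + (r - 200) = r by omega] at this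
  by_cases c3 : r < 220
  · have := List.all_eq_true.1 L3_3 (r - 210) (List.mem_range.2 (by omega))
    rwa [show 210 + (r - 210) = r by omega] at this
  by_cases c4 : r < 230
  · have := List.all_eq_true.1 L3_4 (r - 220) (List.mem_range.2 (by omega))
    rwa [show 220 + (r - 220) = r by omega] at this
  have := List.all_eq_true.1 L3_5 (r - 230) (List.mem_range.2 (by omega))
  rwa [show 230 + (r - 230) = r by omega] at this

end Cfsg.Agent.Chev.CT.UniE8
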