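/- Kernel checks for central extensions, type E8, collected. -/
import Cfsg.Agent.Lib.CurtisTits.UniCheckE8A0
import Cfsg.Agent.Lib.CurtisTits.UniCheckE8A1
import Cfsg.Agent.Lib.CurtisTits.UniCheckE8A2
import Cfsg.Agent.Lib.CurtisTits.UniCheckE8A3
import Cfsg.Agent.Lib.CurtisTits.UniCheckE8A4
import Cfsg.Agent.Lib.CurtisTits.UniCheckE8A5
import Cfsg.Agent.Lib.CurtisTits.UniCheckE8A6
import Cfsg.Agent.Lib.CurtisTits.UniCheckE8A7
import Cfsg.Agent.Lib.CurtisTits.UniCheckE8L0
import Cfsg.Agent.Lib.CurtisTits.UniCheckE8L1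
import Cfsg.Agent.Lib.CurtisTits.UniCheckE8L2
import Cfsg.Agent.Lib.CurtisTits.UniCheckE8L3
import Cfsg.Agent.Lib.CurtisTits.Cover

set_option autoImplicit false

namespace Cfsg.Agent.Chev.CT.UniE8

open Cfsg.Agent.Chev

theorem uni_ok : ckUni Cfsg.Agent.Chev.E8.pk false = true := by
  rw [ckUni, List.all_eq_true]
  intro r hr
  rw [Pk.mem_allRoots] at hr
  have hr : r < 240 := hr
  show uniR r = true
  by_cases c0 : r < 30
  · exact A0_ok r (by omega) c0
  by_cases c1 : r < 60
  · exact A1_ok r (by omega) c1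
  by_cases c2 : r < 90
  · exact A2_ok r (by omega) c2
  by_cases c3 : r < 120
  · exact A3_ok r (by omega) c3
  by_cases c4 : r < 150
  · exact A4_ok r (by omega) c4
  by_cases c5 : r < 180
  · exact A5_ok r (by omega) c5
  by_cases c6 : r < 210
  · exact A6_ok r (by omega) c6
  exact A7_ok r (by omega) hr

theorem link_ok : ckLink Cfsg.Agent.Chev.E8.pk = true := by
  rw [ckLink, List.all_eq_true]
  intro r hr
  rw [Pk.mem_allRoots] at hr
  have hr : r < 240 := hr
  show linkR r = true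
  by_cases c0 : r < 60
  · exact L0_ok r (by omega) c0
  by_cases c1 : r < 120
  · exact L1_ok r (by omega) c1
  by_cases c2 : r < 180
  · exact L2_ok r (by omega) c2
  exact L3_ok r (by omega) hr

end Cfsg.Agent.Chev.CT.UniE8
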