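/-
Central extensions split over small fields when the torus separates enough pairs of roots.
-/
import Cfsg.Agent.Lib.CurtisTits.UniGenMain

set_option autoImplicit false
set_option linter.unusedSectionVars false
set_option maxHeartbeats 1000000

namespace Cfsg.Agent.Chev.CT

open Cfsg.Agent.Chev Cfsg.Lie

/-- The exponent of the character of a root at a torus element. -/
def chiE (P : Pk) (e : List ℤ) (r : ℕ) : ℤ := ((List.range P.rank).map fun i => e.getD i 0 * P.A i r).sum

/-- A torus element fixes `s` and moves `r`. -/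
def sepB (P : Pk) (m : ℕ) (es : List (List ℤ)) (r s : ℕ) : Bool :=
  es.any fun e => decide (chiE P e s % (m : ℤ) = 0) && !decide (chiE P e r % (m : ℤ) = 0)

/-- The root elements commute and a torus element separates them. -/
def cSep (P : Pk) (m : ℕ) (es : List (List ℤ)) (r s : ℕ) : Bool :=
  !Nat.beq s r && !Nat.beq s (P.ng r) && (P.cterms r s).isEmpty && (P.cterms s r).isEmpty &&
    !Nat.beq r (P.ng s) && (sepB P m es r s || sepB P m es s r)

/-- A decomposition of `q` commuting with `r`; `sq` lists the allowed squares of the constant. -/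
def decB (P : Pk) (m : ℕ) (es : List (List ℤ)) (sq : List ℤ) (r q : ℕ) : Bool :=
  P.allRoots.any fun a =>
    let b := P.tgt (P.ng a) q 0
    Nat.blt b P.nroots && !Nat.beq b a && !Nat.beq b (P.ng a) &&
    (match P.cterms a b with
      | [e] => Nat.beq e.1 q && Nat.beq e.2.2.2 1 && sq.contains (e.2.1 * e.2.1)
      | _ => false) &&
    cSep P m es r a && cSep P m es r b

/-- All pairs are handled. -/
def ckSep (P : Pk) (m : ℕ) (es : List (List ℤ)) (sq : List ℤ) : Bool :=
  P.allRoots.all fun r =>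
    decB P m es sq r r && (es.any fun e => !decide (chiE P e r % (m : ℤ) = 0)) &&
    P.allRoots.all fun s => Nat.beq s r || Nat.beq s (P.ng r) || sepB P m es s r ||
      ((P.cterms r s).isEmpty && decB P m es sq r s)

/-- A scalar behaving as a generator of a cyclic group of order `m`, and the allowed constants. -/
structure SmallScal (K : Type*) [Field K] (m : ℕ) (sq : List ℤ) (v : K) : Prop where
  ne : v ≠ 0
  fix : ∀ k : ℤ, k % (m : ℤ) = 0 → v ^ k = 1
  mov : ∀ k : ℤ, k % (m : ℤ) ≠ 0 → v ^ k ≠ 1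
  sq : ∀ c : ℤ, c * c ∈ sq → (c : K) * (c : K) = 1

section Small

variable {D : ChevalleyDatum} {P : Pk} {K : Type*} [Field K] {C : Type*} [Group C]
  {x : ℕ → K → C} {θ : C →* GL D.Idx K} {Γ : Type*} [Group Γ] {σ : Γ →* C} {ξ : ℕ → K → Γ}
  (E : ExtData (P := P) x θ σ ξ) (hσ : Function.Surjective σ) {m : ℕ} {es : List (List ℤ)} {sq : List ℤ} {v : K}
  (hv : SmallScal K m sq v)
include E hσ hv

theorem diag_of_exp (e : List ℤ) : ∃ γ : Γ, ∀ q < P.nroots, ∀ u,
    σ γ * x q u * (σ γ)⁻¹ = x q (v ^ chiE P e q * u) := by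
  obtain ⟨g, hg⟩ := exists_diag E.cov (fun i => e.getD i 0) hv.ne
  obtain ⟨γ, rfl⟩ := hσ g
  exact ⟨γ, hg⟩

theorem sep_spec {r s : ℕ} (e : sepB P m es r s = true) : ∃ (γ : Γ) (χ : ℕ → K),
    (∀ q < P.nroots, ∀ u, σ γ * x q u * (σ γ)⁻¹ = x q (χ q * u)) ∧ χ s = 1 ∧ χ r ≠ 1 := by
  simp only [sepB, List.any_eq_true, Bool.and_eq_true, Bool.not_eq_true', decide_eq_true_eq,
    decide_eq_false_iff_not] at e
  obtain ⟨e, -, h1, h2⟩ := e
  obtain ⟨γ, hγ⟩ := diag_of_exp E hσ hv e
  exact ⟨γ, fun q => v ^ chiE P e q, hγ, hv.fix _ h1, hv.mov _ h2⟩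

theorem cSep_spec {r s : ℕ} (hr : r < P.nroots) (hs : s < P.nroots) (e : cSep P m es r s = true) (t u : K) :
    Commute (ξ r t) (ξ s u) := by
  simp only [cSep, Bool.and_eq_true, Bool.or_eq_true, Bool.not_eq_true', nbeq, decide_eq_false_iff_not,
    decide_eq_true_eq] at e
  obtain ⟨⟨⟨⟨⟨h1, h2⟩, h3⟩, h4⟩, h5⟩, h6 | h6⟩ := e
  · obtain ⟨γ, χ, hg, a, b⟩ := sep_spec E hσ hv h6
    exact (cm_one_iff (a := ξ s u) (b := ξ r t)).1
      (kill_sep E hr hs (comm_of_empty E hr hs h1 h2 h3) hg a b t u) |> Eq.symm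
  · obtain ⟨γ, χ, hg, a, b⟩ := sep_spec E hσ hv h6
    exact (cm_one_iff (a := ξ r t) (b := ξ s u)).1
      (kill_sep E hs hr (comm_of_empty E hs hr (Ne.symm h1) h5 h4) hg a b u t)

theorem decB_spec {r q : ℕ} (hr : r < P.nroots) (e : decB P m es sq r q = true) (t u : K) :
    Fc ξ r q t u = 1 := by
  simp only [decB, List.any_eq_true, Bool.and_eq_true, Pk.mem_allRoots, Bool.not_eq_true', nbeq,
    decide_eq_false_iff_not, Nat.blt_eq] at e
  obtain ⟨a, ha, ⟨⟨⟨⟨hb, hba⟩, hbn⟩, hm⟩, hra⟩, hrb⟩ := e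
  set b := P.tgt (P.ng a) q 0
  split at hm
  next c hc =>
    simp only [Bool.and_eq_true, decide_eq_true_eq, nbeq, List.contains_iff_mem] at hm
    obtain ⟨⟨hq, hj⟩, hsq⟩ := hm
    set w : K := (c.2.1 : K) * u
    have hσz : σ (cm (ξ b w) (ξ a (-1))) = x q u := by
      simp only [cm, map_mul, map_inv, E.lift]
      rw [commC E.cov ha hb hba hbn (-1) w, rhsW, hc]
      simp only [List.map_cons, List.map_nil, List.prod_cons, List.prod_nil, mul_one, hq, hj, neg_neg, one_pow,
        pow_one, w, ← mul_assoc, hv.sq _ hsq, one_mul]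
    have hca := cSep_spec E hσ hv hr ha hra t
    have hcb := cSep_spec E hσ hv hr hb hrb t
    show cm (ξ q u) (ξ r t) = 1
    rw [cm_congr E.central (a := ξ q u) (a' := cm (ξ b w) (ξ a (-1))) (b' := ξ r t) (by rw [hσz, E.lift]) rfl,
      cm_one_iff]
    exact (((((hcb w).inv_right).mul_right ((hca (-1)).inv_right)).mul_right (hcb w)).mul_right
      (hca (-1))).symm.eq
  next => simp at hm

/-- Sections over a small field. -/
theorem exists_rel_sep (hin : ∀ r t, ξ r t ∈ commutator Γ) (hck : ckSep P m es sq = true) :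
    ∃ y : ℕ → K → Γ, Rel P (okAll P) y ∧ ∀ r < P.nroots, ∀ t, σ (y r t) = x r t := by
  simp only [ckSep, List.all_eq_true, Pk.mem_allRoots, Bool.and_eq_true, Bool.or_eq_true, List.any_eq_true,
    Bool.not_eq_true', decide_eq_false_iff_not, nbeq, decide_eq_true_eq] at hck
  have B : GB (P := P) x θ σ ξ := by
    refine ⟨E, hσ, hin, fun r hr => decB_spec E hσ hv hr (hck r hr).1.1, fun r hr => ?_⟩
    obtain ⟨e, -, he⟩ := (hck r hr).1.2
    obtain ⟨γ, hγ⟩ := diag_of_exp E hσ hv e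
    exact ⟨γ, fun q => v ^ chiE P e q, hγ, hv.mov _ he⟩
  refine exists_rel_of_gb B fun y hy r s hr hs hsr hsn => ?_
  rcases (hck r hr).2 s hs with ((h | h) | h) | ⟨h1, h2⟩
  · exact absurd h hsr
  · exact absurd h hsn
  · obtain ⟨γ, χ, hg, a, b⟩ := sep_spec E hσ hv h
    exact Or.inr ⟨γ, χ, hg, a, b⟩
  · refine Or.inl fun t u => ?_
    rw [rhsW, List.isEmpty_iff.1 h1, List.map_nil, List.prod_nil,
      cm_congr E.central (a' := ξ s u) (b' := ξ r t) (by rw [hy s hs, E.lift]) (by rw [hy r hr, E.lift])]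
    exact decB_spec E hσ hv hr h2 t u

end Small

/-- Universality over a small field. -/
theorem exists_unique_lift_sep {D : ChevalleyDatum} {P : Pk} {K : Type*} [Field K] (h : Full D P)
    {m : ℕ} {es : List (List ℤ)} {sq : List ℤ} {v : K} (hv : SmallScal K m sq v)
    (hck : ckSep P m es sq = true) (hperf : commutator (D.SteinbergCover K) = ⊤) {G₁ E : Type*} [Group G₁]
    [Group E] (π₁ : E →* G₁) (hπ : Function.Surjective π₁) (hc : π₁.ker ≤ Subgroup.center E)
    (σ : D.SteinbergCover K →* G₁) : ∃! τ : D.SteinbergCover K →* E, π₁.comp τ = σ := by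
  refine exists_unique_lift_of_split h hperf π₁ hπ hc σ fun Γ p hp hpc => ?_
  have hmap : (commutator Γ).map p = ⊤ := by
    rw [commutator_def, Subgroup.map_commutator, ← MonoidHom.range_eq_map, MonoidHom.range_eq_top.2 hp,
      ← commutator_def, hperf]
  have hlift : ∀ (r : ℕ) (t : K), ∃ z ∈ commutator Γ, p z = D.scGen K r t := fun r t =>
    Subgroup.mem_map.1 (hmap ▸ Subgroup.mem_top _)
  choose ξ hξc hξ using hlift
  exact exists_rel_sep (⟨cov_Sc h, hpc, hξ⟩ : ExtData (P := P) (D.scGen K) (thSc K h) p ξ) hp hv hξc hck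

end Cfsg.Agent.Chev.CT
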