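/-
Central extensions of the presented group of type F4 split over every field of more than two elements.
-/
import Cfsg.Agent.Lib.CurtisTits.UniSep
import Cfsg.Agent.Lib.CurtisTits.SchurLift

set_option autoImplicit false
set_option maxHeartbeats 1000000

namespace Cfsg.Agent.Chev.CT

open Cfsg.Agent.Chev Cfsg.Lie

/-- All exponent vectors of length four with entries below `m`. -/
def exps4 (m : ℕ) : List (List ℤ) :=
  let R := (List.range m).map Int.ofNat
  R.flatMap fun a => R.flatMap fun b => R.flatMap fun c => R.map fun d => [a, b, c, d]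

theorem ckSep_F4_three : ckSep Chev.F4.pk 3 (exps4 3) [1] = true := by decide +kernel

theorem ckSep_F4_two : ckSep Chev.F4.pk 2 (exps4 2) [1, 4] = true := by decide +kernel

theorem exists_smallScal {K : Type*} [Field K] [Fintype K] {m : ℕ} (hm : Fintype.card K = m + 1)
    {sq : List ℤ} (hsq : ∀ c : ℤ, c * c ∈ sq → (c : K) * (c : K) = 1) : ∃ v : K, SmallScal K m sq v := by
  obtain ⟨g, hg⟩ := IsCyclic.exists_generator (α := Kˣ)
  have ho : orderOf g = m := by
    classical
    rw [orderOf_eq_card_of_forall_mem_zpowers hg, Nat.card_eq_fintype_card, Fintype.card_units, hm]; omega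
  have hk : ∀ k : ℤ, (g : K) ^ k = 1 ↔ k % (m : ℤ) = 0 := fun k => by
    rw [← Units.val_zpow_eq_zpow_val, Units.val_eq_one, ← orderOf_dvd_iff_zpow_eq_one, ho,
      Int.dvd_iff_emod_eq_zero]
  exact ⟨g, g.ne_zero, fun k h => (hk k).2 h, fun k h e => h ((hk k).1 e), hsq⟩

universe u

/-- Lifts into central extensions for F4. -/
theorem lift_F4 {K : Type u} [Field K] [Fintype K] (hK : 3 ≤ Fintype.card K) (h : Full chevF4 Chev.F4.pk)
    (hperf : commutator (chevF4.SteinbergCover K) = ⊤)
    (E : Type u) [Group E] (π₁ : E →* chevF4.group K) (hπ : Function.Surjective π₁)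
    (hc : π₁.ker ≤ Subgroup.center E) (σ : chevF4.SteinbergCover K →* chevF4.group K) :
    ∃! τ, π₁.comp τ = σ := by
  classical
  rcases Nat.lt_or_ge (Fintype.card K) 5 with hlt | hge
  · have h0 : ((Fintype.card K : ℕ) : K) = 0 := Nat.cast_card_eq_zero K
    rcases (by omega : Fintype.card K = 3 ∨ Fintype.card K = 4) with e | e
    · obtain ⟨v, hv⟩ := exists_smallScal (K := K) (m := 2) (sq := [1, 4]) e fun c hc => by
        rw [e] at h0
        rw [← Int.cast_mul]
        simp only [List.mem_cons, List.not_mem_nil, or_false] at hc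
        rcases hc with hc | hc <;> rw [hc]
        · simp
        · have : ((4 : ℤ) : K) = 1 := by push_cast; push_cast at h0; linear_combination h0
          exact this
      exact exists_unique_lift_sep h hv ckSep_F4_two hperf π₁ hπ hc σ
    · obtain ⟨v, hv⟩ := exists_smallScal (K := K) (m := 3) (sq := [1]) e fun c hc => by
        rw [← Int.cast_mul, List.mem_singleton.1 hc, Int.cast_one]
      exact exists_unique_lift_sep h hv ckSep_F4_three hperf π₁ hπ hc σ
  · exact lift_big h ckGen_F4 hperf ⟨Finset.univ, by rw [Finset.card_univ]; omega⟩ E π₁ hπ hc σ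

end Cfsg.Agent.Chev.CT
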