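/-
Projective representations of the presented group over a finite field in the natural characteristic lift.
-/
import Cfsg.Agent.Lib.CurtisTits.UniGenMain

set_option autoImplicit false
set_option linter.unusedSectionVars false
set_option maxHeartbeats 1000000

namespace Cfsg.Agent.Chev.CT

open Cfsg.Agent.Chev Cfsg.Lie
open scoped commutatorElement MatrixGroups

section Scalars

variable {L : Type*} [Field L] (p : ℕ) [Fact p.Prime] [CharP L p] {n : ℕ}

theorem center_pow_eq_one {z : GL (Fin n) L} (hz : z ∈ Subgroup.center (GL (Fin n) L)) (h : z ^ p = 1) :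
    z = 1 := by
  obtain ⟨c, hc⟩ := Matrix.GeneralLinearGroup.mem_center_iff_val_mem_range_scalar.1 hz
  apply Units.ext
  have h1 : ((z : Matrix (Fin n) (Fin n) L)) ^ p = 1 := by rw [← Units.val_pow_eq_pow_val, h, Units.val_one]
  rw [← hc, ← map_pow] at h1
  rw [← hc, Units.val_one]
  rcases Nat.eq_zero_or_pos n with rfl | hn
  · ext i
    exact i.elim0
  · have hcp : c ^ p = 1 := by
      have := congrFun (congrFun h1 ⟨0, hn⟩) ⟨0, hn⟩
      simpa [Matrix.scalar_apply] using this
    have : (c - 1) ^ p = 0 := by rw [sub_pow_char, hcp, one_pow, sub_self]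
    rw [sub_eq_zero.1 ((pow_eq_zero_iff (Fact.out : p.Prime).ne_zero).1 this), map_one]

theorem center_pPow_eq_one {z : GL (Fin n) L} (hz : z ∈ Subgroup.center (GL (Fin n) L)) :
    ∀ k : ℕ, z ^ p ^ k = 1 → z = 1
  | 0, h => by simpa using h
  | k + 1, h => center_pPow_eq_one hz k (center_pow_eq_one p (pow_mem hz _) (by rwa [← pow_mul, ← pow_succ]))

theorem center_pow_card_eq_one {z : GL (Fin n) L} (hz : z ∈ Subgroup.center (GL (Fin n) L))
    (hd : Matrix.GeneralLinearGroup.det z = 1) : z ^ n = 1 := by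
  obtain ⟨c, hc⟩ := Matrix.GeneralLinearGroup.mem_center_iff_val_mem_range_scalar.1 hz
  have h1 : Matrix.det (z : Matrix (Fin n) (Fin n) L) = 1 := congrArg Units.val hd
  rw [← hc, Matrix.scalar_apply, Matrix.det_diagonal, Finset.prod_const, Finset.card_univ, Fintype.card_fin] at h1
  apply Units.ext
  rw [Units.val_pow_eq_pow_val, ← hc, ← map_pow, h1, map_one, Units.val_one]

/-- An element of order dividing `p` modulo scalars and of determinant one has such a lift. -/
theorem exists_pLift {A : GL (Fin n) L} (hA : Matrix.GeneralLinearGroup.det A = 1)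
    (h : A ^ p ∈ Subgroup.center (GL (Fin n) L)) :
    ∃ B, B ^ p = 1 ∧ B⁻¹ * A ∈ Subgroup.center (GL (Fin n) L) := by
  set z := A ^ p
  rcases Nat.eq_zero_or_pos n with rfl | hn
  · exact ⟨1, one_pow _, by
      rw [show A = 1 from Units.ext (by ext i; exact i.elim0)]; simp [one_mem]⟩
  have hzn : z ^ n = 1 := center_pow_card_eq_one h (by simp [z, hA])
  have hfin : IsOfFinOrder z := isOfFinOrder_iff_pow_eq_one.2 ⟨n, hn, hzn⟩
  have hp := (Fact.out : p.Prime)
  have hcop : p.Coprime (orderOf z) := by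
    refine hp.coprime_iff_not_dvd.2 fun hdv => ?_
    obtain ⟨e, he⟩ := hdv
    have he0 : 0 < e := by
      have := hfin.orderOf_pos
      rw [he] at this
      exact Nat.pos_of_mul_pos_left this
    have : z ^ e = 1 := center_pow_eq_one p (pow_mem h _) (by rw [← pow_mul, mul_comm, ← he, pow_orderOf_eq_one])
    have h2 := Nat.le_of_dvd he0 (orderOf_dvd_of_pow_eq_one this)
    rw [he] at h2
    have := hp.two_le
    nlinarith
  obtain ⟨e, he⟩ := exists_pow_eq_self_of_coprime hcop
  have hz' : z ^ e ∈ Subgroup.center (GL (Fin n) L) := pow_mem h e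
  refine ⟨A * (z ^ e)⁻¹, ?_, ?_⟩
  · rw [(show Commute A ((z ^ e)⁻¹) from (Subgroup.mem_center_iff.1 (inv_mem hz') A)).mul_pow, inv_pow]
    show z * ((z ^ e) ^ p)⁻¹ = 1
    rw [← pow_mul, mul_comm e p, pow_mul, he, mul_inv_cancel]
  · rw [mul_inv_rev, inv_inv, mul_assoc, inv_mul_cancel, mul_one]
    exact hz'

/-- A group generated by elements of order dividing `p` is a `p`-group if it is one modulo scalars. -/
theorem eq_one_of_mem {S : Set (GL (Fin n) L)} (hS : ∀ a ∈ S, a ^ p = 1)
    {U : Subgroup (GL (Fin n) L ⧸ Subgroup.center (GL (Fin n) L))} [Finite U] (hU : IsPGroup p U)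
    (hSU : ∀ a ∈ S, QuotientGroup.mk' _ a ∈ U) {w : GL (Fin n) L} (hw : w ∈ Subgroup.closure S)
    (hw1 : QuotientGroup.mk' (Subgroup.center (GL (Fin n) L)) w = 1) : w = 1 := by
  set Y := Subgroup.closure S
  have hY : ∀ a ∈ Y, QuotientGroup.mk' _ a ∈ U := by
    have : Y ≤ U.comap (QuotientGroup.mk' _) := (Subgroup.closure_le _).2 hSU
    exact fun a ha => this ha
  let f : Y →* U :=
    ((QuotientGroup.mk' (Subgroup.center (GL (Fin n) L))).comp Y.subtype).codRestrict U fun a => hY a a.2
  have hker : f.ker ≤ Subgroup.center Y := fun a ha => by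
    have h1 : QuotientGroup.mk' (Subgroup.center (GL (Fin n) L)) (a : GL (Fin n) L) = 1 :=
      congrArg Subtype.val (MonoidHom.mem_ker.1 ha)
    rw [QuotientGroup.mk'_apply, QuotientGroup.eq_one_iff] at h1
    exact Subgroup.mem_center_iff.2 fun b => Subtype.ext (Subgroup.mem_center_iff.1 h1 b)
  obtain ⟨k, hk⟩ := (IsPGroup.iff_card (G := U)).1 hU
  have hdvd : (Subgroup.center Y).index ∣ p ^ k :=
    (Subgroup.index_dvd_of_le hker).trans (by
      rw [Subgroup.index_ker, ← hk]; exact Subgroup.card_subgroup_dvd_card _)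
  obtain ⟨j, -, hj⟩ := (Nat.dvd_prime_pow (Fact.out : p.Prime)).1 hdvd
  haveI : (Subgroup.center Y).FiniteIndex :=
    ⟨by rw [hj]; exact pow_ne_zero _ (Fact.out : p.Prime).ne_zero⟩
  let g : Y →* Y := MonoidHom.mk' (fun a => (MonoidHom.transferCenterPow Y a : Y) ^ p) fun a b => by
    rw [map_mul, Subgroup.coe_mul]
    exact (show Commute (MonoidHom.transferCenterPow Y a : Y) (MonoidHom.transferCenterPow Y b : Y) from
      Subgroup.mem_center_iff.1 (MonoidHom.transferCenterPow Y b).2 _).mul_pow p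
  have hg : ∀ a : Y, (g a : GL (Fin n) L) = (a : GL (Fin n) L) ^ p ^ (j + 1) := fun a => by
    simp [g, pow_succ, pow_mul, hj]
  have hall : ∀ a ∈ Y, a ^ p ^ (j + 1) = 1 := by
    have : (⊤ : Subgroup Y) ≤ g.ker := by
      rw [← Subgroup.closure_closure_coe_preimage (k := S), Subgroup.closure_le]
      intro a ha
      refine MonoidHom.mem_ker.2 (Subtype.ext ?_)
      rw [hg, pow_succ', pow_mul, hS _ ha]
      simp
    intro a ha
    rw [← hg ⟨a, ha⟩, MonoidHom.mem_ker.1 (this (Subgroup.mem_top _))]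
    rfl
  rw [QuotientGroup.mk'_apply, QuotientGroup.eq_one_iff] at hw1
  exact center_pPow_eq_one p hw1 (j + 1) (hall w hw)

end Scalars

section Small

variable {D : ChevalleyDatum} {P : Pk} {K : Type*} [Field K] {C : Type*} [Group C] {x : ℕ → K → C}
  {θ : C →* GL D.Idx K} (H : Cov D P x θ)
include H

theorem x_pow {r : ℕ} (hr : r < P.nroots) (t : K) : ∀ k : ℕ, x r t ^ k = x r (k * t)
  | 0 => by rw [pow_zero, Nat.cast_zero, zero_mul, x_zeroC H hr]
  | k + 1 => by rw [pow_succ, x_pow hr t k, x_addC H hr]; congr 1; push_cast; ring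

/-- The root elements of a positive system form a finite `p`-group. -/
theorem genC_word_pGroup [Fintype K] (p : ℕ) [Fact p.Prime] [CharP K p] {l : List ℕ} (hl : WordOk P l) :
    Finite (genC x fun q => q < P.nroots ∧ P.isPos (wl P l q) = true) ∧
    IsPGroup p (genC x fun q => q < P.nroots ∧ P.isPos (wl P l q) = true) := by
  classical
  set V := genC x fun q => P.isPos q = true
  have hθ : ∀ a ∈ V, θ a ∈ D.posUnipotent K := by
    have : V ≤ (D.posUnipotent K).comap θ := genC_le x fun r hr t => by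
      show θ (x r t) ∈ D.posUnipotent K
      rw [H.img r (P.isPos_iff.1 hr).2]
      exact H.okD.xG_mem_pos hr t
    exact fun a ha => this ha
  let f : V →* D.posUnipotent K := (θ.comp V.subtype).codRestrict _ fun a => hθ a a.2
  have hf : Function.Injective f := (injective_iff_map_eq_one f).2 fun a ha =>
    Subtype.ext (pos_inj H a.2 (congrArg Subtype.val ha))
  have hU : IsPGroup p (D.posUnipotent K) := by
    obtain ⟨e, -, he⟩ := FiniteField.card K p
    refine IsPGroup.of_card (n := (e : ℕ) * (P.nroots / 2)) ?_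
    rw [H.okD.card_pos H.cC, pow_mul, ← he]
  haveI : Finite (D.posUnipotent K) := Nat.finite_of_card_ne_zero (by
    rw [H.okD.card_pos H.cC]; exact pow_ne_zero _ Fintype.card_ne_zero)
  haveI hVf : Finite V := Finite.of_injective f hf
  have hV : IsPGroup p V := IsPGroup.of_injective hU f hf
  set g := nWC P x l
  have hle : genC x (fun q => q < P.nroots ∧ P.isPos (wl P l q) = true) ≤
      V.comap (MulAut.conj g).toMonoidHom := genC_le x fun q hq t => by
    obtain ⟨c, -, h1, -⟩ := nWC_conj H l hl q hq.1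
    show g * x q t * g⁻¹ ∈ V
    rw [h1]
    exact x_mem_genC x hq.2 _
  let c : genC x (fun q => q < P.nroots ∧ P.isPos (wl P l q) = true) →* V :=
    ((MulAut.conj g).toMonoidHom.comp (Subgroup.subtype _)).codRestrict V fun a => hle a.2
  have hc : Function.Injective c := fun a b e => Subtype.ext ((MulAut.conj g).injective (congrArg Subtype.val e))
  exact ⟨Finite.of_injective c hc, IsPGroup.of_injective hV c hc⟩

/-- Over a finite field of characteristic `p` a projective representation in characteristic `p` has lifts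
satisfying the relations. -/
theorem exists_rel_small [Finite K] (p : ℕ) [Fact p.Prime] [CharP K p] {L : Type*} [Field L] [CharP L p] {n : ℕ}
    (hperf : commutator C = ⊤) (φ : C →* GL (Fin n) L ⧸ Subgroup.center (GL (Fin n) L)) :
    ∃ y : ℕ → K → GL (Fin n) L, Rel P (okAll P) y ∧
      ∀ r < P.nroots, ∀ t, QuotientGroup.mk' (Subgroup.center (GL (Fin n) L)) (y r t) = φ (x r t) := by
  have := Fintype.ofFinite K
  set π := QuotientGroup.mk' (Subgroup.center (GL (Fin n) L))
  have hdet : ∀ a : C, ∃ A, π A = φ a ∧ Matrix.GeneralLinearGroup.det A = 1 := by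
    intro a
    have h1 : φ a ∈ (commutator (GL (Fin n) L)).map π := by
      have h2 : (commutator C).map φ ≤ (commutator (GL (Fin n) L)).map π := by
        rw [commutator_def, commutator_def, Subgroup.map_commutator, Subgroup.map_commutator,
          ← MonoidHom.range_eq_map π, MonoidHom.range_eq_top.2 (QuotientGroup.mk'_surjective _)]
        exact Subgroup.commutator_mono le_top le_top
      exact h2 (Subgroup.mem_map_of_mem φ (hperf ▸ Subgroup.mem_top a))
    obtain ⟨A, hA, e⟩ := Subgroup.mem_map.1 h1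
    exact ⟨A, e, MonoidHom.mem_ker.1 (Abelianization.commutator_subset_ker Matrix.GeneralLinearGroup.det hA)⟩
  have hex : ∀ (r : ℕ) (t : K), ∃ B, r < P.nroots → π B = φ (x r t) ∧ B ^ p = 1 := fun r t => by
    by_cases hr : r < P.nroots
    · obtain ⟨A, hA, hA1⟩ := hdet (x r t)
      have hAp : A ^ p ∈ Subgroup.center (GL (Fin n) L) := by
        rw [← QuotientGroup.eq_one_iff, QuotientGroup.mk_pow, ← QuotientGroup.mk'_apply, hA, ← map_pow,
          x_pow H hr, CharP.cast_eq_zero, zero_mul, x_zeroC H hr, map_one]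
      obtain ⟨B, hB, hBA⟩ := exists_pLift p hA1 hAp
      refine ⟨B, fun _ => ⟨?_, hB⟩⟩
      rw [← hA]
      exact QuotientGroup.eq.2 hBA
    · exact ⟨1, fun h => absurd h hr⟩
  choose y hy using hex
  -- equality inside a positive system
  have heq : ∀ l, WordOk P l → ∀ a b : GL (Fin n) L,
      a ∈ genC y (fun q => q < P.nroots ∧ P.isPos (wl P l q) = true) →
      b ∈ genC y (fun q => q < P.nroots ∧ P.isPos (wl P l q) = true) → π a = π b → a = b := by
    intro l hl a b ha hb hab
    obtain ⟨hfin, hp⟩ := genC_word_pGroup H p hl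
    set U := (genC x fun q => q < P.nroots ∧ P.isPos (wl P l q) = true).map φ
    haveI : Finite U := Set.Finite.to_subtype ((Set.toFinite _).image φ)
    refine mul_inv_eq_one.1 (eq_one_of_mem p (S := {g | ∃ (r : ℕ) (t : K),
      (r < P.nroots ∧ P.isPos (wl P l r) = true) ∧ g = y r t}) ?_ (hp.map φ) ?_
      (mul_mem ha (inv_mem hb)) (by rw [map_mul, map_inv, hab, mul_inv_cancel]))
    · rintro _ ⟨r, t, hr, rfl⟩
      exact (hy r t hr.1).2
    · rintro _ ⟨r, t, hr, rfl⟩
      rw [(hy r t hr.1).1]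
      exact Subgroup.mem_map_of_mem φ (x_mem_genC x hr t)
  refine ⟨y, ⟨fun r hr t u => ?_, fun r s hc t u => ?_⟩, fun r hr t => (hy r t hr).1⟩
  · have hr : r < P.nroots := by simpa [okAll] using hr
    obtain ⟨l, hl, h1, -⟩ := exists_word_pos2 H hr hr (fun e => H.okD.ng_ne hr e.symm)
    refine heq l hl _ _ (mul_mem (x_mem_genC y ⟨hr, h1⟩ t) (x_mem_genC y ⟨hr, h1⟩ u)) (x_mem_genC y ⟨hr, h1⟩ _) ?_
    rw [map_mul, (hy r t hr).1, (hy r u hr).1, (hy r _ hr).1, ← map_mul, x_addC H hr]
  · obtain ⟨h2, hsr, hsn⟩ := cOk_iff.1 hc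
    obtain ⟨hr, hs⟩ : r < P.nroots ∧ s < P.nroots := by simpa [okAll] using h2
    obtain ⟨l, hl, h1, h3⟩ := exists_word_pos2 H hr hs hsn
    have hr' := x_mem_genC y (S := fun q => q < P.nroots ∧ P.isPos (wl P l q) = true) ⟨hr, h1⟩ t
    have hs' := x_mem_genC y (S := fun q => q < P.nroots ∧ P.isPos (wl P l q) = true) ⟨hs, h3⟩ u
    refine heq l hl _ _ (mul_mem (mul_mem (mul_mem (inv_mem hs') (inv_mem hr')) hs') hr')
      (list_prod_mem fun z hz => ?_) ?_
    · obtain ⟨c, hc', rfl⟩ := List.mem_map.1 hz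
      exact x_mem_genC y (word_cterms H hl hr hs h1 h3 c hc') _
    · rw [map_mul, map_mul, map_mul, map_inv, map_inv, (hy r t hr).1, (hy s u hs).1, ← map_inv, ← map_inv,
        ← map_mul, ← map_mul, ← map_mul, commC H hr hs hsr hsn, rhsW, rhsW, map_list_prod, map_list_prod,
        List.map_map, List.map_map]
      exact congrArg List.prod (List.map_congr_left fun c hc' => ((hy _ _ (H.okD.cterms_lt hr hs c hc')).1).symm)

end Small

/-- Projective representations in the natural characteristic lift uniquely. -/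
theorem exists_unique_proj_lift {D : ChevalleyDatum} {P : Pk} {K : Type*} [Field K] (h : Full D P)
    (hck : ckGen P = true) (hperf : commutator (D.SteinbergCover K) = ⊤) {L : Type*} [Field L]
    (hL : ringChar L = ringChar K) {n : ℕ}
    (φ : D.SteinbergCover K →* GL (Fin n) L ⧸ Subgroup.center (GL (Fin n) L)) :
    ∃! ψ : D.SteinbergCover K →* GL (Fin n) L,
      (QuotientGroup.mk' (Subgroup.center (GL (Fin n) L))).comp ψ = φ := by
  set π := QuotientGroup.mk' (Subgroup.center (GL (Fin n) L))
  have hker : π.ker ≤ Subgroup.center (GL (Fin n) L) := le_of_eq (QuotientGroup.ker_mk' _)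
  by_cases h5 : ∃ s : Finset K, 4 < s.card
  · exact exists_unique_lift h hck hperf h5 π (QuotientGroup.mk'_surjective _) hker φ
  haveI : Finite K := by
    by_contra hfin
    rw [not_finite_iff_infinite] at hfin
    obtain ⟨s, hs⟩ := Infinite.exists_subset_card_eq K 5
    exact h5 ⟨s, by omega⟩
  haveI : Fintype K := Fintype.ofFinite K
  haveI hcK : CharP K (ringChar K) := ringChar.charP K
  haveI hcL : CharP L (ringChar K) := hL ▸ ringChar.charP L
  haveI : Fact (ringChar K).Prime := ⟨CharP.char_is_prime K _⟩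
  obtain ⟨y, hy, hyl⟩ := exists_rel_small (cov_Sc (K := K) h) (ringChar K) hperf φ
  obtain ⟨ψ, hψ⟩ := exists_hom_of_rel h hy
  have key : π.comp ψ = φ := by
    have := (cov_Sc (K := K) h).gen ((π.comp ψ).eqLocus φ) fun r hr t => by
      show π (ψ (D.scGen K r t)) = φ (D.scGen K r t)
      rw [hψ r hr, hyl r hr]
    exact MonoidHom.ext fun g => (this ▸ Subgroup.mem_top g : g ∈ (π.comp ψ).eqLocus φ)
  exact ⟨ψ, key, fun τ hτ => lift_unique h hperf hker (hτ.trans key.symm)⟩

end Cfsg.Agent.Chev.CT
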